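import Groth.Agent.W7Hull.HomAdj
import Groth.Agent.TMul.Ample
import Groth.Agent.RelTilde.Tensor
import Groth.Agent.RefDiv.Lat

/-!
An invertible module has an inverse.
-/

set_option autoImplicit false
set_option backward.isDefEq.respectTransparency false
set_option backward.isDefEq.respectTransparency.types false

universe u

open CategoryTheory AlgebraicGeometry TopologicalSpace Opposite
open Groth.Agent.QC (res res_res res_smul app_res)
open Groth.Agent.WeakAssLib (mgerm mgerm_smul mgerm_res)
open TMul (IsGen tm)

noncomputable section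

namespace Groth.Agent.W7Hull

variable {X : Scheme.{u}}

/-- the unit section -/
def one (U : X.Opens) : Γ(Coh.structureModule X, U) := (1 : Γ(X, U))

lemma isGen_one (U : X.Opens) : IsGen (one U) := by
  intro V hV
  have h : (fun c : Γ(X, V) => c • res (Coh.structureModule X) hV (one U)) = fun c => c := by
    funext c
    change c * (X.presheaf.map (homOfLE hV).op).hom 1 = c
    rw [map_one, mul_one]
  rw [h]
  exact Function.bijective_id

variable {L : X.Modules} {U : X.Opens} (e : Γ(L, U))

/-- the coordinate on stalks attached to a generator -/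
def coordAt (he : IsGen e) {y : X} (hy : y ∈ U) : RefHull.StalkHom L (Coh.structureModule X) y :=
  (LinearEquiv.ofBijective (LinearMap.toSpanSingleton (X.presheaf.stalk y) _
      (mgerm (Coh.structureModule X) hy (one U)))
      (RefDiv.bijective_germ_of_isGen (isGen_one U) hy)).toLinearMap ∘ₗ
    (LinearEquiv.ofBijective (LinearMap.toSpanSingleton (X.presheaf.stalk y) _ (mgerm L hy e))
      (RefDiv.bijective_germ_of_isGen he hy)).symm.toLinearMap

lemma coordAt_gen (he : IsGen e) {y : X} (hy : y ∈ U) :
    coordAt e he hy (mgerm L hy e) = mgerm (Coh.structureModule X) hy (one U) := by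
  let E := LinearEquiv.ofBijective (LinearMap.toSpanSingleton (X.presheaf.stalk y) _ (mgerm L hy e))
    (RefDiv.bijective_germ_of_isGen he hy)
  have h : E.symm (mgerm L hy e) = 1 := E.injective ((E.apply_symm_apply _).trans (one_smul (X.presheaf.stalk y) (mgerm L hy e)).symm)
  change LinearMap.toSpanSingleton _ _ _ (E.symm (mgerm L hy e)) = _
  rw [h, LinearMap.toSpanSingleton_apply, one_smul]

/-- the section of the dual attached to a generator -/
def coord (he : IsGen e) : Γ(RefHull.dual L, U) :=
  ⟨fun y => coordAt e he y.2, fun V i m x => by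
    obtain ⟨c, hc⟩ := (he V i.le).2 m
    refine ⟨V, x.2, 𝟙 V, (show Γ(Coh.structureModule X, V) from
      c • res (Coh.structureModule X) i.le (one U)), fun y => ?_⟩
    change coordAt e he (i.le y.2) (mgerm L y.2 m) = mgerm (Coh.structureModule X) y.2 _
    rw [← hc, mgerm_smul, mgerm_smul, mgerm_res, mgerm_res, map_smul, coordAt_gen]⟩

/-- evaluation of the dual -/
def evDual (L : X.Modules) : CohB1.tensorMod L (RefHull.dual L) ⟶ Coh.structureModule X :=
  uncur (𝟙 (RefHull.dual L))

lemma evDual_coord (he : IsGen e) :
    (evDual L).app U (tm e (coord e he)) = (one U) :=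
  RefStalk.germ_ext fun y hy => (uncur_tm _ e (coord e he) hy).trans (coordAt_gen e he hy)

lemma isGen_coord (he : IsGen e) : IsGen (coord e he) := by
  intro V hV
  refine ⟨fun a b hab => ?_, fun h => ?_⟩
  · have h1 : ∀ c : Γ(X, V), (evDual L).app V (tm (res L hV e) (c • res (RefHull.dual L) hV (coord e he))) =
        (show Γ(Coh.structureModule X, V) from c • res (Coh.structureModule X) hV (one U)) :=
      fun c => by
        rw [TMul.tm_smul, Scheme.Modules.Hom.app_smul, ← TMul.res_tm, ← app_res, evDual_coord]
    refine (isGen_one U V hV).1 ((h1 a).symm.trans (Eq.trans ?_ (h1 b)))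
    exact congrArg (fun t => (evDual L).app V (tm (res L hV e) t)) hab
  · obtain ⟨c, hc⟩ := (isGen_one U V hV).2 ((evDual L).app V (tm (res L hV e) h))
    refine ⟨c, Subtype.ext (funext fun y => stalkHom_ext y.2 fun W hW hyW m => ?_)⟩
    obtain ⟨d, rfl⟩ := (he W (hW.trans hV)).2 m
    rw [mgerm_smul, mgerm_res, map_smul, map_smul]
    refine congrArg (_ • ·) ?_
    have h2 : mgerm (Coh.structureModule X) y.2 ((evDual L).app V (tm (res L hV e) h)) =
        h.1 y (mgerm L (hV y.2) e) := by
      refine (uncur_tm _ _ h y.2).trans ?_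
      exact congrArg (h.1 y) (mgerm_res L hV y.2 e)
    refine Eq.trans ?_ h2
    rw [← hc]
    refine Eq.trans ?_ (mgerm_smul _ y.2 c _).symm
    change X.presheaf.germ V y.1 y.2 c • coordAt e he (hV y.2) (mgerm L (hV y.2) e) = _
    rw [coordAt_gen]
    exact congrArg (_ • ·) (mgerm_res (Coh.structureModule X) hV y.2 _).symm

theorem isInvertible_dual (hL : PicF.IsInvertible L) : PicF.IsInvertible (RefHull.dual L) :=
  InvGen.isInvertible fun x => by
    obtain ⟨U, e, hx, he⟩ := TMul.exists_isGen hL x
    exact ⟨U, coord e he, hx, isGen_coord e he⟩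

theorem isIso_evDual (hL : PicF.IsInvertible L) : IsIso (evDual L) := by
  refine RelTilde.isIso_of_bijective_near _ fun x => ?_
  obtain ⟨U, e, hx, he⟩ := TMul.exists_isGen hL x
  refine ⟨U, hx, fun V hV => ?_⟩
  have hg := TMul.isGen_tm he (isGen_coord e he) V hV
  refine (Function.Bijective.of_comp_iff ((evDual L).app V) hg).1 ?_
  have h : ((evDual L).app V) ∘ (fun c : Γ(X, V) => c • res _ hV (tm e (coord e he))) =
      fun c => (show Γ(Coh.structureModule X, V) from c • res (Coh.structureModule X) hV (one U)) := by
    funext c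
    change (evDual L).app V (c • res _ hV (tm e (coord e he))) = _
    rw [Scheme.Modules.Hom.app_smul, ← app_res, evDual_coord]
  rw [h]
  exact isGen_one U V hV

/-- An invertible module has an inverse for the tensor product. -/
theorem exists_tensor_inverse (hL : PicF.IsInvertible L) :
    ∃ L' : X.Modules, PicF.IsInvertible L' ∧ Nonempty (CohB1.tensorMod L L' ≅ Coh.structureModule X) := by
  haveI := isIso_evDual hL
  exact ⟨RefHull.dual L, isInvertible_dual hL, ⟨asIso (evDual L)⟩⟩

end Groth.Agent.W7Hull
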