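import Groth.Agent.W7Hull.PushSub
import Groth.Agent.Devissage.Apply2
import Groth.Agent.CohFinite.Tensor
import Groth.Agent.CohFinite.Ample
import Groth.Agent.CohFinite.AmpleH1
import Groth.Agent.CohFinite.Sequence
import Groth.Agent.CohQC.QuasiAffine
import Groth.Agent.SymAlg.BundleMap
import Groth.Agent.TMul.AmpleBasis
import Groth.Agent.W7Hull.PushPoint
import Groth.Agent.S0012

/-!
Ampleness descends along finite surjective morphisms of proper schemes.
-/

set_option autoImplicit false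
set_option backward.isDefEq.respectTransparency false
set_option linter.style.haveILetI false

universe u

open CategoryTheory CategoryTheory.Limits AlgebraicGeometry TopologicalSpace Opposite
open Groth.Agent.QC (res resO app_res res_res res_self)

noncomputable section

namespace Groth.Agent.W7Hull

variable {X Y : Scheme.{u}}

theorem isIso_projMap_of_invertible (f : X ⟶ Y) (F : X.Modules) {K : Y.Modules}
    (hK : PicF.IsInvertible K) : IsIso (CohFinite.projMap f F K) := by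
  have key : ∀ y : Y, ∀ W : Y.Opens, y ∈ W → ∃ (V : Y.Opens) (_ : V ≤ W),
      y ∈ V ∧ Function.Bijective ((CohFinite.projMap f F K).app V) := fun y W hy => by
    obtain ⟨U, e, hyU, he⟩ := TMul.exists_isGen hK y
    let V := W ⊓ U
    have hgK : TMul.IsGen (res K (inf_le_right : V ≤ U) e) := he.res _
    have hgX : TMul.IsGen (ProjMor.eta f K V (res K (inf_le_right : V ≤ U) e)) :=
      SymAlg.isGen_pullθ f (Iso.refl ((Scheme.Modules.pullback f).obj K))
        (PicLoc.isInvertible_pullback f hK) (TMul.isQCoh_of_isInvertible hK) _ hgK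
    refine ⟨V, inf_le_left, ⟨hy, hyU⟩, ?_⟩
    have h1 := TMul.tm_bijective (M := (Scheme.Modules.pushforward f).obj F) hgK V le_rfl
    have h2 := TMul.tm_bijective (M := F) hgX (f ⁻¹ᵁ V) le_rfl
    refine (Function.Bijective.of_comp_iff _ h1).mp ?_
    refine Eq.mpr (congrArg _ (funext fun m => ?_)) h2
    refine (congrArg ((CohFinite.projMap f F K).app V)
      (congrArg (TMul.tm m) (Groth.Agent.QC.res_self K le_rfl _))).trans ?_
    refine (CohFinite.projMap_tm f F K _ _).trans ?_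
    rw [Groth.Agent.QC.res_self]
  refine GrT.isIso_of_locally _ (fun W => (injective_iff_map_eq_zero _).mpr fun t ht =>
    Groth.Agent.QC.section_eq_of_locally fun y hy => ?_) fun W t y hy => ?_
  · obtain ⟨V, hV, hyV, hb⟩ := key y W hy
    exact ⟨V, hV, hyV, hb.1 (by rw [← app_res, ht, map_zero, map_zero, map_zero])⟩
  · obtain ⟨V, hV, hyV, hb⟩ := key y W hy
    exact ⟨V, hV, hyV, hb.2 _⟩

/-- Retracts of modules with vanishing cohomology. -/
theorem hh_subsingleton_of_retract {A B : X.Modules} (p : A ⟶ B) (q : B ⟶ A) (h : q ≫ p = 𝟙 B)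
    (n : ℕ) (hA : Subsingleton (Coh.HH X A n)) : Subsingleton (Coh.HH X B n) := by
  refine @Subsingleton.intro _ fun x y => ?_
  suffices ∀ z : Coh.HH X B n, z = 0 from (this x).trans (this y).symm
  intro z
  have h1 : Sheaf.H.map ((SheafOfModules.toSheaf X.ringCatSheaf).map (𝟙 B)) n z = z := by
    rw [CategoryTheory.Functor.map_id]
    exact Abelian.Ext.comp_mk₀_id z
  rw [← h1, ← h, (SheafOfModules.toSheaf X.ringCatSheaf).map_comp, Sheaf.H.map_comp_apply,
    @Subsingleton.elim _ hA (Sheaf.H.map ((SheafOfModules.toSheaf X.ringCatSheaf).map q) n z) 0,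
    map_zero]

theorem hh_subsingleton_of_isZero {A : X.Modules} (hA : IsZero A) (n : ℕ) :
    Subsingleton (Coh.HH X A n) := by
  refine @Subsingleton.intro _ fun x y => ?_
  suffices ∀ z : Coh.HH X A n, z = 0 from (this x).trans (this y).symm
  intro z
  have h1 : Sheaf.H.map (0 : Coh.toAb A ⟶ Coh.toAb A) n z = z := by
    rw [((SheafOfModules.toSheaf X.ringCatSheaf).map_isZero hA).eq_of_src
      (0 : Coh.toAb A ⟶ Coh.toAb A) (𝟙 _)]
    exact Abelian.Ext.comp_mk₀_id z
  rw [← h1]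
  change Abelian.Ext.comp z (Abelian.Ext.mk₀ (0 : Coh.toAb A ⟶ Coh.toAb A)) (add_zero n) = 0
  rw [Abelian.Ext.mk₀_zero, Abelian.Ext.comp_zero]

theorem hh_subsingleton_middle {S : ShortComplex X.Modules} (hS : S.ShortExact) (n : ℕ)
    (h1 : Subsingleton (Coh.HH X S.X₁ n)) (h3 : Subsingleton (Coh.HH X S.X₃ n)) :
    Subsingleton (Coh.HH X S.X₂ n) := by
  have hT := hS.map_of_exact (CohQC.toAbF X)
  refine @Subsingleton.intro _ fun x y => ?_
  suffices ∀ z : Coh.HH X S.X₂ n, z = 0 from (this x).trans (this y).symm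
  intro z
  obtain ⟨w, hw⟩ := (CohFinite.map_g_eq_zero_iff hT n z).1 (@Subsingleton.elim _ h3 _ _)
  rw [← hw, @Subsingleton.elim _ h1 w 0, map_zero]

/-- Serre vanishing for `L` passes down along a jointly surjective family of finite morphisms. -/
theorem vanish_of_pullbacks [IsNoetherian X] {R : Type u} [CommRing R] [IsNoetherianRing R]
    {κ : Type*} (Ys : κ → Scheme.{u}) (gY : ∀ k, Ys k ⟶ Spec (CommRingCat.of R)) [∀ k, IsProper (gY k)]
    (f : ∀ k, Ys k ⟶ X) [∀ k, IsFinite (f k)] (hcov : ∀ x : X, ∃ k, ∃ y : Ys k, f k y = x)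
    (L : X.Modules) (hL : PicF.IsInvertible L)
    (hY : ∀ k, CohB1.IsAmple ((Scheme.Modules.pullback (f k)).obj L)) (M : X.Modules) (hM : Coh.IsCoh M) :
    ∃ n₀ : ℕ, ∀ n, n₀ ≤ n → ∀ q : ℕ,
      Subsingleton (Coh.HH X (CohB1.tensorMod M (CohB1.tensorPow L n)) (q + 1)) := by
  have ret : ∀ (A B : X.Modules) (p : A ⟶ B) (q : B ⟶ A), q ≫ p = 𝟙 B →
      (∃ n₀ : ℕ, ∀ n, n₀ ≤ n → ∀ q : ℕ,
        Subsingleton (Coh.HH X (CohB1.tensorMod A (CohB1.tensorPow L n)) (q + 1))) →
      ∃ n₀ : ℕ, ∀ n, n₀ ≤ n → ∀ q : ℕ,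
        Subsingleton (Coh.HH X (CohB1.tensorMod B (CohB1.tensorPow L n)) (q + 1)) :=
    fun A B p q h ⟨n₀, h₀⟩ => ⟨n₀, fun n hn j =>
      hh_subsingleton_of_retract (CohFinite.tmap p _) (CohFinite.tmap q _)
        (by rw [← CohFinite.tmap_comp, h, CohFinite.tmap_id]) _ (h₀ n hn j)⟩
  refine Devissage.extension_roots
    (fun A : X.Modules => ∃ n₀ : ℕ, ∀ n, n₀ ≤ n → ∀ q : ℕ,
      Subsingleton (Coh.HH X (CohB1.tensorMod A (CohB1.tensorPow L n)) (q + 1)))
    (fun A B ⟨e⟩ h => ret A B e.hom e.inv e.inv_hom_id h)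
    (fun A hA => ⟨0, fun n _ q => hh_subsingleton_of_isZero ((IsZero.iff_id_eq_zero _).2
      (by rw [← CohFinite.tmap_id, hA.eq_of_src (𝟙 A) 0, CohFinite.tmap_zero])) _⟩)
    ⊤ (fun S hS _ _ _ ⟨n₁, h₁⟩ ⟨n₃, h₃⟩ => ⟨max n₁ n₃, fun n hn q => hh_subsingleton_middle
      (CohFinite.shortExact_tmap (TMul.isInvertible_tensorPow hL n) hS) _
      (h₁ n ((le_max_left _ _).trans hn) q) (h₃ n ((le_max_right _ _).trans hn) q)⟩)
    (fun A r _ hr h => ret _ A (Sigma.desc fun _ : Fin r => 𝟙 A)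
      (Sigma.ι (fun _ : Fin r => A) ⟨0, hr⟩) (Sigma.ι_desc _ _) h)
    (fun ξ _ => Or.inr ?_) M hM (Set.subset_univ _)
  obtain ⟨k, η', hη'⟩ := hcov ξ
  haveI : IsLocallyNoetherian (Ys k) := LocallyOfFiniteType.isLocallyNoetherian (f k)
  obtain ⟨N, hN, hs, hk⟩ := exists_coh_push_point (f k) η' ξ hη'
  haveI : N.IsQuasicoherent := hN.1
  refine ⟨(Coh.push (f k)).obj N, QC.isCoh_pushforward_of_isFinite (f k) hN.2, hs.le,
    hs ▸ subset_closure rfl, hk, fun J hJ => ?_⟩
  obtain ⟨M', m, hm, hM', h0, hsurj⟩ := exists_push_sub (f k) J N hN.1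
  haveI := hm
  haveI : M'.IsQuasicoherent := hM'
  let ι' : (Coh.push (f k)).obj M' ⟶ (Dual3.idealMul J).obj ((Coh.push (f k)).obj N) :=
    kernel.lift _ ((Coh.push (f k)).map m) h0
  have hι : ι' ≫ Dual3.idealMulι J ((Coh.push (f k)).obj N) = (Coh.push (f k)).map m := kernel.lift_ι _ _ _
  haveI : Mono (ι' ≫ Dual3.idealMulι J ((Coh.push (f k)).obj N)) := by rw [hι]; infer_instance
  refine ⟨(Coh.push (f k)).obj M', ι', mono_of_mono ι' (Dual3.idealMulι J ((Coh.push (f k)).obj N)),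
    QC.isQCoh_pushforward (f k), ?_, ?_⟩
  · rw [hι]; exact hsurj ξ hJ
  · obtain ⟨n₀, h₀⟩ := CohFinite.vanish_ample (gY k) (hY k) (QC.isCoh_of_mono m hN hM')
    refine ⟨n₀, fun n hn q => ?_⟩
    obtain ⟨i⟩ := TMul.nonempty_pullPowIso (f k) L n
    haveI := isIso_projMap_of_invertible (f k) M' (TMul.isInvertible_tensorPow hL n)
    haveI : Coh.IsQCoh (CohB1.tensorMod M' ((Scheme.Modules.pullback (f k)).obj (CohB1.tensorPow L n))) :=
      TMul.isQCoh_tensor (PicLoc.isInvertible_pullback (f k) (TMul.isInvertible_tensorPow hL n))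
    have h1 : Subsingleton (Coh.HH (Ys k)
        (CohB1.tensorMod M' ((Scheme.Modules.pullback (f k)).obj (CohB1.tensorPow L n))) (q + 1)) :=
      hh_subsingleton_of_retract (PicGrp.tensorModIso (Iso.refl M') i).hom
        (PicGrp.tensorModIso (Iso.refl M') i).inv (Iso.inv_hom_id _) _ (h₀ n hn q)
    obtain ⟨e⟩ := S0012.result (f k)
      (CohB1.tensorMod M' ((Scheme.Modules.pullback (f k)).obj (CohB1.tensorPow L n))) (q + 1)
    exact hh_subsingleton_of_retract (inv (CohFinite.projMap (f k) M' (CohB1.tensorPow L n)))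
      (CohFinite.projMap (f k) M' (CohB1.tensorPow L n)) (IsIso.hom_inv_id _) _
      e.symm.toEquiv.subsingleton

theorem isAmple_of_pullbacks [IsNoetherian X] {R : Type u} [CommRing R] [IsNoetherianRing R]
    {κ : Type*} (Ys : κ → Scheme.{u}) (gY : ∀ k, Ys k ⟶ Spec (CommRingCat.of R)) [∀ k, IsProper (gY k)]
    (f : ∀ k, Ys k ⟶ X) [∀ k, IsFinite (f k)] (hcov : ∀ x : X, ∃ k, ∃ y : Ys k, f k y = x)
    (L : X.Modules) (hL : PicF.IsInvertible L)
    (hY : ∀ k, CohB1.IsAmple ((Scheme.Modules.pullback (f k)).obj L)) : CohB1.IsAmple L := by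
  refine CohFinite.isAmple_of_h1_vanish hL fun I i hi hI => ?_
  haveI := hi
  obtain ⟨n₀, h₀⟩ := vanish_of_pullbacks Ys gY f hcov L hL hY I
    (QC.isCoh_of_mono i (Devissage.isCoh_unit X) hI)
  exact ⟨n₀, h₀ (n₀ + 1) (Nat.le_succ _) 0⟩

theorem isAmple_of_pullback [IsNoetherian X] {R : Type u} [CommRing R] [IsNoetherianRing R]
    (gY : Y ⟶ Spec (CommRingCat.of R)) [IsProper gY] (f : Y ⟶ X) [IsFinite f] [Surjective f]
    (L : X.Modules) (hL : PicF.IsInvertible L)
    (hY : CohB1.IsAmple ((Scheme.Modules.pullback f).obj L)) : CohB1.IsAmple L :=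
  isAmple_of_pullbacks (fun _ : PUnit.{1} => Y) (fun _ => gY) (fun _ => f)
    (fun x => ⟨PUnit.unit, f.surjective x⟩) L hL fun _ => hY

end Groth.Agent.W7Hull
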