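import Groth.Agent.RefStalk.Coherent
import Groth.Agent.TMul.Assoc
import Groth.Prelude.Def_RefFun
import Groth.Prelude.Def_DCoh4

/-!
The hand-built sheaf Hom is right adjoint to the tensor product.
-/

set_option autoImplicit false
set_option backward.isDefEq.respectTransparency false
set_option backward.isDefEq.respectTransparency.types false

universe u

open CategoryTheory AlgebraicGeometry TopologicalSpace Opposite
open Groth.Agent.QC (res res_res res_smul app_res)
open scoped TensorProduct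
open Groth.Agent.WeakAssLib (mgerm mgerm_smul mgerm_res ext_germ)

noncomputable section

namespace Groth.Agent.W7Hull

variable {X : Scheme.{u}} {F M G : X.Modules}

/-- the pairing at a point -/
lemma pair_wd (φ : CohB1.tensorMod F M ⟶ G) {U : X.Opens} (m : Γ(M, U)) {x : X} {V₁ V₂ : X.Opens}
    (h₁ : V₁ ≤ U) (h₂ : V₂ ≤ U) (x₁ : x ∈ V₁) (x₂ : x ∈ V₂) (a₁ : Γ(F, V₁)) (a₂ : Γ(F, V₂))
    (e : mgerm F x₁ a₁ = mgerm F x₂ a₂) :
    mgerm G x₁ (φ.app V₁ (TMul.tm a₁ (res M h₁ m))) = mgerm G x₂ (φ.app V₂ (TMul.tm a₂ (res M h₂ m))) := by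
  obtain ⟨W, hxW, i₁, i₂, hW⟩ := TopCat.Presheaf.germ_eq F.presheaf x x₁ x₂ a₁ a₂ e
  rw [← mgerm_res G i₁.le hxW, ← mgerm_res G i₂.le hxW, app_res φ, app_res φ, TMul.res_tm,
    TMul.res_tm, res_res, res_res]
  exact congrArg (fun t => mgerm G hxW (φ.app W (TMul.tm t _))) hW

lemma exists_rep {U : X.Opens} {x : X} (hx : x ∈ U) (v : F.presheaf.stalk x) :
    ∃ (V : X.Opens) (_ : V ≤ U) (hxV : x ∈ V) (a : Γ(F, V)), mgerm F hxV a = v := by
  obtain ⟨V, hV, a, rfl⟩ := TopCat.Presheaf.exists_germ_eq F.presheaf v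
  exact ⟨V ⊓ U, inf_le_right, ⟨hV, hx⟩, res F inf_le_left a, mgerm_res F inf_le_left ⟨hV, hx⟩ a⟩

/-- the value of the pairing -/
def pairVal (φ : CohB1.tensorMod F M ⟶ G) {U : X.Opens} (m : Γ(M, U)) {x : X} (hx : x ∈ U)
    (v : F.presheaf.stalk x) : G.presheaf.stalk x :=
  mgerm G (exists_rep hx v).choose_spec.choose_spec.choose
    (φ.app _ (TMul.tm (exists_rep hx v).choose_spec.choose_spec.choose_spec.choose
      (res M (exists_rep hx v).choose_spec.choose m)))

lemma pairVal_germ (φ : CohB1.tensorMod F M ⟶ G) {U : X.Opens} (m : Γ(M, U)) {x : X} (hx : x ∈ U)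
    {V : X.Opens} (h : V ≤ U) (hxV : x ∈ V) (a : Γ(F, V)) :
    pairVal φ m hx (mgerm F hxV a) = mgerm G hxV (φ.app V (TMul.tm a (res M h m))) :=
  pair_wd φ m _ h _ hxV _ a
    (exists_rep hx (mgerm F hxV a)).choose_spec.choose_spec.choose_spec.choose_spec

/-- the pairing as a linear map of stalks -/
def pairAt (φ : CohB1.tensorMod F M ⟶ G) {U : X.Opens} (m : Γ(M, U)) {x : X} (hx : x ∈ U) :
    RefHull.StalkHom F G x where
  toFun := pairVal φ m hx
  map_add' v w := by
    obtain ⟨V, hV, hxV, a, rfl⟩ := exists_rep hx v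
    obtain ⟨V', hV', hxV', b, rfl⟩ := exists_rep hx w
    rw [← mgerm_res F (inf_le_left : V ⊓ V' ≤ V) ⟨hxV, hxV'⟩,
      ← mgerm_res F (inf_le_right : V ⊓ V' ≤ V') ⟨hxV, hxV'⟩, ← map_add,
      pairVal_germ φ m hx (inf_le_left.trans hV), pairVal_germ φ m hx (inf_le_left.trans hV),
      pairVal_germ φ m hx (inf_le_left.trans hV), ← map_add, TMul.tm_add, map_add]
  map_smul' r v := by
    obtain ⟨V, hV, hxV, a, rfl⟩ := exists_rep hx v
    obtain ⟨V', hxV', c, rfl⟩ := TopCat.Presheaf.exists_germ_eq X.presheaf r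
    rw [← mgerm_res F (inf_le_left : V ⊓ V' ≤ V) ⟨hxV, hxV'⟩,
      ← TopCat.Presheaf.germ_res_apply X.presheaf (homOfLE (inf_le_right : V ⊓ V' ≤ V')) x ⟨hxV, hxV'⟩ c,
      ← mgerm_smul, pairVal_germ φ m hx (inf_le_left.trans hV), pairVal_germ φ m hx (inf_le_left.trans hV),
      TMul.smul_tm, Scheme.Modules.Hom.app_smul, mgerm_smul]
    rfl

lemma pairAt_germ (φ : CohB1.tensorMod F M ⟶ G) {U : X.Opens} (m : Γ(M, U)) {x : X} (hx : x ∈ U)
    {V : X.Opens} (h : V ≤ U) (hxV : x ∈ V) (a : Γ(F, V)) :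
    pairAt φ m hx (mgerm F hxV a) = mgerm G hxV (φ.app V (TMul.tm a (res M h m))) :=
  pairVal_germ φ m hx h hxV a

lemma stalkHom_ext {x : X} {U : X.Opens} (hx : x ∈ U) {f g : RefHull.StalkHom F G x}
    (e : ∀ (V : X.Opens) (_ : V ≤ U) (hxV : x ∈ V) (a : Γ(F, V)), f (mgerm F hxV a) = g (mgerm F hxV a)) :
    f = g := by
  refine LinearMap.ext fun v => ?_
  obtain ⟨V, hV, hxV, a, rfl⟩ := exists_rep hx v
  exact e V hV hxV a

/-- transposition on sections -/
def curFun (φ : CohB1.tensorMod F M ⟶ G) (U : X.Opens) : Γ(M, U) →+ Γ(RefHull.homSh F G, U) where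
  toFun m := ⟨fun x => pairAt φ m x.2, fun V i a x =>
    ⟨V, x.2, 𝟙 V, φ.app V (TMul.tm a (res M i.le m)), fun y => pairAt_germ φ m _ i.le y.2 a⟩⟩
  map_zero' := Subtype.ext <| funext fun x => stalkHom_ext x.2 fun V hV hxV a => by
    rw [pairAt_germ φ _ x.2 hV hxV, show res M hV (0 : Γ(M, U)) = (0 : Γ(X, V)) • (0 : Γ(M, V)) by
      rw [map_zero, smul_zero], TMul.tm_smul, zero_smul, map_zero, map_zero]
    rfl
  map_add' m m' := Subtype.ext <| funext fun x => stalkHom_ext x.2 fun V hV hxV a => by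
    change pairAt φ (m + m') x.2 (mgerm F hxV a) =
      pairAt φ m x.2 (mgerm F hxV a) + pairAt φ m' x.2 (mgerm F hxV a)
    rw [pairAt_germ φ _ x.2 hV hxV, pairAt_germ φ _ x.2 hV hxV, pairAt_germ φ _ x.2 hV hxV, map_add,
      TMul.add_tm, map_add, map_add]

/-- transposition -/
def cur (φ : CohB1.tensorMod F M ⟶ G) : M ⟶ RefHull.homSh F G :=
  ⟨PresheafOfModules.homMk
    { app := fun U => AddCommGrpCat.ofHom (curFun φ U.unop)
      naturality := fun {U V} i => by
        ext m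
        refine Subtype.ext (funext fun x => stalkHom_ext x.2 fun W hW hxW a => ?_)
        change pairAt φ (res M (leOfHom i.unop) m) x.2 (mgerm F hxW a) = pairAt φ m _ (mgerm F hxW a)
        rw [pairAt_germ φ _ x.2 hW hxW, pairAt_germ φ m _ (hW.trans (leOfHom i.unop)) hxW, res_res] }
    (fun U r m => Subtype.ext <| funext fun x => stalkHom_ext x.2 fun W hW hxW a => by
      change pairAt φ ((show Γ(X, U.unop) from r) • (show Γ(M, U.unop) from m)) x.2 (mgerm F hxW a) =
        X.presheaf.germ U.unop x.1 x.2 r • pairAt φ m x.2 (mgerm F hxW a)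
      rw [pairAt_germ φ _ x.2 hW hxW, pairAt_germ φ _ x.2 hW hxW, res_smul, TMul.tm_smul,
        Scheme.Modules.Hom.app_smul, mgerm_smul]
      exact congrArg (· • _) (TopCat.Presheaf.germ_res_apply X.presheaf _ _ _ _))⟩

lemma cur_app (φ : CohB1.tensorMod F M ⟶ G) {U V : X.Opens} (m : Γ(M, U)) {x : X} (hx : x ∈ U)
    (h : V ≤ U) (hxV : x ∈ V) (a : Γ(F, V)) :
    ((cur φ).app U m).1 ⟨x, hx⟩ (mgerm F hxV a) = mgerm G hxV (φ.app V (TMul.tm a (res M h m))) :=
  pairAt_germ φ m hx h hxV a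

/-- applying a section of the sheaf Hom -/
def ev {U : X.Opens} (g : Γ(RefHull.homSh F G, U)) (a : Γ(F, U)) : Γ(G, U) :=
  (RefStalk.exists_app g le_rfl a).choose

lemma germ_ev {U : X.Opens} (g : Γ(RefHull.homSh F G, U)) (a : Γ(F, U)) {y : X} (hy : y ∈ U) :
    mgerm G hy (ev g a) = g.1 ⟨y, hy⟩ (mgerm F hy a) :=
  (RefStalk.exists_app g le_rfl a).choose_spec y hy

/-- the bilinear map of a morphism into the sheaf Hom -/
def evBil (g : M ⟶ RefHull.homSh F G) (U : X.Opens) :
    Γ(F, U) →ₗ[Γ(X, U)] Γ(M, U) →ₗ[Γ(X, U)] Γ(G, U) :=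
  LinearMap.mk₂ _ (fun a m => ev (g.app U m) a)
    (fun a a' m => RefStalk.germ_ext fun y hy => by
      rw [map_add, germ_ev, germ_ev, germ_ev, map_add, map_add])
    (fun r a m => RefStalk.germ_ext fun y hy => by
      rw [mgerm_smul, germ_ev, germ_ev, mgerm_smul, map_smul])
    (fun a m m' => RefStalk.germ_ext fun y hy => by
      refine (germ_ev _ _ hy).trans ?_
      refine Eq.trans ?_ ((map_add (mgerm G hy) _ _).trans (congrArg₂ (· + ·) (germ_ev _ _ hy) (germ_ev _ _ hy))).symm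
      rw [map_add]
      rfl)
    (fun r a m => RefStalk.germ_ext fun y hy => by
      rw [mgerm_smul, germ_ev, germ_ev, Scheme.Modules.Hom.app_smul]
      rfl)

lemma evBil_res (g : M ⟶ RefHull.homSh F G) {V U : X.Opens} (h : V ≤ U) (a : Γ(F, U)) (m : Γ(M, U)) :
    res G h (evBil g U a m) = evBil g V (res F h a) (res M h m) := by
  refine RefStalk.germ_ext fun y hy => ?_
  change mgerm G hy (res G h (ev (g.app U m) a)) = mgerm G hy (ev (g.app V (res M h m)) (res F h a))
  rw [mgerm_res, germ_ev, germ_ev, mgerm_res, ← app_res g]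
  rfl

/-- transposition back -/
def uncur (g : M ⟶ RefHull.homSh F G) : CohB1.tensorMod F M ⟶ G :=
  TMul.lift (evBil g) (fun {_ _} h a m => evBil_res g h a m)

lemma uncur_tm (g : M ⟶ RefHull.homSh F G) {U : X.Opens} (a : Γ(F, U)) (m : Γ(M, U)) {y : X} (hy : y ∈ U) :
    mgerm G hy ((uncur g).app U (TMul.tm a m)) = (g.app U m).1 ⟨y, hy⟩ (mgerm F hy a) := by
  rw [uncur, TMul.lift_tm]
  exact germ_ev _ _ hy

/-- the adjunction bijection -/
def curEquiv : (CohB1.tensorMod F M ⟶ G) ≃ (M ⟶ RefHull.homSh F G) where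
  toFun := cur
  invFun := uncur
  left_inv φ := TMul.hom_ext fun U a m => RefStalk.germ_ext fun y hy => by
    rw [uncur_tm, cur_app φ m hy le_rfl hy]
    exact congrArg (fun t => mgerm G hy (φ.app U (TMul.tm a t))) (QC.res_self M _ m)
  right_inv g := by
    apply Scheme.Modules.hom_ext
    intro U
    ext m
    refine Subtype.ext (funext fun x => stalkHom_ext x.2 fun V hV hxV a => ?_)
    rw [cur_app (uncur g) m x.2 hV hxV, uncur_tm, ← app_res g]
    rfl

lemma map_tm {N N' : X.Modules} (F : X.Modules) (f : N ⟶ N') {U : X.Opens} (a : Γ(F, U)) (b : Γ(N, U)) :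
    (((DCoh.tensorBi (X := X)).obj F).map f).app U (TMul.tm a b) = TMul.tm a (f.app U b) := by
  let adj := PresheafOfModules.sheafificationAdjunction.{u, u, u, u} (J := Opens.grothendieckTopology X) (𝟙 X.ringCatSheaf.obj)
  let g := MonoidalCategory.whiskerLeft (CohB1.toPMod F) (DCoh.toP.map f)
  exact (congr(($(adj.unit.naturality g)).app (op U) (a ⊗ₜ[Γ(X, U)] b))).symm

/-- the tensor product is left adjoint to the sheaf Hom -/
def homShAdj (F : X.Modules) : (DCoh.tensorBi (X := X)).obj F ⊣ RefFun.homFunctor F :=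
  Adjunction.mkOfHomEquiv
    { homEquiv := fun M G => curEquiv
      homEquiv_naturality_left_symm := fun {M M' G} f g => by
        refine TMul.hom_ext fun U a m => RefStalk.germ_ext fun y hy => ?_
        change mgerm G hy ((uncur (f ≫ g)).app U (TMul.tm a m)) =
          mgerm G hy ((uncur g).app U ((((DCoh.tensorBi (X := X)).obj F).map f).app U (TMul.tm a m)))
        rw [uncur_tm, map_tm, uncur_tm]
        rfl
      homEquiv_naturality_right := fun {M G G'} φ γ => by
        apply Scheme.Modules.hom_ext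
        intro U
        ext m
        refine Subtype.ext (funext fun x => stalkHom_ext x.2 fun V hV hxV a => ?_)
        change pairAt (φ ≫ γ) m x.2 (mgerm F hxV a) =
          RefHull.stalkMapₗ γ x.1 (pairAt φ m x.2 (mgerm F hxV a))
        rw [pairAt_germ _ m x.2 hV hxV, pairAt_germ _ m x.2 hV hxV]
        exact (RefHull.stalkMapₗ_germ γ x.1 hxV _).symm }

theorem hasSheafHom_sch (F : X.Modules) : DCoh.HasSheafHom F := (homShAdj F).isLeftAdjoint

/-- the abstract sheaf Hom is the sheaf of local homomorphisms -/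
def sheafHomIso (F : X.Modules) [DCoh.HasSheafHom F] : DCoh.sheafHom F ≅ RefFun.homFunctor F :=
  (DCoh.sheafHomAdj F).rightAdjointUniq (homShAdj F)

end Groth.Agent.W7Hull
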