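import Groth.Agent.RPushQC.Acyclic
import Groth.Agent.CohQC.Relative
import Groth.Agent.SiteCoh.ClosedPush
import Groth.Agent.GrothSS.ChangeRings
import Groth.Agent.GrothSS.SupportSS
import Groth.Agent.GrothSS.Ext

/-!
Vanishing of higher direct images on an affine cover; direct images along closed immersions.
-/

set_option autoImplicit false
set_option backward.isDefEq.respectTransparency false
set_option linter.style.haveILetI false

universe u

open CategoryTheory CategoryTheory.Limits AlgebraicGeometry TopologicalSpace Opposite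
open Groth.Agent.SiteCoh

noncomputable section

namespace Groth.Agent.W7Hull

variable {X S : Scheme.{u}}

/-- Over an affine open the sections of `R^q f_*` are the cohomology of the inverse image. -/
theorem hu_equiv_sections (f : X ⟶ S) [QuasiCompact f] [QuasiSeparated f] (M : X.Modules)
    (hM : Coh.IsQCoh M) {V : S.Opens} (hV : IsAffineOpen V) (q : ℕ) :
    Nonempty (CohSite.HU (Coh.toAb M) q (f ⁻¹ᵁ V) ≃+
      ↑(((Coh.RpushAb f q).obj (Coh.toAb M)).obj.obj (op V))) := by
  let R := injectiveResolution (Coh.toAb M)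
  let e := fun n => R.isoRightDerivedObj (CohTop.push f.base) n
  obtain ⟨a⟩ := homology_sections (Opens.map f.base) R (J' := Opens.grothendieckTopology S) V
    (fun n p => push_injective_acyclic f.base (R.cocomplex.X n) V p)
    (fun n => acyc_of_iso (e n) fun p => RPushQC.hu_rpushAb_vanish f M hM hV p n) q
  exact ⟨a.trans (((sheafToPresheaf _ _).mapIso (e q)).app (op V)).symm.addCommGroupIsoToAddEquiv⟩

/-- `R^q f_*` vanishes as soon as the cohomology over an affine cover vanishes. -/
theorem isZero_rpushAb_of_cover (f : X ⟶ S) [QuasiCompact f] [QuasiSeparated f] (M : X.Modules)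
    (hM : Coh.IsQCoh M) (q : ℕ)
    (h : ∀ y : S, ∃ W : S.Opens, IsAffineOpen W ∧ y ∈ W ∧
      Subsingleton (CohSite.HU (Coh.toAb M) q (f ⁻¹ᵁ W))) :
    IsZero ((Coh.RpushAb f q).obj (Coh.toAb M)) := by
  obtain ⟨N, hN, ⟨e⟩⟩ := RPushQC.exists_qcoh_iso_rpushAb f M hM q
  suffices hz : IsZero N from ((SheafOfModules.toSheaf S.ringCatSheaf).map_isZero hz).of_iso e.symm
  refine (IsZero.iff_id_eq_zero _).2 (Scheme.Modules.hom_ext _ _ fun V => ?_)
  ext (s : Γ(N, V))
  refine QC.section_eq_of_locally fun y hy => ?_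
  obtain ⟨W, hW, hyW, hs⟩ := h y
  obtain ⟨g, hg, hyg⟩ := hW.exists_basicOpen_le (V := V) ⟨y, hy⟩ hyW
  refine ⟨S.basicOpen g, hg, hyg, ?_⟩
  obtain ⟨b⟩ := hu_equiv_sections f M hM hW q
  haveI : Subsingleton Γ(N, W) :=
    ((((sheafToPresheaf _ _).mapIso e).app (op W)).addCommGroupIsoToAddEquiv.trans b.symm).toEquiv.subsingleton
  have hz : ∀ t : Γ(N, S.basicOpen g), t = 0 := fun t => by
    obtain ⟨n, s', hs'⟩ := (QC.isLoc_of_isQCoh hW (hM := hN)).exists_extend g t
    rw [Subsingleton.elim s' 0, map_zero] at hs'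
    have hu : IsUnit (QC.resO S (S.basicOpen_le g) g) := S.toRingedSpace.isUnit_res_basicOpen g
    exact (hu.pow n).smul_eq_zero.1 hs'.symm
  exact (hz _).trans (hz _).symm

/-- `R^q f_*` of the direct image along a closed immersion. -/
theorem nonempty_rpush_push_iso {Z : Scheme.{u}} (i : Z ⟶ X) [IsClosedImmersion i] (f : X ⟶ S)
    [HasInjectiveResolutions X.Modules] [HasInjectiveResolutions Z.Modules] (G : Z.Modules) (q : ℕ) :
    Nonempty ((Coh.Rpush f q).obj ((Coh.push i).obj G) ≅ (Coh.Rpush (i ≫ f) q).obj G) := by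
  haveI : EnoughInjectives X.Modules :=
    haveI : IsGrothendieckAbelian.{u} X.Modules := ModSiteGro.isGrothendieckAbelian (R := X.ringCatSheaf)
    inferInstance
  haveI : PreservesFiniteLimits (Coh.push i) := GrothSS.preservesFiniteLimits_push i
  haveI : PreservesFiniteColimits (Coh.push i) := GrothSS.preservesFiniteColimits_push i
  haveI : PreservesFiniteLimits (Coh.push f) := by
    haveI : PreservesLimitsOfSize.{0, 0} (Coh.push f) :=
      (Scheme.Modules.pullbackPushforwardAdjunction f).rightAdjoint_preservesLimits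
    infer_instance
  obtain ⟨e⟩ := GrothSS.nonempty_rightDerived_comp_acyclic (Coh.push i) (Coh.push f)
    (fun Q hQ r hr => by
      obtain ⟨r', rfl⟩ : ∃ r', r = r' + 1 := ⟨r - 1, by omega⟩
      haveI := hQ
      have hfl : RPushQC.IsFlasque ((Coh.push i).obj Q) := fun {U V} h =>
        RPushQC.isFlasque_of_injective Q (i.preimage_mono h)
      haveI := RPushQC.isFlasque_toAb hfl
      obtain ⟨c⟩ := CohQC.toAb_rpush_iso f ((Coh.push i).obj Q) (r' + 1)
      have hz : IsZero ((Coh.RpushAb f (r' + 1)).obj (Coh.toAb ((Coh.push i).obj Q))) :=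
        SiteCoh.isZero_rpush_of_locKilled (K := _) (u := Opens.map f.base) fun V ξ => by
          haveI := flasque_acyclic (Coh.toAb ((Coh.push i).obj Q)) ((Opens.map f.base).obj V) r'
          exact ⟨⊤, GrothendieckTopology.top_mem _ _, fun W g _ => by
            rw [@Subsingleton.elim _ this ξ 0, Abelian.Ext.comp_zero]⟩
      rw [IsZero.iff_id_eq_zero]
      apply (SheafOfModules.toSheaf S.ringCatSheaf).map_injective
      exact (hz.of_iso c).eq_of_src _ _) q G
  exact ⟨e.symm ≪≫ (GrothSS.rightDerivedMapIso (Scheme.Modules.pushforwardComp i f) q).app G⟩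

end Groth.Agent.W7Hull
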