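import Groth.Agent.W7Hull.HomAdj
import Groth.Agent.RefStalk.Eval
import Groth.Agent.DepthHom.Basic
import Groth.Agent.LocH.DepthMisc
import Groth.Agent.RegDual.Scheme

/-!
Stalks of the sheaf Hom of coherent modules: depth and support.
-/

set_option autoImplicit false
set_option backward.isDefEq.respectTransparency false
set_option backward.isDefEq.respectTransparency.types false

universe u

open CategoryTheory AlgebraicGeometry TopologicalSpace Opposite

noncomputable section

namespace Groth.Agent.W7Hull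

variable {X : Scheme.{u}}

theorem nonempty_stalk_sheafHom (F G : X.Modules) (hF : CohB1.IsFP F) [DCoh.HasSheafHom F] (x : X) :
    Nonempty (((DCoh.sheafHom F).obj G).presheaf.stalk x ≃ₗ[X.presheaf.stalk x] RefHull.StalkHom F G x) := by
  let e := (sheafHomIso F).app G
  let φ := RefHull.stalkMapₗ e.hom x
  let ψ := RefHull.stalkMapₗ e.inv x
  have h1 : ψ.comp φ = LinearMap.id := by
    rw [← RefFun.stalkMapₗ_comp, e.hom_inv_id, RefFun.stalkMapₗ_id]
  have h2 : φ.comp ψ = LinearMap.id := by
    rw [← RefFun.stalkMapₗ_comp, e.inv_hom_id, RefFun.stalkMapₗ_id]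
  let a : ((DCoh.sheafHom F).obj G).presheaf.stalk x ≃ₗ[X.presheaf.stalk x] (RefHull.homSh F G).presheaf.stalk x :=
    { φ with
      invFun := ψ
      left_inv := fun v => LinearMap.congr_fun h1 v
      right_inv := fun v => LinearMap.congr_fun h2 v }
  exact ⟨a.trans
    (LinearEquiv.ofBijective (RefHull.evalStalk F G x) (RefStalk.evalStalk_bijective hF x))⟩

variable [IsLocallyNoetherian X]

theorem le_depth_sheafHom (F G : X.Modules) (hF : Coh.IsCoh F) (hG : Coh.IsCoh G) [DCoh.HasSheafHom F]
    (x : X) (n : ℕ) (hn : n ≤ 2) (h : (n : ℕ∞) ≤ LocCoh.depth (X.presheaf.stalk x) ↑(G.presheaf.stalk x)) :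
    (n : ℕ∞) ≤ LocCoh.depth (X.presheaf.stalk x) ↑(((DCoh.sheafHom F).obj G).presheaf.stalk x) := by
  obtain ⟨e⟩ := nonempty_stalk_sheafHom F G ((haveI := hF.1; QC.isFP_of_isQCoh_of_isFT hF.2)) x
  haveI := RegDual.finite_stalk hF x
  haveI := RegDual.finite_stalk hG x
  exact (DepthHom.le_idealDepth_hom _ n hn h).trans_eq (LocH.idealDepth_congr e _).symm

lemma supportDim_hom_le {R : Type u} [CommRing R] [IsNoetherianRing R] (M N : Type u) [AddCommGroup M]
    [Module R M] [Module.Finite R M] [AddCommGroup N] [Module R N] [Module.Finite R N] :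
    Module.supportDim R (M →ₗ[R] N) ≤ Module.supportDim R N := by
  haveI : Module.Finite R (M →ₗ[R] N) := inferInstance
  have hsub : Module.support R (M →ₗ[R] N) ⊆ Module.support R N := by
    rw [Module.support_eq_zeroLocus, Module.support_eq_zeroLocus]
    refine PrimeSpectrum.zeroLocus_anti_mono fun r hr => ?_
    rw [SetLike.mem_coe, Module.mem_annihilator] at hr ⊢
    exact fun f => LinearMap.ext fun m => hr (f m)
  exact Order.krullDim_le_of_strictMono (fun p => ⟨p.1, hsub p.2⟩) fun p q h => h

theorem supportDim_sheafHom_le (F G : X.Modules) (hF : Coh.IsCoh F) (hG : Coh.IsCoh G) [DCoh.HasSheafHom F]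
    (x : X) : Module.supportDim (X.presheaf.stalk x) ↑(((DCoh.sheafHom F).obj G).presheaf.stalk x) ≤
      Module.supportDim (X.presheaf.stalk x) ↑(G.presheaf.stalk x) := by
  obtain ⟨e⟩ := nonempty_stalk_sheafHom F G ((haveI := hF.1; QC.isFP_of_isQCoh_of_isFT hF.2)) x
  haveI := RegDual.finite_stalk hF x
  haveI := RegDual.finite_stalk hG x
  exact (Module.supportDim_eq_of_equiv e).trans_le (supportDim_hom_le _ _)

end Groth.Agent.W7Hull
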