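import Groth.Agent.W7Hull.HomAdj
import Groth.Agent.GrothSS.ChangeRings

/-!
Sheaf Hom and direct image: adjunction.
-/

set_option autoImplicit false
set_option backward.isDefEq.respectTransparency false
set_option backward.isDefEq.respectTransparency.types false
set_option linter.style.haveILetI false

universe u

open CategoryTheory CategoryTheory.Limits AlgebraicGeometry TopologicalSpace Opposite

noncomputable section

namespace Groth.Agent.W7Hull

variable {X Y : Scheme.{u}} (f : X ⟶ Y)

/-- pulling back a tensor product, as functors of the second variable -/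
def pullTensorNatIso (F : Y.Modules) :
    Scheme.Modules.pullback f ⋙ (DCoh.tensorBi (X := X)).obj ((Scheme.Modules.pullback f).obj F) ≅
      (DCoh.tensorBi (X := Y)).obj F ⋙ Scheme.Modules.pullback f :=
  NatIso.ofComponents (fun N => KFlat.pullTensorIso f F N)
    (fun b => KFlat.pullTensorIso_natural_right f F b)

/-- `f_* Hom(f^*F, N) ≅ Hom(F, f_* N)`, natural in `N`. -/
def pushHomIso (F : Y.Modules) :
    RefFun.homFunctor ((Scheme.Modules.pullback f).obj F) ⋙ Scheme.Modules.pushforward f ≅
      Scheme.Modules.pushforward f ⋙ RefFun.homFunctor F :=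
  Adjunction.rightAdjointUniq
    ((((Scheme.Modules.pullbackPushforwardAdjunction f).comp
      (homShAdj ((Scheme.Modules.pullback f).obj F))).ofNatIsoLeft (pullTensorNatIso f F)))
    ((homShAdj F).comp (Scheme.Modules.pullbackPushforwardAdjunction f))

end Groth.Agent.W7Hull
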