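import Groth.Agent.W7Hull.FibreQuot
import Groth.Agent.W7Hull.PushHom
import Groth.Agent.W7Hull.HomDepth
import Groth.Agent.W7Cech.NNStatements
import Groth.Agent.RefStalk.Generic
import Groth.Agent.SchDense.Unit
import Groth.Agent.DerPerf.Local

/-!
Morphisms of locally free modules lift from the closed fibre when the first cohomology vanishes.
-/

set_option autoImplicit false
set_option backward.isDefEq.respectTransparency false
set_option backward.isDefEq.respectTransparency.types false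
set_option linter.style.haveILetI false
set_option maxHeartbeats 1000000

universe u

open CategoryTheory CategoryTheory.Limits AlgebraicGeometry TopologicalSpace Opposite
open Groth.Agent.QC (res res_res res_smul app_res)

noncomputable section

namespace Groth.Agent.W7Hull

variable {X : Scheme.{u}}

theorem isFinLocFree_homSh [IsLocallyNoetherian X] {F G : X.Modules} (hF : FlatMod.IsFinLocFree F)
    (hG : FlatMod.IsFinLocFree G) : FlatMod.IsFinLocFree (RefHull.homSh F G) := by
  have hFc : Coh.IsCoh F := ⟨LocFree.isQCoh_of_isFinLocFree hF, LocFree.isFT_of_isFinLocFree hF⟩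
  have hGc : Coh.IsCoh G := ⟨LocFree.isQCoh_of_isFinLocFree hG, LocFree.isFT_of_isFinLocFree hG⟩
  have h := RefStalk.isCoh_homSh hFc hGc
  haveI := h.1
  refine LocFree.isFinLocFree_of_isFP_of_flat h.1 (QC.isFP_of_isQCoh_of_isFT h.2) fun x => ?_
  haveI := LocFree.free_stalk_of_isFinLocFree hF x
  haveI := LocFree.free_stalk_of_isFinLocFree hG x
  haveI := RegDual.finite_stalk hFc x
  haveI := RegDual.finite_stalk hGc x
  haveI : Module.Flat (X.presheaf.stalk x) (RefHull.StalkHom F G x) := inferInstance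
  exact Module.Flat.of_linearEquiv (LinearEquiv.ofBijective (RefHull.evalStalk F G x)
    (RefStalk.evalStalk_bijective (LocFree.isFP_of_isFinLocFree hF) x))

theorem isFlatOver_of_isFinLocFree {S : Scheme.{u}} (f : X ⟶ S) [Flat f] {M : X.Modules}
    (hM : FlatMod.IsFinLocFree M) : FlatMod.IsFlatOver f M := by
  intro x
  obtain ⟨V, hV, hxV, -⟩ := exists_isAffineOpen_mem_and_subset (X := S) (x := f x) (U := ⊤) trivial
  obtain ⟨U, hU, hxU, hUV⟩ := exists_isAffineOpen_mem_and_subset (X := X) (x := x) (U := f ⁻¹ᵁ V) hxV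
  refine (FlatModB.flat_sections_iff f M (LocFree.isQCoh_of_isFinLocFree hM) hU hV hUV).1 ?_ x hxU
  letI : Algebra Γ(S, V) Γ(X, U) := (f.appLE V U hUV).hom.toAlgebra
  haveI : Module.Flat Γ(S, V) Γ(X, U) :=
    RingHom.flat_algebraMap_iff.1 (Flat.flat_appLE f hV hU (e := hUV))
  haveI := LocFree.projective_sections hM hU
  letI := FlatModB.secModule f M U V hUV
  haveI : IsScalarTower Γ(S, V) Γ(X, U) Γ(M, U) := IsScalarTower.of_algebraMap_smul fun _ _ => rfl
  exact Module.Flat.trans Γ(S, V) Γ(X, U) Γ(M, U)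

variable (A : Type u) [CommRing A] [IsNoetherianRing A] [IsLocalRing A] [X.Over (Spec (CommRingCat.of A))]

local notation "π₀" => (X ↘ Spec (CommRingCat.of A))
local notation "y₀" => IsLocalRing.closedPoint A
local notation "g₀" => Scheme.fromSpecResidueField (Spec (CommRingCat.of A)) y₀
local notation "ι₀" => Scheme.Hom.fiberι π₀ y₀

lemma isClosedImmersion_fiber : IsClosedImmersion ι₀ := by
  haveI : IsClosedImmersion g₀ :=
    (isClosed_singleton_iff_isClosedImmersion).1 (IsLocalRing.isClosed_singleton_closedPoint A)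
  exact MorphismProperty.of_isPullback (P := @IsClosedImmersion)
    (IsPullback.of_hasPullback π₀ g₀).flip ‹_›

/-- the restriction of the sheaf Hom to the closed fibre, seen on `X` -/
theorem exists_unit_homSh_iso {F G : X.Modules} [IsLocallyNoetherian X] (hF : FlatMod.IsFinLocFree F)
    (hG : FlatMod.IsFinLocFree G) :
    ∃ θ : (Scheme.Modules.pushforward ι₀).obj ((Scheme.Modules.pullback ι₀).obj (RefHull.homSh F G)) ≅
        RefHull.homSh F ((Scheme.Modules.pushforward ι₀).obj ((Scheme.Modules.pullback ι₀).obj G)),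
      (Scheme.Modules.pullbackPushforwardAdjunction ι₀).unit.app (RefHull.homSh F G) ≫ θ.hom =
        RefFun.homMap F ((Scheme.Modules.pullbackPushforwardAdjunction ι₀).unit.app G) := by
  haveI := isClosedImmersion_fiber (X := X) A
  obtain ⟨n, a, ha⟩ := Submodule.fg_iff_exists_fin_generating_family.1
    (IsNoetherian.noetherian (IsLocalRing.maximalIdeal A))
  exact IsQuot.exists_iso
    (isQuot_unit a ha (RefHull.homSh F G) (LocFree.isQCoh_of_isFinLocFree (isFinLocFree_homSh hF hG)))
    ((isQuot_unit a ha G (LocFree.isQCoh_of_isFinLocFree hG)).homMap hF)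

/-- the restriction of the sheaf Hom is the sheaf Hom of the restrictions -/
theorem nonempty_fiber_homSh_iso {F G : X.Modules} [IsLocallyNoetherian X] (hF : FlatMod.IsFinLocFree F)
    (hG : FlatMod.IsFinLocFree G) :
    Nonempty ((Scheme.Modules.pullback ι₀).obj (RefHull.homSh F G) ≅
      RefHull.homSh ((Scheme.Modules.pullback ι₀).obj F) ((Scheme.Modules.pullback ι₀).obj G)) := by
  haveI := isClosedImmersion_fiber (X := X) A
  obtain ⟨θ, -⟩ := exists_unit_homSh_iso A hF hG
  exact GrothSS.nonempty_iso_of_push ι₀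
    (θ ≪≫ ((pushHomIso ι₀ F).app ((Scheme.Modules.pullback ι₀).obj G)).symm)

lemma mem_range_of_isBC {L : (Spec (CommRingCat.of A)).Modules}
    (K : (Spec ((Spec (CommRingCat.of A)).residueField y₀)).Modules) (θ : L ⟶ (Scheme.Modules.pushforward g₀).obj K)
    (e : (⊤ : (Spec ((Spec (CommRingCat.of A)).residueField y₀)).Opens) ≤ g₀ ⁻¹ᵁ ⊤)
    (h : RelTilde.IsBC g₀ θ e) (t : Γ(K, ⊤)) : ∃ s : Γ(L, ⊤), RelTilde.resθ g₀ θ e s = t := by
  let r := RelTilde.resθ g₀ θ e
  let S : Submodule Γ(Spec ((Spec (CommRingCat.of A)).residueField y₀), ⊤) Γ(K, ⊤) :=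
    { carrier := Set.range r
      add_mem' := by rintro _ _ ⟨a, rfl⟩ ⟨b, rfl⟩; exact ⟨a + b, map_add r a b⟩
      zero_mem' := ⟨0, map_zero r⟩
      smul_mem' := by
        rintro b _ ⟨a, rfl⟩
        obtain ⟨c, rfl⟩ := (appLE_point 0 e).2 b
        exact ⟨c • a, map_smulₛₗ r c a⟩ }
  obtain ⟨f, -, huniq⟩ := h (Γ(K, ⊤) ⧸ S) 0
  have h1 := huniq S.mkQ fun m => (Submodule.Quotient.mk_eq_zero S).2 ⟨m, rfl⟩
  have h2 := huniq 0 fun m => rfl
  exact (Submodule.Quotient.mk_eq_zero S).1 (LinearMap.congr_fun (h1.trans h2.symm) t)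

set_option maxHeartbeats 2000000 in
theorem unit_app_surjective [IsProper π₀] [HasInjectiveResolutions X.Modules] (H : X.Modules)
    (hq : Coh.IsQCoh H) (hF : CohB1.IsFP H) (hfl : FlatMod.IsFlatOver π₀ H)
    (h1 : Subsingleton (CohIII.fiberH π₀ H y₀ 1)) :
    Function.Surjective (((Scheme.Modules.pullbackPushforwardAdjunction ι₀).unit.app H).app ⊤) := by
  haveI : LocallyOfFinitePresentation π₀ := by
    rw [HasRingHomProperty.iff_appLE (P := @LocallyOfFinitePresentation)]
    rintro ⟨V, hV⟩ ⟨U, hU⟩ e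
    have : IsNoetherianRing Γ(Spec (CommRingCat.of A), V) := IsLocallyNoetherian.component_noetherian ⟨V, hV⟩
    exact RingHom.FinitePresentation.of_finiteType.1 (Scheme.Hom.finiteType_appLE π₀ hV hU e)
  obtain ⟨U, hyU, hU⟩ := W7Cech.exists_nhd_vanish_nn π₀ hq hF hfl 1 y₀ h1
  have hUtop : U = ⊤ := top_unique fun z _ => (IsLocalRing.specializes_closedPoint z).mem_open U.2 hyU
  obtain ⟨m⟩ := W7Cech.nonempty_ModelNN π₀ hq hF hfl (isAffineOpen_top (Spec (CommRingCat.of A)))
  have he : (CohIII.TFun m.L 0).PreservesEpimorphisms :=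
    (W7Cech.T_epi_iff_mono_succ m.L (W7Cech.flatX m.L m.hL) 0).2
      (W7Cech.isZero_T_of_isZero_homology_all m.L (fun M => by
        exact m.isZero_T π₀ 1 (fun z hz => hU z (hUtop ▸ hz)) M)).1
  let e : (⊤ : (Spec ((Spec (CommRingCat.of A)).residueField y₀)).Opens) ≤ g₀ ⁻¹ᵁ ⊤ := le_top
  have sq : IsPullback ι₀ (Scheme.Hom.fiberToSpecResidueField π₀ y₀) π₀ g₀ := IsPullback.of_hasPullback π₀ g₀
  have hbc := W7Cech.isBC_bc0Adj π₀ hq hfl (isAffineOpen_top _) m he sq (isAffineOpen_top _) e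
  intro t
  let K := (Scheme.Modules.pushforward (Scheme.Hom.fiberToSpecResidueField π₀ y₀)).obj ((Scheme.Modules.pullback ι₀).obj H)
  obtain ⟨s, hs⟩ := mem_range_of_isBC A K _ e hbc (show Γ(K, ⊤) from t)
  refine ⟨(show Γ(H, ⊤) from s), ?_⟩
  refine Eq.trans ?_ hs
  symm
  refine (res_res _ _ _ _).trans ?_
  exact QC.res_self _ _ _

end Groth.Agent.W7Hull
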