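import Groth.Prelude.Def_Twist2
import Groth.Agent.W7Cech.NNStatements
import Groth.Agent.W7Cech.RpushSec
import Groth.Agent.W7Cech.TwistInv
import Groth.Agent.InfLift.SchemeSmallExt
import Groth.Agent.ProjMor.VAmpleApply
import Groth.Agent.CohFinite.Serre
import Groth.Agent.DerPush.Basic
import Groth.Agent.HQProj.Basic
import Groth.Agent.CohFinite.RPushCoh
import Groth.Agent.W7Hull.AmpleSurj

/-!
The direct images of the large twists of a flat sheaf are locally free.
-/

set_option autoImplicit false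
set_option backward.isDefEq.respectTransparency false
set_option backward.isDefEq.respectTransparency.types false
set_option linter.style.haveILetI false
set_option maxHeartbeats 1000000

universe u

open CategoryTheory CategoryTheory.Limits AlgebraicGeometry TopologicalSpace Opposite
open Groth.Agent.FlatCx
open scoped TensorProduct

noncomputable section

namespace Groth.Agent.W7Hull

/-- A bounded complex of free modules without homology in positive degrees is universally so. -/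
theorem isZero_T_of_homology_above {A : Type u} [CommRing A] (L : CochainComplex (ModuleCat.{u} A) ℤ)
    (hL : ∀ i, Module.Finite A (L.X i) ∧ Module.Free A (L.X i)) (b : ℤ) (hb : ∀ i, b < i → IsZero (L.X i))
    (h : ∀ p : ℕ, Subsingleton (Hm L ((p : ℤ) + 1))) (n : ℤ) (hn : 1 ≤ n) (M : ModuleCat.{u} A) :
    IsZero (CohIII.T L n M) := by
  have hf := W7Cech.flatX L hL
  have key : ∀ (k : ℕ) (n : ℤ), 1 ≤ n → b - n < k → ∀ M : ModuleCat.{u} A, IsZero (CohIII.T L n M) := by
    intro k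
    induction k with
    | zero => exact fun n _ hk M => W7Cech.isZero_T_of_isZero L n (hb n (by omega)) M
    | succ k ih =>
      intro n hn hk M
      have he := (W7Cech.T_epi_iff_mono_succ L hf n).2
        (W7Cech.isZero_T_of_isZero_homology_all L (ih (n + 1) (by omega) (by omega))).1
      have hW := (preservesEpi_iff_flat_opc L n hf (W7Cech.up_prev_next n)).1 he
      obtain ⟨q, rfl⟩ : ∃ q : ℕ, n = (q : ℤ) + 1 := ⟨(n - 1).toNat, by omega⟩
      haveI := h q
      haveI : Subsingleton (Hm L ((q : ℤ) + 1) ⊗[A] M) := inferInstance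
      haveI : Subsingleton ((CohIII.TFun L ((q : ℤ) + 1)).obj M) :=
        (comparison_bijective L ((q : ℤ) + 1) hf hW M).2.subsingleton
      exact ModuleCat.isZero_of_subsingleton ((CohIII.TFun L ((q : ℤ) + 1)).obj M)
  exact key (b - n).toNat.succ n hn (by omega) M

variable {X S : Scheme.{u}}

/-- Without higher direct images the direct image of a flat sheaf is locally free. -/
theorem isFinLocFree_push_of_vanish (f : X ⟶ S) [IsProper f] [LocallyOfFinitePresentation f]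
    [HasInjectiveResolutions X.Modules] {F : X.Modules} (hq : Coh.IsQCoh F) (hF : CohB1.IsFP F)
    (hfl : FlatMod.IsFlatOver f F)
    (h : ∀ y : S, ∃ W : S.Opens, y ∈ W ∧ ∀ V : S.Opens, IsAffineOpen V → V ≤ W → ∀ p : ℕ,
      Subsingleton Γ((Coh.Rpush f (p + 1)).obj F, V)) :
    FlatMod.IsFinLocFree ((Coh.push f).obj F) := by
  intro y
  obtain ⟨W, hyW, hW⟩ := h y
  obtain ⟨U, hyU, -, ⟨e⟩⟩ := W7Cech.locFree_of_good_nn f hq hF hfl 0 W (fun V hV hVW m =>
    W7Cech.good_of_adjacent m.L m.hL ((0 : ℕ) : ℤ) (fun M => m.hneg _ (by simp) M) fun M =>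
      isZero_T_of_homology_above m.L m.hL m.b m.hb (fun p => by
        haveI := hW V hV hVW p
        exact (m.hR (p + 1)).some.symm.injective.subsingleton) _ (by simp) M) y hyW
  exact ⟨U, _, hyU, ⟨(Scheme.Modules.restrictFunctor U.ι).mapIso
    (((Coh.push f).rightDerivedZeroIsoSelf).app F).symm ≪≫ e⟩⟩

lemma nonempty_twistOver_pow (r : ℕ) (Y : Scheme.{u}) (n : ℕ) :
    Nonempty (Twist.twistOver r Y (n : ℤ) ≅ CohB1.tensorPow (Twist.twistOver r Y 1) n) := by
  obtain ⟨e⟩ := GrT.nonempty_iso_tensorPow (𝒜 := CohB1.polyGrading r (ULift.{u} ℤ)) (CohFinite.cov_one r _) n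
  obtain ⟨k⟩ := TMul.nonempty_pullPowIso
    (pullback.fst (CohB1.ProjSpace.toSpec r (ULift.{u} ℤ)) (specULiftZIsTerminal.from Y))
    (Twist.twistProjSpace r (ULift.{u} ℤ) 1) n
  exact ⟨(Scheme.Modules.pullback _).mapIso e ≪≫ k.symm⟩

lemma isInvertible_twistOver_one (r : ℕ) (Y : Scheme.{u}) : PicF.IsInvertible (Twist.twistOver r Y 1) :=
  PicLoc.isInvertible_pullback _ (GrT.isInvertible_twist (CohFinite.cov_one r _) 1)

lemma isFinLocFree_of_iso {M N : X.Modules} (e : M ≅ N) (h : FlatMod.IsFinLocFree M) :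
    FlatMod.IsFinLocFree N := fun x => by
  obtain ⟨U, n, hx, ⟨i⟩⟩ := h x
  exact ⟨U, n, hx, ⟨(Scheme.Modules.restrictFunctor U.ι).mapIso e.symm ≪≫ i⟩⟩

lemma isCoh_restrict' {U X : Scheme.{u}} (j : U ⟶ X) [IsOpenImmersion j] {M : X.Modules} (hM : Coh.IsCoh M) :
    Coh.IsCoh (M.restrict j) :=
  CohFinite.isCoh_of_iso ((Scheme.Modules.restrictFunctorIsoPullback j).app M).symm (QC.isCoh_pullback j hM)

lemma isAmple_restrict_twist (r : ℕ) {X Y : Scheme.{u}} (i : X ⟶ CohB1.ProjSpaceOver r Y) [IsImmersion i]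
    [QuasiCompact (i ≫ CohB1.ProjSpaceOver.toBase r Y)] {W : Y.Opens} (hW : IsAffineOpen W) :
    CohB1.IsAmple (((Scheme.Modules.pullback i).obj (Twist.twistOver r Y 1)).restrict
      ((i ≫ CohB1.ProjSpaceOver.toBase r Y) ⁻¹ᵁ W).ι) := by
  let f := i ≫ CohB1.ProjSpaceOver.toBase r Y
  haveI : IsAffine W.toScheme := hW
  haveI : CompactSpace (f ⁻¹ᵁ W).toScheme :=
    isCompact_iff_compactSpace.mp (QuasiCompact.isCompact_preimage (f := f) W W.2 hW.isCompact)
  let i' : (f ⁻¹ᵁ W).toScheme ⟶ CohB1.ProjSpaceOver r W.toScheme :=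
    pullback.lift ((f ⁻¹ᵁ W).ι ≫ i ≫ ProjMor.pz r Y) (f ∣_ W) (specULiftZIsTerminal.hom_ext _ _)
  let m : CohB1.ProjSpaceOver r W.toScheme ⟶ CohB1.ProjSpaceOver r Y :=
    pullback.lift (ProjMor.pz r W.toScheme) (CohB1.ProjSpaceOver.toBase r W.toScheme ≫ W.ι)
      (specULiftZIsTerminal.hom_ext _ _)
  have hi'1 : i' ≫ ProjMor.pz r W.toScheme = (f ⁻¹ᵁ W).ι ≫ i ≫ ProjMor.pz r Y := pullback.lift_fst _ _ _
  have hm : i' ≫ m = (f ⁻¹ᵁ W).ι ≫ i := by
    refine pullback.hom_ext ?_ ?_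
    · rw [Category.assoc, pullback.lift_fst, hi'1]; exact (Category.assoc _ _ _).symm
    · rw [Category.assoc, pullback.lift_snd, ← Category.assoc]
      erw [pullback.lift_snd]
      rw [morphismRestrict_ι, Category.assoc]
      rfl
  haveI : IsImmersion (i' ≫ m) := by rw [hm]; infer_instance
  haveI : IsImmersion i' := IsImmersion.of_comp i' m
  exact TMul.isAmple_congr ((Scheme.Modules.pullbackComp i' (ProjMor.pz r W.toScheme)).app _ ≪≫
      (Scheme.Modules.pullbackCongr (hi'1.trans (Category.assoc _ _ _).symm)).app _ ≪≫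
      ((Scheme.Modules.pullbackComp ((f ⁻¹ᵁ W).ι ≫ i) (ProjMor.pz r Y)).app _).symm ≪≫
      ((Scheme.Modules.pullbackComp (f ⁻¹ᵁ W).ι i).app _).symm ≪≫
      ((Scheme.Modules.restrictFunctorIsoPullback (f ⁻¹ᵁ W).ι).app _).symm)
    (TMul.isAmple_pullback i' i'.isEmbedding.isInducing (ProjMor.isAmple_twistOver r W.toScheme))

lemma subsingleton_rpush_sections_of_le {X S : Scheme.{u}} (f : X ⟶ S) [QuasiCompact f] [QuasiSeparated f]
    [HasInjectiveResolutions X.Modules] (M : X.Modules) (hM : Coh.IsQCoh M) (p : ℕ) {V W : S.Opens}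
    (hV : IsAffineOpen V) (hW : IsAffineOpen W) (hWV : W ≤ V)
    (h : Subsingleton (Coh.HH (f ⁻¹ᵁ V).toScheme (M.restrict (f ⁻¹ᵁ V).ι) p)) :
    Subsingleton Γ((Coh.Rpush f p).obj M, W) := by
  obtain ⟨e⟩ := W7Cech.nonempty_rpush_sections f M hM p hV
  haveI := e.injective.subsingleton
  let R := (Coh.Rpush f p).obj M
  have hR : Coh.IsQCoh R := RPushQC.isQCoh_rpush f M hM p
  have hz : IsZero (R.restrict V.ι) := by
    refine CohFinite.isZero_of_affine_cover (R.restrict V.ι) (Groth.Agent.QC.isQCoh_restrict _ hR)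
      (fun _ : Unit => (⊤ : V.toScheme.Opens)) (fun _ => haveI : IsAffine V.toScheme := hV; isAffineOpen_top _)
      (fun x => ⟨(), trivial⟩) fun _ s => ?_
    refine (R.restrictAppIso V.ι ⊤).addCommGroupIsoToAddEquiv.injective ?_
    have key : ∀ U : S.Opens, U = V → ∀ a b : Γ(R, U), a = b := by
      rintro _ rfl a b; exact Subsingleton.elim a b
    exact key _ (Scheme.Opens.ι_image_top V) _ _
  have hsub : Subsingleton Γ(R.restrict V.ι, V.ι ⁻¹ᵁ W) := subsingleton_of_forall_eq 0 fun t => by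
    have h0 := congr($(hz.eq_of_src (𝟙 (R.restrict V.ι)) 0).app (V.ι ⁻¹ᵁ W) t)
    simpa using h0
  have hsub' := ((R.restrictAppIso V.ι (V.ι ⁻¹ᵁ W)).addCommGroupIsoToAddEquiv.toEquiv.subsingleton_congr).1 hsub
  have key : ∀ U : S.Opens, U = W → Subsingleton Γ(R, U) → Subsingleton Γ(R, W) := by
    rintro _ rfl h; exact h
  exact key _ (by rw [Scheme.Hom.image_preimage_eq_opensRange_inf, Scheme.Opens.opensRange_ι,
    inf_eq_right.2 hWV]) hsub'

theorem exists_locFree_push_twist (r : ℕ) {Y : Scheme.{u}} [IsNoetherian Y] (i : X ⟶ CohB1.ProjSpaceOver r Y)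
    [IsClosedImmersion i] (F : X.Modules) (hF : Coh.IsCoh F)
    (hfl : FlatMod.IsFlatOver (i ≫ CohB1.ProjSpaceOver.toBase r Y) F) :
    ∃ n₀ : ℤ, ∀ n : ℤ, n₀ ≤ n → FlatMod.IsFinLocFree ((Coh.push (i ≫ CohB1.ProjSpaceOver.toBase r Y)).obj
      (CohB1.tensorMod F ((Scheme.Modules.pullback i).obj (Twist.twistOver r Y n)))) := by
  let f := i ≫ CohB1.ProjSpaceOver.toBase r Y
  haveI : IsProper (CohB1.ProjSpaceOver.toBase r Y) := HQProj.isProper_toBase r Y
  haveI : IsProper f := inferInstance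
  haveI : IsLocallyNoetherian X := LocallyOfFiniteType.isLocallyNoetherian f
  haveI : LocallyOfFinitePresentation f := InfLift.lfp_of_lft f
  let L := (Scheme.Modules.pullback i).obj (Twist.twistOver r Y 1)
  have hL : PicF.IsInvertible L := PicLoc.isInvertible_pullback i (isInvertible_twistOver_one r Y)
  have hcov : ∀ y : Y, ∃ V : Y.affineOpens, y ∈ V.1 := fun y => by
    obtain ⟨V, hV, hy, -⟩ := exists_isAffineOpen_mem_and_subset (X := Y) (x := y) (U := ⊤) trivial
    exact ⟨⟨V, hV⟩, hy⟩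
  choose V hV using hcov
  obtain ⟨t, ht⟩ := isCompact_univ.elim_finite_subcover (fun y : Y => ((V y).1 : Set Y)) (fun y => (V y).1.2)
    fun y _ => Set.mem_iUnion.2 ⟨y, hV y⟩
  have hbound : ∀ y : Y, ∃ n₀ : ℕ, ∀ k, n₀ ≤ k → ∀ p : ℕ, Subsingleton (Coh.HH (f ⁻¹ᵁ (V y).1).toScheme
      ((CohB1.tensorMod F (CohB1.tensorPow L k)).restrict (f ⁻¹ᵁ (V y).1).ι) (p + 1)) := by
    intro y
    let U := f ⁻¹ᵁ (V y).1
    haveI : IsAffine ((V y).1 : Scheme.{u}) := (V y).2
    haveI := IsLocallyNoetherian.component_noetherian (V y)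
    obtain ⟨n₀, hn₀⟩ := CohFinite.vanish_ample ((f ∣_ (V y).1) ≫ (V y).2.isoSpec.hom)
      (L := L.restrict U.ι) (isAmple_restrict_twist r i (V y).2) (isCoh_restrict' U.ι hF)
    refine ⟨n₀, fun k hk p => ?_⟩
    obtain ⟨a⟩ := TMul.nonempty_restrictPowIso U.ι L k
    obtain ⟨c⟩ := TMul.nonempty_restrictTensorIso U.ι F (CohB1.tensorPow L k)
    exact hh_subsingleton_of_retract (PicGrp.tensorModIso (Iso.refl _) a ≪≫ c).hom
      (PicGrp.tensorModIso (Iso.refl _) a ≪≫ c).inv (Iso.inv_hom_id _) _ (hn₀ k hk p)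
  choose N hN using hbound
  refine ⟨(t.sup N : ℕ), fun n hn => ?_⟩
  obtain ⟨k, rfl⟩ : ∃ k : ℕ, n = k := ⟨n.toNat, by omega⟩
  have hk : t.sup N ≤ k := by exact_mod_cast hn
  obtain ⟨e⟩ := nonempty_twistOver_pow r Y k
  obtain ⟨e'⟩ := TMul.nonempty_pullPowIso i (Twist.twistOver r Y 1) k
  let G := CohB1.tensorMod F (CohB1.tensorPow L k)
  let j : CohB1.tensorMod F ((Scheme.Modules.pullback i).obj (Twist.twistOver r Y k)) ≅ G :=
    PicGrp.tensorModIso (Iso.refl F) ((Scheme.Modules.pullback i).mapIso e ≪≫ e'.symm)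
  refine isFinLocFree_of_iso ((Coh.push f).mapIso j).symm ?_
  have hLk := TMul.isInvertible_tensorPow hL k
  haveI := hF.1
  refine isFinLocFree_push_of_vanish f (TMul.isQCoh_tensor hLk)
    (W7Cech.isFP_tensor_invertible (QC.isFP_of_isQCoh_of_isFT hF.2) hLk)
    (W7Cech.isFlatOver_tensor_invertible f hF.1 hfl hLk) fun z => ?_
  obtain ⟨y, hy⟩ := Set.mem_iUnion.1 (ht (Set.mem_univ z))
  obtain ⟨hyt, hzy⟩ := Set.mem_iUnion.1 hy
  refine ⟨(V y).1, hzy, fun W hW hWV p => ?_⟩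
  exact subsingleton_rpush_sections_of_le f G (TMul.isQCoh_tensor hLk) (p + 1) (V y).2 hW hWV
    (hN y k ((Finset.le_sup hyt).trans hk) p)

end Groth.Agent.W7Hull
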