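import Groth.Agent.KFlat.SchemeStalk
import Groth.Agent.DerPush.Basic
import Groth.Agent.QC.SubSheaf
import Groth.Prelude.Def_DerSch
import Groth.Prelude.Def_MeroDiv
import Mathlib

/-!
Subobjects of modules on a scheme through their stalks.
-/

set_option autoImplicit false
set_option backward.isDefEq.respectTransparency false
set_option linter.style.haveILetI false

universe u

open CategoryTheory CategoryTheory.Limits AlgebraicGeometry TopologicalSpace Opposite

noncomputable section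

namespace Groth.Agent.W7Hull

variable {X : Scheme.{u}} {M N A B : X.Modules}

/-- the stalk map -/
abbrev st (φ : M ⟶ N) (x : X) : M.presheaf.stalk x →ₗ[X.presheaf.stalk x] N.presheaf.stalk x :=
  ((DerSch.stalkFunctor X x).map φ).hom

lemma st_germ (φ : M ⟶ N) {x : X} {U : X.Opens} (hx : x ∈ U) (s : Γ(M, U)) :
    st φ x (M.presheaf.germ U x hx s) = N.presheaf.germ U x hx (φ.app U s) :=
  DerSch.stalkFunctor_map_germ x φ U hx s

lemma st_comp (φ : M ⟶ N) (ψ : N ⟶ A) (x : X) (z : M.presheaf.stalk x) :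
    st (φ ≫ ψ) x z = st ψ x (st φ x z) := by
  obtain ⟨U, hx, s, rfl⟩ := TopCat.Presheaf.exists_germ_eq M.presheaf z
  rw [st_germ, st_germ, st_germ]
  rfl

lemma st_id (x : X) (z : M.presheaf.stalk x) : st (𝟙 M) x z = z := by
  obtain ⟨U, hx, s, rfl⟩ := TopCat.Presheaf.exists_germ_eq M.presheaf z
  rw [st_germ]
  rfl

lemma st_zero (x : X) (z : M.presheaf.stalk x) : st (0 : M ⟶ N) x z = 0 := by
  obtain ⟨U, hx, s, rfl⟩ := TopCat.Presheaf.exists_germ_eq M.presheaf z
  rw [st_germ]
  exact map_zero _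

/-- sections are equal if their germs are -/
lemma section_ext {U : X.Opens} (s t : Γ(M, U))
    (h : ∀ x (hx : x ∈ U), M.presheaf.germ U x hx s = M.presheaf.germ U x hx t) : s = t :=
  TopCat.Presheaf.section_ext (C := AddCommGrpCat.{u})
    ((SheafOfModules.toSheaf X.ringCatSheaf).obj M) U s t h

lemma hom_ext_stalk {φ ψ : M ⟶ N} (h : ∀ x, st φ x = st ψ x) : φ = ψ := by
  refine Scheme.Modules.hom_ext _ _ fun U => ?_
  ext (s : Γ(M, U))
  exact section_ext _ _ fun x hx =>
    ((st_germ φ hx s).symm.trans (LinearMap.congr_fun (h x) _)).trans (st_germ ψ hx s)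

lemma eq_zero_of_stalk {φ : M ⟶ N} (h : ∀ x z, st φ x z = 0) : φ = 0 :=
  hom_ext_stalk fun x => LinearMap.ext fun z => (h x z).trans (st_zero x z).symm

lemma st_injective (φ : M ⟶ N) [Mono φ] (x : X) : Function.Injective (st φ x) :=
  (ModuleCat.mono_iff_injective _).1 (Functor.map_mono (DerSch.stalkFunctor X x) φ)

lemma mono_of_stalk {φ : M ⟶ N} (h : ∀ x, Function.Injective (st φ x)) : Mono φ := by
  constructor
  intro Z g g' e
  refine hom_ext_stalk fun x => LinearMap.ext fun z => h x ?_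
  rw [← st_comp, ← st_comp, e]

lemma epi_of_stalk {φ : M ⟶ N} (h : ∀ x, Function.Surjective (st φ x)) : Epi φ := by
  constructor
  intro Z g g' e
  refine hom_ext_stalk fun x => LinearMap.ext fun z => ?_
  obtain ⟨z, rfl⟩ := h x z
  rw [← st_comp, ← st_comp, e]

lemma st_exact_cokernel (i : M ⟶ N) (x : X) (z : N.presheaf.stalk x)
    (hz : st (cokernel.π i) x z = 0) : z ∈ LinearMap.range (st i x) := by
  let S := ShortComplex.mk i (cokernel.π i) (cokernel.condition i)
  have hS : S.Exact := ShortComplex.exact_of_g_is_cokernel S (cokernelIsCokernel i)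
  obtain ⟨w, hw⟩ := (ShortComplex.moduleCat_exact_iff _).1 (hS.map (DerSch.stalkFunctor X x)) z hz
  exact ⟨w, hw⟩

lemma st_exact_kernel (g : M ⟶ N) (x : X) (z : M.presheaf.stalk x)
    (hz : st g x z = 0) : z ∈ LinearMap.range (st (kernel.ι g) x) := by
  let S := ShortComplex.mk (kernel.ι g) g (kernel.condition g)
  have hS : S.Exact := ShortComplex.exact_of_f_is_kernel S (kernelIsKernel g)
  obtain ⟨w, hw⟩ := (ShortComplex.moduleCat_exact_iff _).1 (hS.map (DerSch.stalkFunctor X x)) z hz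
  exact ⟨w, hw⟩

/-- the stalk of a subobject -/
def stImg (S : Subobject M) (x : X) : Submodule (X.presheaf.stalk x) (M.presheaf.stalk x) :=
  LinearMap.range (st S.arrow x)

lemma stImg_mk (φ : A ⟶ M) [Mono φ] (x : X) :
    stImg (Subobject.mk φ) x = LinearMap.range (st φ x) := by
  apply le_antisymm
  · rintro _ ⟨z, rfl⟩
    exact ⟨st (Subobject.underlyingIso φ).hom x z,
      (st_comp _ _ x z).symm.trans (by rw [Subobject.underlyingIso_hom_comp_eq_mk])⟩
  · rintro _ ⟨z, rfl⟩
    exact ⟨st (Subobject.underlyingIso φ).inv x z,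
      (st_comp _ _ x z).symm.trans (by rw [Subobject.underlyingIso_arrow])⟩

lemma stImg_mono {S T : Subobject M} (h : S ≤ T) (x : X) : stImg S x ≤ stImg T x := by
  rintro _ ⟨z, rfl⟩
  exact ⟨st (Subobject.ofLE S T h) x z, (st_comp _ _ x z).symm.trans (by rw [Subobject.ofLE_arrow])⟩

lemma le_of_stImg {S T : Subobject M} (h : ∀ x, stImg S x ≤ stImg T x) : S ≤ T := by
  have h0 : S.arrow ≫ cokernel.π T.arrow = 0 := eq_zero_of_stalk fun x z => by
    obtain ⟨w, hw⟩ := h x ⟨z, rfl⟩
    rw [st_comp, ← hw, ← st_comp, cokernel.condition, st_zero]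
  exact Subobject.le_of_comm (Abelian.monoLift T.arrow S.arrow h0)
    (Abelian.monoLift_comp _ _ _)

lemma stImg_bot (x : X) : stImg (⊥ : Subobject M) x = ⊥ := by
  rw [eq_bot_iff]
  rintro _ ⟨z, rfl⟩
  rw [Subobject.bot_arrow, st_zero]
  exact Submodule.zero_mem _

lemma eq_bot_of_stImg {S : Subobject M} (h : ∀ x, stImg S x ≤ ⊥) : S = ⊥ :=
  le_bot_iff.1 (le_of_stImg fun x => (h x).trans bot_le)

lemma stImg_inf (S T : Subobject M) (x : X) : stImg (S ⊓ T) x = stImg S x ⊓ stImg T x := by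
  refine le_antisymm (le_inf (stImg_mono inf_le_left x) (stImg_mono inf_le_right x)) ?_
  rintro _ ⟨⟨z, rfl⟩, ⟨w, hw⟩⟩
  let g := S.arrow ≫ cokernel.π T.arrow
  have hz : st g x z = 0 := by
    rw [st_comp, ← hw, ← st_comp, cokernel.condition, st_zero]
  obtain ⟨v, hv⟩ := st_exact_kernel g x z hz
  have hle : Subobject.mk (kernel.ι g ≫ S.arrow) ≤ S ⊓ T := by
    refine le_inf (Subobject.mk_le_of_comm (kernel.ι g) rfl)
      (Subobject.mk_le_of_comm (Abelian.monoLift T.arrow (kernel.ι g ≫ S.arrow) ?_)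
        (Abelian.monoLift_comp _ _ _))
    rw [Category.assoc]
    exact kernel.condition g
  refine stImg_mono hle x ?_
  rw [stImg_mk]
  exact ⟨v, (st_comp _ _ x v).trans (congrArg _ hv)⟩

lemma stImg_iSup {κ : Type u} (S : κ → Subobject M) (x : X) :
    stImg (⨆ i, S i) x = ⨆ i, stImg (S i) x := by
  refine le_antisymm ?_ (iSup_le fun i => stImg_mono (le_iSup S i) x)
  let d : (∐ fun i => (S i : X.Modules)) ⟶ M := Sigma.desc fun i => (S i).arrow
  have h : ⨆ i, S i ≤ imageSubobject d := iSup_le fun i =>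
    Subobject.le_of_comm (Sigma.ι (fun i => (S i : X.Modules)) i ≫ factorThruImageSubobject d)
      (by rw [Category.assoc, imageSubobject_arrow_comp, Sigma.ι_desc])
  refine (stImg_mono h x).trans ?_
  rintro _ ⟨z, rfl⟩
  have : Epi ((DerSch.stalkFunctor X x).map (factorThruImageSubobject d)) := Functor.map_epi _ _
  obtain ⟨w, rfl⟩ := (ModuleCat.epi_iff_surjective _).1 this z
  let P := ⨆ i, stImg (S i) x
  have h0 : (DerSch.stalkFunctor X x).map d ≫ ModuleCat.ofHom P.mkQ = 0 := by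
    refine (isColimitOfHasCoproductOfPreservesColimit (DerSch.stalkFunctor X x)
      (fun i => (S i : X.Modules))).hom_ext fun ⟨i⟩ => ?_
    simp only [Cofan.mk_pt, Cofan.mk_ι_app, comp_zero]
    rw [← Functor.map_comp_assoc, Sigma.ι_desc]
    ext v
    exact (Submodule.Quotient.mk_eq_zero P).2
      (le_iSup (fun j => stImg (S j) x) i ⟨v, rfl⟩)
  have h1 := LinearMap.congr_fun (congrArg ModuleCat.Hom.hom h0) w
  have h2 : st (imageSubobject d).arrow x (st (factorThruImageSubobject d) x w) = st d x w := by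
    rw [← st_comp, imageSubobject_arrow_comp]
  exact h2.symm ▸ (Submodule.Quotient.mk_eq_zero P).1 h1

/-- a section whose germs come from a submodule comes from it -/
lemma mem_range_app (i : A ⟶ M) [Mono i] {U : X.Opens} (s : Γ(M, U))
    (h : ∀ x (hx : x ∈ U), M.presheaf.germ U x hx s ∈ LinearMap.range (st i x)) :
    ∃ a : Γ(A, U), i.app U a = s := by
  have hloc : ∀ x : U, ∃ (W : X.Opens) (hW : W ≤ U) (_ : x.1 ∈ W) (a : Γ(A, W)),
      i.app W a = QC.res M hW s := by
    rintro ⟨x, hx⟩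
    obtain ⟨z, hz⟩ := h x hx
    obtain ⟨V, hxV, a, rfl⟩ := TopCat.Presheaf.exists_germ_eq A.presheaf z
    rw [st_germ] at hz
    obtain ⟨W, hxW, i₁, i₂, e⟩ := TopCat.Presheaf.germ_eq M.presheaf x hxV hx _ _ hz
    refine ⟨W, i₂.le, hxW, QC.res A i₁.le a, ?_⟩
    rw [← QC.app_res]
    exact e
  choose W hW hxW a ha using hloc
  have hcompat : ∀ p q : U, QC.res A inf_le_left (a p) = QC.res A (inf_le_right : W p ⊓ W q ≤ W q) (a q) := by
    intro p q
    refine QC.app_injective_of_mono i _ ?_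
    rw [← QC.app_res, ← QC.app_res, ha, ha, QC.res_res, QC.res_res]
  have hU : U ≤ iSup W := fun x hx => Opens.mem_iSup.2 ⟨⟨x, hx⟩, hxW _⟩
  obtain ⟨b, hb, -⟩ := TopCat.Sheaf.existsUnique_gluing' (QC.abSheaf A) W U
    (fun p => homOfLE (hW p)) hU a hcompat
  refine ⟨b, section_ext _ _ fun x hx => ?_⟩
  have hb' : QC.res A (hW ⟨x, hx⟩) b = a ⟨x, hx⟩ := hb ⟨x, hx⟩
  have hr : ∀ t : Γ(M, U), M.presheaf.germ (W ⟨x, hx⟩) x (hxW _) (QC.res M (hW _) t) =
      M.presheaf.germ U x hx t := fun t => TopCat.Presheaf.germ_res_apply M.presheaf _ x _ t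
  rw [← hr, ← hr, QC.app_res, hb', ha]

/-- the subsheaf of sections with germs in given stalk submodules -/
def subOf (N : ∀ x : X, Submodule (X.presheaf.stalk x) (M.presheaf.stalk x)) : QC.Sub M where
  obj O :=
    { carrier := {s | ∀ x (hx : x ∈ O), M.presheaf.germ O x hx s ∈ N x}
      add_mem' := fun {a b} ha hb x hx => by rw [map_add]; exact (N x).add_mem (ha x hx) (hb x hx)
      zero_mem' := fun x hx => by rw [map_zero]; exact (N x).zero_mem
      smul_mem' := fun c a ha x hx => by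
        rw [Mero.germ_smul M O x hx c a]; exact (N x).smul_mem _ (ha x hx) }
  res_mem := fun {O' O} h {s} hs x hx =>
    (TopCat.Presheaf.germ_res_apply M.presheaf (homOfLE h) x hx s).symm ▸ hs x (h hx)
  local' := fun {O} s hs x hx => by
    obtain ⟨W, h, hxW, hW⟩ := hs x hx
    exact (TopCat.Presheaf.germ_res_apply M.presheaf (homOfLE h) x hxW s) ▸ hW x hxW

/-- the subobject of sections with germs in given stalk submodules -/
def subObj (N : ∀ x : X, Submodule (X.presheaf.stalk x) (M.presheaf.stalk x)) : Subobject M :=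
  Subobject.mk (subOf N).ι

lemma stImg_subObj_le (N : ∀ x : X, Submodule (X.presheaf.stalk x) (M.presheaf.stalk x)) (x : X) :
    stImg (subObj N) x ≤ N x := by
  rw [subObj, stImg_mk]
  rintro _ ⟨z, rfl⟩
  obtain ⟨U, hx, a, rfl⟩ := TopCat.Presheaf.exists_germ_eq (subOf N).toModules.presheaf z
  rw [st_germ]
  exact ((subOf N).range_ι_app U _).1 ⟨a, rfl⟩ x hx

lemma germ_mem_subObj (N : ∀ x : X, Submodule (X.presheaf.stalk x) (M.presheaf.stalk x))
    {U : X.Opens} (s : Γ(M, U)) (hs : ∀ x (hx : x ∈ U), M.presheaf.germ U x hx s ∈ N x)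
    (x : X) (hx : x ∈ U) : M.presheaf.germ U x hx s ∈ stImg (subObj N) x := by
  rw [subObj, stImg_mk]
  obtain ⟨a, ha⟩ := ((subOf N).range_ι_app U s).2 hs
  exact ⟨(subOf N).toModules.presheaf.germ U x hx a, (st_germ _ hx a).trans (congrArg _ ha)⟩

end Groth.Agent.W7Hull
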