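import Groth.Agent.W7Hull.HomAdj
import Groth.Agent.W7Hull.Sub
import Groth.Agent.RefStalk.Eval
import Groth.Agent.LocFree.Props

/-!
The sheaf Hom out of a finite locally free module preserves epimorphisms.
-/

set_option autoImplicit false
set_option backward.isDefEq.respectTransparency false
set_option backward.isDefEq.respectTransparency.types false
set_option linter.style.haveILetI false

universe u

open CategoryTheory CategoryTheory.Limits AlgebraicGeometry TopologicalSpace Opposite

noncomputable section

namespace Groth.Agent.W7Hull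

variable {X : Scheme.{u}}

lemma evalStalk_homMap {F G G' : X.Modules} (φ : G ⟶ G') (x : X) (θ : (RefHull.homSh F G).presheaf.stalk x) :
    RefHull.evalStalk F G' x (st (RefFun.homMap F φ) x θ) =
      (RefHull.stalkMapₗ φ x).comp (RefHull.evalStalk F G x θ) := by
  obtain ⟨U, hx, g, rfl⟩ := TopCat.Presheaf.exists_germ_eq (RefHull.homSh F G).presheaf θ
  rw [st_germ, RefHull.evalStalk_germ, RefHull.evalStalk_germ, RefFun.homMap_app_apply]

theorem epi_homMap {F G G' : X.Modules} (hF : FlatMod.IsFinLocFree F) (φ : G ⟶ G') [Epi φ] :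
    Epi (RefFun.homMap F φ) := by
  refine epi_of_stalk fun x θ => ?_
  haveI := LocFree.free_stalk_of_isFinLocFree hF x
  have hφ : Function.Surjective (RefHull.stalkMapₗ φ x) := by
    intro v
    obtain ⟨w, hw⟩ := (ModuleCat.epi_iff_surjective _).1 (Functor.map_epi (DerSch.stalkFunctor X x) φ) v
    refine ⟨w, ?_⟩
    obtain ⟨U, hU, s, rfl⟩ := TopCat.Presheaf.exists_germ_eq G.presheaf w
    rw [RefHull.stalkMapₗ_germ, ← hw]
    exact (DerSch.stalkFunctor_map_germ x φ U hU s).symm
  obtain ⟨f, hf⟩ := Module.projective_lifting_property (RefHull.stalkMapₗ φ x) (RefHull.evalStalk F G' x θ) hφ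
  have hFP := LocFree.isFP_of_isFinLocFree hF
  obtain ⟨θ', rfl⟩ := (RefStalk.evalStalk_bijective (G := G) hFP x).2 f
  exact ⟨θ', (RefStalk.evalStalk_bijective (G := G') hFP x).1 ((evalStalk_homMap φ x θ').trans hf)⟩

theorem preservesEpi_sheafHom (F : X.Modules) [DCoh.HasSheafHom F] (hF : FlatMod.IsFinLocFree F) :
    (DCoh.sheafHom F).PreservesEpimorphisms := by
  haveI : (RefFun.homFunctor F).PreservesEpimorphisms := ⟨fun {G G'} φ _ => epi_homMap hF φ⟩
  exact Functor.preservesEpimorphisms.of_iso (sheafHomIso F).symm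

theorem preservesFiniteColimits_sheafHom (F : X.Modules) [DCoh.HasSheafHom F] (hF : FlatMod.IsFinLocFree F) :
    PreservesFiniteColimits (DCoh.sheafHom F) := by
  haveI := preservesEpi_sheafHom F hF
  haveI : (DCoh.sheafHom F).Additive := (DCoh.sheafHomAdj F).right_adjoint_additive
  haveI : PreservesFiniteLimits (DCoh.sheafHom F) :=
    haveI : PreservesLimitsOfSize.{0, 0} (DCoh.sheafHom F) := (DCoh.sheafHomAdj F).rightAdjoint_preservesLimits
    inferInstance
  haveI := Functor.preservesHomology_of_preservesEpis_and_kernels (DCoh.sheafHom F)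
  exact Functor.preservesFiniteColimits_of_preservesHomology _

end Groth.Agent.W7Hull
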