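import Groth.Agent.W7Hull.InvDual
import Groth.Agent.W7Cech.BC0Epi
import Groth.Agent.W7Cech.TwistInv
import Groth.Agent.W7Cech.NNStatements
import Groth.Agent.SchDense.Unit
import Groth.Agent.C1Cap.PullGen
import Groth.Agent.UfdExtend.Glue
import Groth.Agent.TMul.RelAmple
import Groth.Agent.InfLift.SchemeSmallExt
import Groth.Agent.DerPush.Basic
import Groth.Agent.DQCoh.RelTor

/-!
An invertible module trivial on a fibre with vanishing first cohomology is trivial nearby.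
-/

set_option autoImplicit false
set_option backward.isDefEq.respectTransparency false
set_option backward.isDefEq.respectTransparency.types false
set_option linter.style.haveILetI false
set_option maxHeartbeats 1000000

universe u

open CategoryTheory CategoryTheory.Limits AlgebraicGeometry TopologicalSpace Opposite
open Groth.Agent.QC (res res_res res_smul app_res)
open TMul (IsGen tm)

noncomputable section

namespace Groth.Agent.W7Hull

variable {X Y : Scheme.{u}}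

lemma isFlatOver_of_isInvertible (f : X ⟶ Y) [Flat f] {H : X.Modules} (hH : PicF.IsInvertible H) :
    FlatMod.IsFlatOver f H :=
  DQCoh.isFlatOver_of_iso (TMul.leftUnitIso H)
    (W7Cech.isFlatOver_tensor_invertible f (QC.isQCoh_unit X) (SchDense.isFlatOver_unit f) hH)

lemma isFP_of_isInvertible {H : X.Modules} (hH : PicF.IsInvertible H) : CohB1.IsFP H :=
  W7Cech.isFP_of_iso (TMul.leftUnitIso H) (W7Cech.isFP_tensor_invertible (SchDense.isFP_unit _) hH)

/-- scaling a generator by a unit -/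
lemma isGen_smul {M : X.Modules} {V : X.Opens} {e : Γ(M, V)} (he : IsGen e) {c : Γ(X, V)} (hc : IsUnit c) :
    IsGen (c • e) := by
  intro W hW
  have hu := hc.map (X.presheaf.map (homOfLE hW).op).hom
  have h : (fun a : Γ(X, W) => a • res M hW (c • e)) =
      (fun a : Γ(X, W) => a • res M hW e) ∘ fun a => a * (X.presheaf.map (homOfLE hW).op).hom c := by
    funext a
    rw [Function.comp_apply, res_smul, smul_smul]
  rw [h]
  exact (he W hW).comp hu.unit.mulRight.bijective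

/-- the coefficient between two generators is a unit -/
lemma isUnit_coeff {M : X.Modules} {V : X.Opens} {e : Γ(M, V)} (he : IsGen e) {c : Γ(X, V)}
    (hce : IsGen (c • e)) : IsUnit c := by
  obtain ⟨d, hd⟩ := (hce V le_rfl).2 e
  refine IsUnit.of_mul_eq_one d ?_
  refine (he V le_rfl).1 ?_
  change (c * d) • res M le_rfl e = (1 : Γ(X, V)) • res M le_rfl e
  rw [QC.res_self, one_smul, mul_comm, mul_smul]
  rw [QC.res_self] at hd
  exact hd

/-- a generator as the image of `1` -/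
lemma exists_gen_of_iso {M : X.Modules} (i : M ≅ Coh.structureModule X) : ∃ v : Γ(M, ⊤), IsGen v := by
  refine ⟨i.inv.app ⊤ (one ⊤), fun V hV => ?_⟩
  have h : (fun c : Γ(X, V) => c • res M hV (i.inv.app ⊤ (one ⊤))) =
      (i.inv.app V) ∘ fun c : Γ(X, V) => c • res (Coh.structureModule X) hV (one ⊤) := by
    funext c
    rw [Function.comp_apply, Scheme.Modules.Hom.app_smul, app_res]
  rw [h]
  exact (ConcreteCategory.bijective_of_isIso (i.inv.app V)).comp (isGen_one ⊤ V hV)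

/-- elements of a residue field are fractions of values of functions -/
lemma exists_fraction {U : Y.Opens} (hU : IsAffineOpen U) (y : Y) (hy : y ∈ U) (z : Y.residueField y) :
    ∃ a c : Γ(Y, U), (Y.evaluation U y hy).hom a ≠ 0 ∧
      z * (Y.evaluation U y hy).hom a = (Y.evaluation U y hy).hom c := by
  obtain ⟨t, rfl⟩ := Y.residue_surjective y z
  letI := TopCat.Presheaf.algebra_section_stalk Y.presheaf (U := U) ⟨y, hy⟩
  haveI := hU.isLocalization_stalk ⟨y, hy⟩
  obtain ⟨⟨c, a, ha⟩, hca⟩ := IsLocalization.surj (hU.primeIdealOf ⟨y, hy⟩).asIdeal.primeCompl t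
  refine ⟨a, c, ?_, ?_⟩
  · have hu : IsUnit (Y.presheaf.germ U y hy a) :=
      IsLocalization.map_units (Y.presheaf.stalk y) (⟨a, ha⟩ : (hU.primeIdealOf ⟨y, hy⟩).asIdeal.primeCompl)
    exact (hu.map (Y.residue y).hom).ne_zero
  · exact (map_mul (Y.residue y).hom _ _).symm.trans (congrArg (Y.residue y).hom hca)

variable (f : X ⟶ Y) [IsProper f] [Flat f] [IsLocallyNoetherian Y]

omit [IsLocallyNoetherian Y] in
/-- generators on the fibre come from sections near a point where `T⁰` is exact -/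
theorem exists_section_gen_of_epi_lfp [LocallyOfFinitePresentation f] (H : X.Modules) (hH : PicF.IsInvertible H) (y : Y)
    (hepi : ∃ W : Y.Opens, y ∈ W ∧ ∀ (U : Y.Opens) (hU : IsAffineOpen U), U ≤ W → ∀ m : W7Cech.ModelNN f H hU,
      (CohIII.TFun m.L 0).PreservesEpimorphisms)
    (v : Γ((Scheme.Modules.pullback (f.fiberι y)).obj H, ⊤))
    (hv : IsGen v) :
    ∃ (U : Y.Opens) (h : (⊤ : (f.fiber y).Opens) ≤ f.fiberι y ⁻¹ᵁ (f ⁻¹ᵁ U)) (g : Γ(H, f ⁻¹ᵁ U)), y ∈ U ∧
      IsGen (ModDesc.pullSectLE (f.fiberι y) H (f ⁻¹ᵁ U) ⊤ h g) := by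
  have hF := isFP_of_isInvertible hH
  have hfl := isFlatOver_of_isInvertible f hH
  have hq := FibDepth.isQCoh_of_isFP hF
  obtain ⟨W, hyW, hW⟩ := hepi
  obtain ⟨U, hU, hyU, hUW⟩ := exists_isAffineOpen_mem_and_subset (x := y) (U := W) hyW
  obtain ⟨m⟩ := W7Cech.nonempty_ModelNN f hq hF hfl hU
  have he : (CohIII.TFun m.L 0).PreservesEpimorphisms := hW U hU hUW m
  let g := Y.fromSpecResidueField y
  let f' := f.fiberToSpecResidueField y
  let ι := f.fiberι y
  have sq : IsPullback ι f' f g := IsPullback.of_hasPullback f g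
  have hVU : (⊤ : (Spec (Y.residueField y)).Opens) ≤ g ⁻¹ᵁ U := fun z _ => by
    change g z ∈ U
    rw [Scheme.fromSpecResidueField_apply]
    exact hyU
  have hbc := W7Cech.isBC_bc0Adj f hq hfl hU m he sq (isAffineOpen_top _) hVU
  let θ := CohBC.bc0Adj f g f' ι sq.w H
  let r := RelTilde.resθ g θ hVU
  have hle : (⊤ : (f.fiber y).Opens) ≤ ι ⁻¹ᵁ (f ⁻¹ᵁ U) := fun z _ => by
    change f (ι z) ∈ U
    rw [← Scheme.Hom.comp_apply, sq.w, Scheme.Hom.comp_apply]
    exact hVU (show f' z ∈ (⊤ : (Spec (Y.residueField y)).Opens) from trivial)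
  let K := (Scheme.Modules.pushforward f').obj ((Scheme.Modules.pullback ι).obj H)
  let S : Submodule Γ(Spec (Y.residueField y), ⊤) Γ(K, ⊤) := Submodule.span _ (Set.range r)
  have hS : S = ⊤ := by
    obtain ⟨φ, -, huniq⟩ := hbc (Γ(K, ⊤) ⧸ S) 0
    have h2 := huniq S.mkQ fun s => (Submodule.Quotient.mk_eq_zero S).2 (Submodule.subset_span ⟨s, rfl⟩)
    have h3 := huniq 0 fun s => rfl
    exact eq_top_iff.2 fun t _ => (Submodule.Quotient.mk_eq_zero S).1 (LinearMap.congr_fun (h2.trans h3.symm) t)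
  let β := (g.appLE U ⊤ hVU).hom
  let q := Scheme.ΓSpecIso (Y.residueField y)
  have hq' : ∀ a, q.hom.hom (β a) = (Y.evaluation U y hyU).hom a := fun a =>
    congr(($(W7Cech.appLE_fromSpecResidueField hU y hyU hVU)).hom a)
  have hqb : Function.Bijective q.hom.hom := ConcreteCategory.bijective_of_isIso q.hom
  -- every element is a unit multiple of an image
  have key : ∀ x ∈ S, ∃ a, (Y.evaluation U y hyU).hom a ≠ 0 ∧ ∃ s, β a • x = r s := by
    intro x hx
    induction hx using Submodule.span_induction with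
    | mem x hx =>
      obtain ⟨s, rfl⟩ := hx
      exact ⟨1, by rw [map_one]; exact one_ne_zero, s, by rw [map_one, one_smul]⟩
    | zero => exact ⟨1, by rw [map_one]; exact one_ne_zero, 0, by rw [smul_zero, map_zero]⟩
    | add x z _ _ hx hz =>
      obtain ⟨a, ha, s, hs⟩ := hx
      obtain ⟨b, hb, t, ht⟩ := hz
      refine ⟨a * b, by rw [map_mul]; exact mul_ne_zero ha hb, b • s + a • t, ?_⟩
      rw [map_add, map_smulₛₗ, map_smulₛₗ, ← hs, ← ht, smul_smul, smul_smul, map_mul, mul_comm (β b), smul_add]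
    | smul c x _ hx =>
      obtain ⟨a, ha, s, hs⟩ := hx
      obtain ⟨b, d, hb, hd⟩ := exists_fraction hU y hyU (q.hom.hom c)
      refine ⟨a * b, by rw [map_mul]; exact mul_ne_zero ha hb, d • s, ?_⟩
      have hcb : c * β b = β d := hqb.1 (by rw [map_mul, hq', hq', hd])
      rw [map_smulₛₗ, ← hs, smul_smul, smul_smul, ← hcb, map_mul]
      congr 1
      ring
  obtain ⟨a, ha, s, hs⟩ := key (show Γ(K, ⊤) from v) (hS ▸ Submodule.mem_top)
  refine ⟨U, hle, (show Γ(H, f ⁻¹ᵁ U) from s), hyU, ?_⟩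
  have hu : IsUnit (β a) := by
    refine (isUnit_map_iff (RingEquiv.ofBijective q.hom.hom hqb) _).1 ?_
    exact IsUnit.mk0 _ (by rw [show RingEquiv.ofBijective q.hom.hom hqb (β a) = q.hom.hom (β a) from rfl, hq']; exact ha)
  have hu' : IsUnit ((f'.app ⊤).hom (β a)) := hu.map (f'.app ⊤).hom
  have heq : ModDesc.pullSectLE ι H (f ⁻¹ᵁ U) ⊤ hle (show Γ(H, f ⁻¹ᵁ U) from s) =
      (show Γ(f.fiber y, ⊤) from (f'.app ⊤).hom (β a)) • v := by
    refine Eq.trans ?_ hs.symm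
    exact (res_res _ _ _ _).symm
  rw [heq]
  exact isGen_smul hv hu'

/-- the same over a locally Noetherian base -/
theorem exists_section_gen_of_epi (H : X.Modules) (hH : PicF.IsInvertible H) (y : Y)
    (hepi : ∃ W : Y.Opens, y ∈ W ∧ ∀ (U : Y.Opens) (hU : IsAffineOpen U), U ≤ W → ∀ m : W7Cech.ModelNN f H hU,
      (CohIII.TFun m.L 0).PreservesEpimorphisms)
    (v : Γ((Scheme.Modules.pullback (f.fiberι y)).obj H, ⊤))
    (hv : IsGen v) :
    ∃ (U : Y.Opens) (h : (⊤ : (f.fiber y).Opens) ≤ f.fiberι y ⁻¹ᵁ (f ⁻¹ᵁ U)) (g : Γ(H, f ⁻¹ᵁ U)), y ∈ U ∧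
      IsGen (ModDesc.pullSectLE (f.fiberι y) H (f ⁻¹ᵁ U) ⊤ h g) := by
  haveI : LocallyOfFinitePresentation f := InfLift.lfp_of_lft f
  exact exists_section_gen_of_epi_lfp f H hH y hepi v hv

/-- vanishing of `H¹` of the fibre makes `T⁰` exact nearby -/
theorem exists_nhd_epi_of_vanish (H : X.Modules) (hH : PicF.IsInvertible H) (y : Y)
    (h1 : Subsingleton (CohIII.fiberH f H y 1)) :
    ∃ W : Y.Opens, y ∈ W ∧ ∀ (U : Y.Opens) (hU : IsAffineOpen U), U ≤ W → ∀ m : W7Cech.ModelNN f H hU,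
      (CohIII.TFun m.L 0).PreservesEpimorphisms := by
  haveI : LocallyOfFinitePresentation f := InfLift.lfp_of_lft f
  have hF := isFP_of_isInvertible hH
  obtain ⟨W, hyW, hW⟩ :=
    W7Cech.exists_nhd_vanish_nn f (FibDepth.isQCoh_of_isFP hF) hF (isFlatOver_of_isInvertible f hH) 1 y h1
  exact ⟨W, hyW, fun U hU hUW m => (W7Cech.T_epi_iff_mono_succ m.L (W7Cech.flatX m.L m.hL) 0).2
      (W7Cech.isZero_T_of_isZero_homology_all m.L (fun M => m.isZero_T f 1 (fun z hz => hW z (hUW hz)) M)).1⟩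

/-- generators on the fibre come from nearby sections -/
theorem exists_section_gen (H : X.Modules) (hH : PicF.IsInvertible H) (y : Y)
    (h1 : Subsingleton (CohIII.fiberH f H y 1)) (v : Γ((Scheme.Modules.pullback (f.fiberι y)).obj H, ⊤))
    (hv : IsGen v) :
    ∃ (U : Y.Opens) (h : (⊤ : (f.fiber y).Opens) ≤ f.fiberι y ⁻¹ᵁ (f ⁻¹ᵁ U)) (g : Γ(H, f ⁻¹ᵁ U)), y ∈ U ∧
      IsGen (ModDesc.pullSectLE (f.fiberι y) H (f ⁻¹ᵁ U) ⊤ h g) :=
  exists_section_gen_of_epi f H hH y (exists_nhd_epi_of_vanish f H hH y h1) v hv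

omit [IsLocallyNoetherian Y] in
/-- trivial on the fibre and `T⁰` exact nearby, hence a generator nearby -/
theorem exists_gen_near_of_epi_lfp [LocallyOfFinitePresentation f] (H : X.Modules) (hH : PicF.IsInvertible H) (y : Y)
    (hepi : ∃ W : Y.Opens, y ∈ W ∧ ∀ (U : Y.Opens) (hU : IsAffineOpen U), U ≤ W → ∀ m : W7Cech.ModelNN f H hU,
      (CohIII.TFun m.L 0).PreservesEpimorphisms)
    (i : (Scheme.Modules.pullback (f.fiberι y)).obj H ≅ Coh.structureModule (f.fiber y)) :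
    ∃ (U : Y.Opens) (g : Γ(H, f ⁻¹ᵁ U)), y ∈ U ∧ IsGen g := by
  obtain ⟨v, hv⟩ := exists_gen_of_iso i
  obtain ⟨U, hle, g, hyU, hg⟩ := exists_section_gen_of_epi_lfp f H hH y hepi v hv
  let O : X.Opens := sSup {V : X.Opens | ∃ h : V ≤ f ⁻¹ᵁ U, IsGen (res H h g)}
  have hfib : ∀ x : X, f x = y → x ∈ O := by
    intro x hx
    obtain ⟨z, rfl⟩ := (show x ∈ Set.range (f.fiberι y) from by rw [Scheme.Hom.range_fiberι]; exact hx)
    obtain ⟨A, e, hxA, he⟩ := TMul.exists_isGen hH (f.fiberι y z)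
    let V := A ⊓ f ⁻¹ᵁ U
    have hxV : f.fiberι y z ∈ V := ⟨hxA, hle (show z ∈ (⊤ : (f.fiber y).Opens) from trivial)⟩
    have heV : IsGen (res H (inf_le_left : V ≤ A) e) := he.res inf_le_left
    obtain ⟨c, hc⟩ := (heV V le_rfl).2 (res H (inf_le_right : V ≤ f ⁻¹ᵁ U) g)
    change c • res H le_rfl (res H (inf_le_left : V ≤ A) e) = _ at hc
    rw [QC.res_self] at hc
    let c' := ((f.fiberι y).appLE V (f.fiberι y ⁻¹ᵁ V) le_rfl).hom c
    have hgV : IsGen (c' • ModDesc.pullSectLE (f.fiberι y) H V (f.fiberι y ⁻¹ᵁ V) le_rfl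
        (res H (inf_le_left : V ≤ A) e)) := by
      rw [← ModDesc.pullSectLE_smul, hc, ← ModDesc.res_pullSectLE _ H (inf_le_right : V ≤ f ⁻¹ᵁ U)
        (le_top : f.fiberι y ⁻¹ᵁ V ≤ ⊤) hle]
      exact hg.res _
    have hpe : IsGen (ModDesc.pullSectLE (f.fiberι y) H V (f.fiberι y ⁻¹ᵁ V) le_rfl
        (res H (inf_le_left : V ≤ A) e)) := by
      rw [show ModDesc.pullSectLE (f.fiberι y) H V (f.fiberι y ⁻¹ᵁ V) le_rfl (res H inf_le_left e) =
        ProjMor.eta (f.fiberι y) H V (res H inf_le_left e) from QC.res_self _ _ _]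
      exact C1Cap.isGen_eta _ heV
    have hcu : IsUnit c' := isUnit_coeff hpe hgV
    have hcx : f.fiberι y z ∈ X.basicOpen c := by
      rw [Scheme.mem_basicOpen _ _ _ hxV]
      refine IsUnit.of_map ((f.fiberι y).stalkMap z).hom _ ?_
      rw [Scheme.Hom.germ_stalkMap_apply]
      have := hcu.map ((f.fiber y).presheaf.germ (f.fiberι y ⁻¹ᵁ V) z hxV).hom
      rwa [show c' = ((f.fiberι y).app V).hom c from congr(($((f.fiberι y).app_eq_appLE)).hom c).symm] at this
    refine Opens.mem_sSup.2 ⟨X.basicOpen c, ⟨(X.basicOpen_le c).trans inf_le_right, ?_⟩, hcx⟩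
    rw [show res H ((X.basicOpen_le c).trans inf_le_right) g =
      (X.presheaf.map (homOfLE (X.basicOpen_le c)).op).hom c •
        res H (X.basicOpen_le c) (res H inf_le_left e) by
      rw [← res_smul, hc, res_res]]
    exact isGen_smul (heV.res _) (RingedSpace.isUnit_res_basicOpen _ c)
  have hcl : IsClosed (f.base '' (↑O : Set X)ᶜ) := f.isClosedMap _ O.2.isClosed_compl
  let U' : Y.Opens := U ⊓ ⟨(f.base '' (↑O : Set X)ᶜ)ᶜ, hcl.isOpen_compl⟩
  have hyU' : y ∈ U' := ⟨hyU, fun ⟨x, hx, hxy⟩ => hx (hfib x hxy)⟩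
  have hg' : IsGen (res H (f.preimage_mono (inf_le_left : U' ≤ U)) g) := by
    refine UfdExtend.isGen_of_locally fun x hx => ?_
    have hxO : x ∈ O := by
      by_contra h
      exact hx.2 ⟨x, h, rfl⟩
    obtain ⟨V, ⟨hV, hVg⟩, hxV⟩ := Opens.mem_sSup.1 hxO
    refine ⟨V ⊓ f ⁻¹ᵁ U', inf_le_right, ⟨hxV, hx⟩, ?_⟩
    rw [res_res, ← res_res H (inf_le_left : V ⊓ f ⁻¹ᵁ U' ≤ V) hV]
    exact hVg.res _
  exact ⟨U', _, hyU', hg'⟩

/-- the same over a locally Noetherian base -/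
theorem exists_gen_near_of_epi (H : X.Modules) (hH : PicF.IsInvertible H) (y : Y)
    (hepi : ∃ W : Y.Opens, y ∈ W ∧ ∀ (U : Y.Opens) (hU : IsAffineOpen U), U ≤ W → ∀ m : W7Cech.ModelNN f H hU,
      (CohIII.TFun m.L 0).PreservesEpimorphisms)
    (i : (Scheme.Modules.pullback (f.fiberι y)).obj H ≅ Coh.structureModule (f.fiber y)) :
    ∃ (U : Y.Opens) (g : Γ(H, f ⁻¹ᵁ U)), y ∈ U ∧ IsGen g := by
  haveI : LocallyOfFinitePresentation f := InfLift.lfp_of_lft f
  exact exists_gen_near_of_epi_lfp f H hH y hepi i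

/-- trivial on the fibre and `T⁰` exact nearby, hence trivial nearby -/
theorem exists_trivial_near_of_epi (H : X.Modules) (hH : PicF.IsInvertible H) (y : Y)
    (hepi : ∃ W : Y.Opens, y ∈ W ∧ ∀ (U : Y.Opens) (hU : IsAffineOpen U), U ≤ W → ∀ m : W7Cech.ModelNN f H hU,
      (CohIII.TFun m.L 0).PreservesEpimorphisms)
    (i : (Scheme.Modules.pullback (f.fiberι y)).obj H ≅ Coh.structureModule (f.fiber y)) :
    ∃ U : Y.Opens, y ∈ U ∧ Nonempty (H.restrict (f ⁻¹ᵁ U).ι ≅ Coh.structureModule ↑(f ⁻¹ᵁ U)) := by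
  obtain ⟨U, g, hyU, hg⟩ := exists_gen_near_of_epi f H hH y hepi i
  exact ⟨U, hyU, InvGen.nonempty_iso _ H (f ⁻¹ᵁ U).opensRange_ι.le g hg⟩

/-- trivial on the fibre, hence trivial nearby -/
theorem exists_trivial_near (H : X.Modules) (hH : PicF.IsInvertible H) (y : Y)
    (h1 : Subsingleton (Coh.HH (f.fiber y) (Coh.structureModule (f.fiber y)) 1))
    (i : (Scheme.Modules.pullback (f.fiberι y)).obj H ≅ Coh.structureModule (f.fiber y)) :
    ∃ U : Y.Opens, y ∈ U ∧ Nonempty (H.restrict (f ⁻¹ᵁ U).ι ≅ Coh.structureModule ↑(f ⁻¹ᵁ U)) :=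
  exists_trivial_near_of_epi f H hH y (exists_nhd_epi_of_vanish f H hH y
    ((((CohIII.HAb _ 1).mapIso i).addCommGroupIsoToAddEquiv : Coh.HH _ (CohIII.fiberMod f H y) 1 ≃+
      Coh.HH _ (Coh.structureModule (f.fiber y)) 1).toEquiv.subsingleton_congr.2 h1)) i

/-- isomorphic on the fibre, hence isomorphic nearby -/
theorem exists_iso_near (L M : X.Modules) (hL : PicF.IsInvertible L) (hM : PicF.IsInvertible M) (y : Y)
    (h1 : Subsingleton (Coh.HH (f.fiber y) (Coh.structureModule (f.fiber y)) 1))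
    (i : CohIII.fiberMod f L y ≅ CohIII.fiberMod f M y) :
    ∃ U : Y.Opens, y ∈ U ∧ Nonempty (L.restrict (f ⁻¹ᵁ U).ι ≅ M.restrict (f ⁻¹ᵁ U).ι) := by
  obtain ⟨L', hL', ⟨ε⟩⟩ := exists_tensor_inverse hL
  obtain ⟨p₁⟩ := TMul.nonempty_pullTensorIso (f.fiberι y) L' M
  obtain ⟨p₂⟩ := TMul.nonempty_pullTensorIso (f.fiberι y) L' L
  let j : (Scheme.Modules.pullback (f.fiberι y)).obj (CohB1.tensorMod L' M) ≅ Coh.structureModule (f.fiber y) :=
    p₁.symm ≪≫ PicGrp.tensorModIso (Iso.refl _) i.symm ≪≫ p₂ ≪≫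
      (Scheme.Modules.pullback (f.fiberι y)).mapIso (TMul.commIso L' L ≪≫ ε) ≪≫
      PicLoc.pullbackStructureIso (f.fiberι y)
  obtain ⟨U, hyU, ⟨t⟩⟩ := exists_trivial_near f (CohB1.tensorMod L' M) (TMul.isInvertible_tensorMod hL' hM) y h1 j
  refine ⟨U, hyU, ?_⟩
  let P := (f ⁻¹ᵁ U).ι
  obtain ⟨q⟩ := TMul.nonempty_restrictTensorIso P L (CohB1.tensorMod L' M)
  exact ⟨(SecTwist.unitorR _).symm ≪≫ PicGrp.tensorModIso (Iso.refl _) t.symm ≪≫ q ≪≫
    (Scheme.Modules.restrictFunctor P).mapIso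
      ((TMul.assocIso L L' M).symm ≪≫ PicGrp.tensorModIso ε (Iso.refl M) ≪≫ TMul.leftUnitIso M)⟩

end Groth.Agent.W7Hull
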