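import Groth.Agent.W7Hull.InvNear

/-!
The direct image of the structure sheaf is the structure sheaf near a point with connected reduced trivial fibre functions.
-/

set_option autoImplicit false
set_option backward.isDefEq.respectTransparency false
set_option backward.isDefEq.respectTransparency.types false
set_option linter.style.haveILetI false
set_option maxHeartbeats 1000000

universe u

open CategoryTheory CategoryTheory.Limits AlgebraicGeometry TopologicalSpace Opposite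
open Groth.Agent.QC (res resO res_res res_smul app_res)
open TMul (IsGen)

noncomputable section

namespace Groth.Agent.W7Cech

section Span

open Groth.Agent.FlatCx

variable {X S : Scheme.{u}} (f : X ⟶ S) (F : X.Modules) [IsProper f] [LocallyOfFinitePresentation f]
  [HasInjectiveResolutions X.Modules]

include f in
/-- Spanning at a point: an open neighbourhood on which `T⁰` is exact. -/
theorem exists_nhd_epi_of_spanAt (hq : Coh.IsQCoh F) (hF : CohB1.IsFP F) (hfl : FlatMod.IsFlatOver f F) (s : S)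
    {V : S.Opens} (hV : IsAffineOpen V) (hsV : s ∈ V)
    (h : f.fiberToSpecResidueField s ⁻¹ᵁ ⊤ ≤ f.fiberι s ⁻¹ᵁ (f ⁻¹ᵁ V))
    (hs : SpanAt f F (f.fiberToSpecResidueField s) (f.fiberι s) V ⊤ h) :
    ∃ W : S.Opens, s ∈ W ∧ W ≤ V ∧ ∀ (U : S.Opens) (hU : IsAffineOpen U), U ≤ W → ∀ m : ModelNN f F hU,
      (CohIII.TFun m.L 0).PreservesEpimorphisms := by
  obtain ⟨m₀⟩ := nonempty_ModelNN f hq hF hfl hV
  have hle : ∀ (z : S) (U : S.Opens), z ∈ U →
      f.fiberToSpecResidueField z ⁻¹ᵁ ⊤ ≤ f.fiberι z ⁻¹ᵁ (f ⁻¹ᵁ U) := fun z U hz x _ => by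
    change f (f.fiberι z x) ∈ U
    rw [← Scheme.Hom.comp_apply, Scheme.Hom.fiber_fac, Scheme.Hom.comp_apply, Scheme.fromSpecResidueField_apply]
    exact hz
  haveI : ∀ i, Module.FinitePresentation Γ(S, V) (m₀.L.X i) := finitePresentationX m₀.L m₀.hL
  haveI : Module.FinitePresentation Γ(S, V) (Opc m₀.L 0 ((ComplexShape.up ℤ).next 0)) :=
    Module.finitePresentation_of_surjective (LinearMap.range (m₀.L.d 0 _).hom).mkQ (Submodule.mkQ_surjective _) (by
      haveI := (m₀.hL 0).1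
      rw [Submodule.ker_mkQ, LinearMap.range_eq_map]
      exact Module.Finite.fg_top.map _)
  let D := Module.freeLocus Γ(S, V) (Opc m₀.L 0 ((ComplexShape.up ℤ).next 0))
  have hD : IsOpen D := Module.isOpen_freeLocus
  have hmem : ∀ (z : S) (hz : z ∈ V), z ∈ hV.fromSpec '' D ↔ hV.primeIdealOf ⟨z, hz⟩ ∈ D := fun z hz =>
    ⟨fun ⟨x, hx, hxz⟩ => by
      have : x = hV.primeIdealOf ⟨z, hz⟩ :=
        hV.fromSpec.isOpenEmbedding.injective (hxz.trans (hV.fromSpec_primeIdealOf ⟨z, hz⟩).symm)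
      exact this ▸ hx, fun h => ⟨_, h, hV.fromSpec_primeIdealOf ⟨z, hz⟩⟩⟩
  refine ⟨⟨hV.fromSpec '' D, hV.fromSpec.isOpenEmbedding.isOpenMap D hD⟩,
    (hmem s hsV).2 ((spanAt_iff f F hq hfl hV m₀ s hsV h).1 hs), fun z hz => ?_, fun U hU hUW m => ?_⟩
  · obtain ⟨x, -, rfl⟩ := hz
    exact fromSpec_mem hV x
  · rw [preservesEpi_iff_flat_opc m.L 0 (flatX m.L m.hL) (up_prev_next 0)]
    haveI : ∀ i, Module.FinitePresentation Γ(S, U) (m.L.X i) := finitePresentationX m.L m.hL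
    haveI : Module.FinitePresentation Γ(S, U) (Opc m.L 0 ((ComplexShape.up ℤ).next 0)) :=
      Module.finitePresentation_of_surjective (LinearMap.range (m.L.d 0 _).hom).mkQ (Submodule.mkQ_surjective _) (by
        haveI := (m.hL 0).1
        rw [Submodule.ker_mkQ, LinearMap.range_eq_map]
        exact Module.Finite.fg_top.map _)
    have hUV : U ≤ V := fun z hz => by
      obtain ⟨x, -, rfl⟩ := hUW hz
      exact fromSpec_mem hV x
    haveI := Module.freeLocus_eq_univ_iff.1 (Set.eq_univ_of_forall fun x => by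
      let z := hU.fromSpec x
      have hz : z ∈ U := fromSpec_mem hU x
      rw [show x = hU.primeIdealOf ⟨z, hz⟩ from
        hU.fromSpec.isOpenEmbedding.injective (hU.fromSpec_primeIdealOf ⟨z, hz⟩).symm]
      refine (spanAt_iff f F hq hfl hU m z hz (hle z U hz)).1 (SpanAt.mono f F _ _ hUV (h := hle z V (hUV hz)) _ ?_)
      exact (spanAt_iff f F hq hfl hV m₀ z (hUV hz) (hle z V (hUV hz))).2 ((hmem z (hUV hz)).1 (hUW hz)))
    infer_instance

end Span

end Groth.Agent.W7Cech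

namespace Groth.Agent.W7Hull

variable {X Y : Scheme.{u}} (f : X ⟶ Y) [IsProper f] [Flat f]

section Lfp

variable [LocallyOfFinitePresentation f]

set_option maxHeartbeats 2000000 in
theorem exists_nhd_app_bijective_of_lfp (y : Y)
    (hy : Function.Bijective ((f.fiberToSpecResidueField y).appTop.hom.comp
      (Scheme.ΓSpecIso (Y.residueField y)).inv.hom)) :
    ∃ U : Y.Opens, y ∈ U ∧ ∀ V : Y.Opens, V ≤ U → Function.Bijective (f.app V).hom := by
  let O := Coh.structureModule X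
  have hq : Coh.IsQCoh O := QC.isQCoh_unit X
  have hF : CohB1.IsFP O := SchDense.isFP_unit X
  have hfl : FlatMod.IsFlatOver f O := SchDense.isFlatOver_unit f
  let g := Y.fromSpecResidueField y
  let f' := f.fiberToSpecResidueField y
  let ι := f.fiberι y
  have sq : IsPullback ι f' f g := IsPullback.of_hasPullback f g
  have hVU : ∀ U : Y.Opens, y ∈ U → (⊤ : (Spec (Y.residueField y)).Opens) ≤ g ⁻¹ᵁ U := fun U hU z _ => by
    change g z ∈ U
    rw [Scheme.fromSpecResidueField_apply]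
    exact hU
  have hle : ∀ U : Y.Opens, y ∈ U → f' ⁻¹ᵁ ⊤ ≤ ι ⁻¹ᵁ (f ⁻¹ᵁ U) := fun U hU z _ => by
    change f (ι z) ∈ U
    rw [← Scheme.Hom.comp_apply, sq.w, Scheme.Hom.comp_apply]
    exact hVU U hU (show f' z ∈ (⊤ : (Spec (Y.residueField y)).Opens) from trivial)
  have hq0 : Function.Bijective (Scheme.ΓSpecIso (Y.residueField y)).inv.hom :=
    ConcreteCategory.bijective_of_isIso _
  have hf' : Function.Bijective (f'.app ⊤).hom := (Function.Bijective.of_comp_iff _ hq0).1 hy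
  have hgen : ∀ (U : Y.Opens) (hU : y ∈ U),
      IsGen (ModDesc.pullSectLE ι O (f ⁻¹ᵁ U) (f' ⁻¹ᵁ ⊤) (hle U hU) (one (f ⁻¹ᵁ U))) := fun U hU => by
    rw [ModDesc.pullSectLE_apply]
    exact (C1Cap.isGen_eta ι (isGen_one (f ⁻¹ᵁ U))).res _
  -- spanning
  obtain ⟨V₀, hV₀, hyV₀, -⟩ := exists_isAffineOpen_mem_and_subset (x := y) (U := ⊤) trivial
  have hspan : W7Cech.SpanAt f O f' ι V₀ ⊤ (hle V₀ hyV₀) := by
    refine eq_top_iff.2 fun x _ => ?_
    obtain ⟨c, hc⟩ := (hgen V₀ hyV₀ (f' ⁻¹ᵁ ⊤) le_rfl).2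
      (show Γ((Scheme.Modules.pullback ι).obj O, f' ⁻¹ᵁ ⊤) from x)
    obtain ⟨b, rfl⟩ := hf'.2 c
    change (f'.app ⊤).hom b • res ((Scheme.Modules.pullback ι).obj O) le_rfl
      (ModDesc.pullSectLE ι O (f ⁻¹ᵁ V₀) (f' ⁻¹ᵁ ⊤) (hle V₀ hyV₀) (one (f ⁻¹ᵁ V₀))) = _ at hc
    rw [QC.res_self] at hc
    have hb : x = b • (show (W7Cech.SM f' ((Scheme.Modules.pullback ι).obj O) (f' ⁻¹ᵁ ⊤) le_rfl : Type u) from
        ModDesc.pullSectLE ι O (f ⁻¹ᵁ V₀) (f' ⁻¹ᵁ ⊤) (hle V₀ hyV₀) (one (f ⁻¹ᵁ V₀))) := by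
      refine hc.symm.trans ?_
      change (f'.app ⊤).hom b • ModDesc.pullSectLE ι O (f ⁻¹ᵁ V₀) (f' ⁻¹ᵁ ⊤) (hle V₀ hyV₀) (one (f ⁻¹ᵁ V₀)) =
        (f'.appLE ⊤ (f' ⁻¹ᵁ ⊤) le_rfl).hom b • ModDesc.pullSectLE ι O (f ⁻¹ᵁ V₀) (f' ⁻¹ᵁ ⊤) (hle V₀ hyV₀) (one (f ⁻¹ᵁ V₀))
      rw [← f'.app_eq_appLE]
    rw [hb]
    exact Submodule.smul_mem _ b (Submodule.subset_span ⟨one (f ⁻¹ᵁ V₀), rfl⟩)
  obtain ⟨W, hyW, -, hW⟩ := W7Cech.exists_nhd_epi_of_spanAt f O hq hF hfl y hV₀ hyV₀ _ hspan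
  let R := (Scheme.Modules.pushforward f).obj O
  have hRfree : FlatMod.IsFinLocFree (R.restrict W.ι) :=
    W7Cech.isFinLocFree_push_restrict_of_epi f O hq hF hfl W hW
  obtain ⟨W', n, hyW', ⟨e⟩⟩ := hRfree ⟨y, hyW⟩
  obtain ⟨U, hU, hyU, hUW⟩ := exists_isAffineOpen_mem_and_subset (x := y) (U := W.ι ''ᵁ W') ⟨⟨y, hyW⟩, hyW', rfl⟩
  have hUW₀ : U ≤ W := hUW.trans (W.ι_image_le W')
  have hfree : Module.Free Γ(Y, U) Γ(R, U) ∧ Module.Finite Γ(Y, U) Γ(R, U) := by
    haveI : IsOpenImmersion (W'.ι ≫ W.ι) := inferInstance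
    let e' : R.restrict (W.ι ''ᵁ W').ι ≅ FlatMod.freeMod (↑(W.ι ''ᵁ W')) n :=
      (Scheme.Modules.restrictFunctorCongr (Scheme.Hom.isoImage_inv_ι W.ι W')).symm.app R ≪≫
        (Scheme.Modules.restrictFunctorComp (W.ι.isoImage W').inv (W'.ι ≫ W.ι)).app R ≪≫
        (Scheme.Modules.restrictFunctor (W.ι.isoImage W').inv).mapIso
          ((Scheme.Modules.restrictFunctorComp W'.ι W.ι).app R ≪≫ e) ≪≫
        (Scheme.Modules.restrictFunctorIsoPullback (W.ι.isoImage W').inv).app _ ≪≫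
        DerPerf.pullFreeIso (W.ι.isoImage W').inv n
    exact LocFree.free_sections_of_le e' hU hUW
  haveI := hfree.1
  haveI := hfree.2
  obtain ⟨m⟩ := W7Cech.nonempty_ModelNN f hq hF hfl hU
  have hbc := W7Cech.isBC_bc0Adj f hq hfl hU m (hW U hU hUW₀ m) sq (isAffineOpen_top _) (hVU U hyU)
  let θ := CohBC.bc0Adj f g f' ι sq.w O
  let r := RelTilde.resθ g θ (hVU U hyU)
  let β := (g.appLE U ⊤ (hVU U hyU)).hom
  let K := (Scheme.Modules.pushforward f').obj ((Scheme.Modules.pullback ι).obj O)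
  let one₁ : Γ(R, U) := one (f ⁻¹ᵁ U)
  have hr1 : r one₁ = (show Γ(K, ⊤) from ModDesc.pullSectLE ι O (f ⁻¹ᵁ U) (f' ⁻¹ᵁ ⊤) (hle U hyU) (one (f ⁻¹ᵁ U))) :=
    res_res _ _ _ _
  have hK : ∀ t : Γ(K, ⊤), ∃ c, t = c • r one₁ := fun t => by
    obtain ⟨c, hc⟩ := (hgen U hyU (f' ⁻¹ᵁ ⊤) le_rfl).2 (show Γ((Scheme.Modules.pullback ι).obj O, f' ⁻¹ᵁ ⊤) from t)
    obtain ⟨b, rfl⟩ := hf'.2 c
    change (f'.app ⊤).hom b • res ((Scheme.Modules.pullback ι).obj O) le_rfl _ = _ at hc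
    rw [QC.res_self] at hc
    refine ⟨b, ?_⟩
    rw [hr1]
    exact hc.symm
  let q := Scheme.ΓSpecIso (Y.residueField y)
  let Ek := RingEquiv.ofBijective q.hom.hom (ConcreteCategory.bijective_of_isIso q.hom)
  have hk : IsField Γ(Spec (Y.residueField y), ⊤) := Ek.toMulEquiv.isField (Field.toIsField _)
  letI : Field Γ(Spec (Y.residueField y), ⊤) := hk.toField
  let B := Module.Free.ChooseBasisIndex Γ(Y, U) Γ(R, U)
  let bs : Module.Basis B Γ(Y, U) Γ(R, U) := Module.Free.chooseBasis _ _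
  have hKne : r one₁ ≠ 0 := fun h0 => by
    have h1 := hgen U hyU
    rw [hr1] at h0
    haveI : Nontrivial Γ(f.fiber y, f' ⁻¹ᵁ ⊤) := hf'.1.nontrivial
    have h2 := (h1 (f' ⁻¹ᵁ ⊤) le_rfl).1 (a₁ := 1) (a₂ := 0) (by
      change (1 : Γ(f.fiber y, f' ⁻¹ᵁ ⊤)) • res _ le_rfl _ = (0 : Γ(f.fiber y, f' ⁻¹ᵁ ⊤)) • res _ le_rfl _
      rw [QC.res_self, one_smul, zero_smul]
      exact h0)
    exact one_ne_zero h2
  have hsub : ∀ i j : B, i = j := by
    classical
    intro i j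
    by_contra hne
    let w : B → (Γ(R, U) →ₛₗ[β] Γ(Spec (Y.residueField y), ⊤)) := fun k =>
      { toFun := fun s => β (bs.repr s k)
        map_add' := fun s t => by rw [map_add, Finsupp.add_apply, map_add]
        map_smul' := fun a s => by
          rw [map_smul, Finsupp.smul_apply, smul_eq_mul, map_mul, smul_eq_mul] }
    obtain ⟨φi, hφi, -⟩ := hbc _ (w i)
    obtain ⟨φj, hφj, -⟩ := hbc _ (w j)
    obtain ⟨cj, hcj⟩ := hK (r (bs j))
    obtain ⟨ci, hci⟩ := hK (r (bs i))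
    have e1 : φi (r (bs i)) = 1 := (hφi _).trans (by
      change β (bs.repr (bs i) i) = 1
      rw [bs.repr_self, Finsupp.single_eq_same, map_one])
    have e2 : φi (r (bs j)) = 0 := (hφi _).trans (by
      change β (bs.repr (bs j) i) = 0
      rw [bs.repr_self, Finsupp.single_eq_of_ne hne, map_zero])
    have e3 : φj (r (bs j)) = 1 := (hφj _).trans (by
      change β (bs.repr (bs j) j) = 1
      rw [bs.repr_self, Finsupp.single_eq_same, map_one])
    rw [hci, map_smul, smul_eq_mul] at e1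
    rw [hcj, map_smul, smul_eq_mul] at e2 e3
    rcases mul_eq_zero.1 e2 with h0 | h0
    · rw [h0, zero_mul] at e3
      exact zero_ne_one e3
    · rw [h0, mul_zero] at e1
      exact zero_ne_one e1
  obtain ⟨i₀⟩ : Nonempty B := by
    by_contra hB
    haveI : IsEmpty B := not_nonempty_iff.1 hB
    refine hKne ?_
    rw [show one₁ = 0 from bs.repr.injective (Subsingleton.elim _ _)]
    exact map_zero r
  let a : Γ(Y, U) := bs.repr one₁ i₀
  have hall : ∀ s : Γ(R, U), s = bs.repr s i₀ • bs i₀ := fun s => bs.repr.injective (by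
    ext k
    rw [hsub k i₀, map_smul, bs.repr_self, Finsupp.smul_apply, Finsupp.single_eq_same, smul_eq_mul, mul_one])
  have hinj : ∀ x : Γ(Y, U), x • bs i₀ = 0 → x = 0 := fun x hx => by
    have := congrArg (fun z => bs.repr z i₀) hx
    simpa using this
  have ha : (Y.evaluation U y hyU).hom a ≠ 0 := fun h0 => by
    refine hKne ?_
    have hβ : β a = 0 := Ek.injective (by
      rw [map_zero]
      refine Eq.trans ?_ h0
      exact congr(($(W7Cech.appLE_fromSpecResidueField hU y hyU (hVU U hyU))).hom a))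
    rw [show one₁ = a • bs i₀ from hall one₁, map_smulₛₗ]
    change β a • _ = _
    rw [hβ, zero_smul]
  have hyD : y ∈ Y.basicOpen a := not_not.1 fun h =>
    ha ((Y.evaluation_eq_zero_iff_notMem_basicOpen y hyU a).2 h)
  refine ⟨Y.basicOpen a, hyD, ?_⟩
  have hDU := Y.basicOpen_le a
  have hRq : Coh.IsQCoh R := QC.isQCoh_pushforward f
  have hloc : QC.IsLoc R U := QC.isLoc_of_isQCoh hU (hM := hRq)
  have hau : IsUnit (resO Y hDU a) := RingedSpace.isUnit_res_basicOpen _ a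
  let φ : Coh.structureModule Y ⟶ R := SheafOfModules.unitToPushforwardObjUnit f.toRingCatSheafHom
  have hφ : ∀ (V : Y.Opens) (c : Γ(Y, V)), φ.app V c = (f.app V).hom c := fun V c => rfl
  have hφ' : ∀ (c : Γ(Y, Y.basicOpen a)), φ.app (Y.basicOpen a) c = c • res R hDU one₁ := fun c => by
    rw [hφ]
    change (f.app (Y.basicOpen a)).hom c =
      (f.app (Y.basicOpen a)).hom c * (X.presheaf.map (homOfLE (f.preimage_mono hDU)).op).hom 1
    rw [map_one, mul_one]
  have hbij : Function.Bijective (φ.app (Y.basicOpen a)) := by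
    have hb : ∀ x : Γ(Y, U), res R hDU (x • bs i₀) = resO Y hDU x • res R hDU (bs i₀) := fun x => res_smul R hDU x _
    have h1 : res R hDU one₁ = resO Y hDU a • res R hDU (bs i₀) := by rw [← hb]; exact congrArg (res R hDU) (hall one₁)
    refine ⟨(injective_iff_map_eq_zero _).2 fun (c : Γ(Y, Y.basicOpen a)) hc => ?_, fun t => ?_⟩
    · rw [hφ', h1, smul_smul] at hc
      haveI := hU.isLocalization_basicOpen a
      obtain ⟨⟨d, ⟨_, N, rfl⟩⟩, hd⟩ := IsLocalization.surj (Submonoid.powers a) (show Γ(Y, Y.basicOpen a) from c)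
      have hd' : resO Y hDU d = resO Y hDU a ^ N * (show Γ(Y, Y.basicOpen a) from c) := by
        rw [mul_comm, ← map_pow]
        exact hd.symm
      have h0 : res R hDU (d • bs i₀) = 0 := by
        rw [hb, hd', ← (hau.smul_eq_zero (x := (resO Y hDU a ^ N * c) • res R hDU (bs i₀))), smul_smul]
        rw [show resO Y hDU a * (resO Y hDU a ^ N * c) = resO Y hDU a ^ N * (c * resO Y hDU a) by ring, mul_smul, hc,
          smul_zero]
      obtain ⟨M, hM⟩ := hloc.exists_pow_smul_eq_zero a _ h0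
      rw [smul_smul] at hM
      have h2 := congrArg (resO Y hDU) (hinj _ hM)
      rw [map_mul, map_pow, map_zero, hd', ← mul_assoc, ← pow_add] at h2
      exact (hau.pow _).mul_right_eq_zero.1 h2
    · obtain ⟨N, s, hs⟩ := hloc.exists_extend a t
      rw [hall s, hb] at hs
      obtain ⟨u, hu⟩ := (hau.pow (N + 1))
      refine ⟨(↑u⁻¹ : Γ(Y, Y.basicOpen a)) * resO Y hDU (bs.repr s i₀), ?_⟩
      rw [hφ', h1, smul_smul, mul_assoc, mul_comm (resO Y hDU (bs.repr s i₀)), ← mul_assoc, mul_smul, hs, smul_smul,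
        mul_assoc, ← pow_succ']
      rw [← hu, Units.inv_mul, one_smul]
  intro V hV
  haveI := QC.isIso_restrict_of_bijective (hU.basicOpen a) (QC.isQCoh_unit Y) hRq φ hbij
  have h1 : Function.Bijective (φ.app ((hU.basicOpen a).fromSpec ''ᵁ ((hU.basicOpen a).fromSpec ⁻¹ᵁ V))) :=
    ConcreteCategory.bijective_of_isIso
      (((Scheme.Modules.restrictFunctor (hU.basicOpen a).fromSpec).map φ).app ((hU.basicOpen a).fromSpec ⁻¹ᵁ V))
  rw [Scheme.Hom.image_preimage_eq_opensRange_inf, (hU.basicOpen a).opensRange_fromSpec, inf_eq_right.mpr hV] at h1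
  exact h1

end Lfp

variable [IsLocallyNoetherian Y]

/-- the same over a locally Noetherian base -/
theorem exists_nhd_app_bijective (y : Y)
    (hy : Function.Bijective ((f.fiberToSpecResidueField y).appTop.hom.comp
      (Scheme.ΓSpecIso (Y.residueField y)).inv.hom)) :
    ∃ U : Y.Opens, y ∈ U ∧ ∀ V : Y.Opens, V ≤ U → Function.Bijective (f.app V).hom := by
  haveI : LocallyOfFinitePresentation f := InfLift.lfp_of_lft f
  exact exists_nhd_app_bijective_of_lfp f y hy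

end Groth.Agent.W7Hull
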