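import Groth.Agent.W7Hull.Avoid
import Groth.Agent.Devissage.PowSub
import Groth.Agent.FittLib.Comap
import Groth.Prelude.Def_Dual3

/-!
Submodules of a direct image along an affine morphism lying in the product with an ideal sheaf.
-/

set_option autoImplicit false
set_option backward.isDefEq.respectTransparency false
set_option linter.style.haveILetI false

universe u

open CategoryTheory CategoryTheory.Limits AlgebraicGeometry TopologicalSpace Opposite

noncomputable section

namespace Groth.Agent.W7Hull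

open Groth.Agent.QC Groth.Agent.WeakAssLib Groth.Agent.Devissage

variable {X Y : Scheme.{u}}

theorem exists_push_sub (f : Y ⟶ X) [IsAffineHom f] (J : X.IdealSheafData) (M : Y.Modules)
    (hM : Coh.IsQCoh M) :
    ∃ (M' : Y.Modules) (m : M' ⟶ M), Mono m ∧ Coh.IsQCoh M' ∧
      (Scheme.Modules.pushforward f).map m ≫ (Scheme.Modules.pullbackPushforwardAdjunction
        J.subschemeι).unit.app ((Scheme.Modules.pushforward f).obj M) = 0 ∧
      ∀ x : X, x ∉ (J.support : Set X) →
        Function.Surjective (stalkHom ((Scheme.Modules.pushforward f).map m) x) := by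
  let K := J.comap f
  let S := powSub K 1 M hM
  refine ⟨S.toModules, S.ι, inferInstance, isQCoh_powSub K 1 hM,
    Scheme.Modules.hom_ext _ _ fun W => ?_, fun x hx z => ?_⟩
  · ext (s : Γ((Scheme.Modules.pushforward f).obj S.toModules, W))
    refine QC.section_eq_of_locally fun x hxW => ?_
    obtain ⟨V, hV, hxV, hVW⟩ := exists_isAffineOpen_mem_and_subset (X := X) (U := W) hxW
    refine ⟨V, hVW, hxV, ?_⟩
    rw [QC.app_res]
    change ((Scheme.Modules.pullbackPushforwardAdjunction J.subschemeι).unit.app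
      ((Scheme.Modules.pushforward f).obj M)).app V (((Scheme.Modules.pushforward f).map S.ι).app V
        (QC.res ((Scheme.Modules.pushforward f).obj S.toModules) (show V ≤ W from hVW) s)) =
      QC.res _ (show V ≤ W from hVW) 0
    rw [map_zero]
    set u := (Scheme.Modules.pullbackPushforwardAdjunction J.subschemeι).unit.app
      ((Scheme.Modules.pushforward f).obj M)
    generalize QC.res ((Scheme.Modules.pushforward f).obj S.toModules) (show V ≤ W from hVW) s = t
    have hfV : IsAffineOpen (f ⁻¹ᵁ V) := hV.preimage f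
    have ht : (show Γ(M, f ⁻¹ᵁ V) from S.ι.app (f ⁻¹ᵁ V) t) ∈
        (K.ideal ⟨f ⁻¹ᵁ V, hfV⟩ ^ 1) • (⊤ : Submodule Γ(Y, f ⁻¹ᵁ V) Γ(M, f ⁻¹ᵁ V)) :=
      (mem_powSub_affine K 1 hM ⟨f ⁻¹ᵁ V, hfV⟩ _).1 ((S.range_ι_app _ _).1 ⟨t, rfl⟩)
    rw [pow_one, show K.ideal ⟨f ⁻¹ᵁ V, hfV⟩ = _ from FittLib.comap_ideal f J hV hfV le_rfl] at ht
    have hkill : ∀ a ∈ J.ideal ⟨V, hV⟩, ∀ g : Γ((Scheme.Modules.pushforward f).obj M, V),
        u.app V (a • g) = 0 := fun a ha g => by
      rw [Scheme.Modules.Hom.app_smul]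
      let C := (Scheme.Modules.pullback J.subschemeι).obj ((Scheme.Modules.pushforward f).obj M)
      change ((J.subschemeι.app V).hom a • (show Γ(C, J.subschemeι ⁻¹ᵁ V) from u.app V g) :
        Γ(C, J.subschemeι ⁻¹ᵁ V)) = 0
      have h0 : (J.subschemeι.app V).hom a = 0 := by
        have : a ∈ J.subschemeι.ker.ideal ⟨V, hV⟩ := by
          rw [Scheme.IdealSheafData.ker_subschemeι]; exact ha
        rwa [Scheme.Hom.ker_apply, RingHom.mem_ker] at this
      rw [h0, zero_smul]
    change u.app V (show Γ((Scheme.Modules.pushforward f).obj M, V) from S.ι.app (f ⁻¹ᵁ V) t) = 0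
    refine Submodule.smul_induction_on (p := fun (g : Γ(M, f ⁻¹ᵁ V)) =>
      u.app V (show Γ((Scheme.Modules.pushforward f).obj M, V) from g) = 0) ht (fun b hb g _ => ?_)
      (fun g g' h h' => ?_)
    · induction hb using Submodule.span_induction generalizing g with
      | mem y hy =>
        obtain ⟨a, ha, rfl⟩ := hy
        rw [← Scheme.Hom.app_eq_appLE]
        exact hkill a ha g
      | zero => rw [zero_smul]; exact map_zero (u.app V).hom
      | add b b' _ _ h h' =>
        rw [add_smul]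
        exact ((u.app V).hom.map_add _ _).trans ((congrArg₂ (· + ·) (h g trivial) (h' g trivial)).trans (add_zero _))
      | smul c b _ h => rw [smul_eq_mul, mul_comm, mul_smul]; exact h _ trivial
    · exact ((u.app V).hom.map_add g g').trans (by rw [h, h', add_zero])
  · obtain ⟨W, hxW, s, rfl⟩ := TopCat.Presheaf.exists_germ_eq
      ((Scheme.Modules.pushforward f).obj M).presheaf z
    obtain ⟨V, hV, hxV, hVW⟩ := exists_isAffineOpen_mem_and_subset (X := X)
      (U := W ⊓ J.support.compl) ⟨hxW, hx⟩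
    have htop : J.ideal ⟨V, hV⟩ = ⊤ := by
      by_contra hne
      obtain ⟨P, hP, hKP⟩ := Ideal.exists_le_maximal _ hne
      let y : X := hV.fromSpec ⟨P, hP.isPrime⟩
      have hyV : y ∈ V := hV.range_fromSpec.subset ⟨_, rfl⟩
      refine (hVW hyV).2 ?_
      show y ∈ J.support
      rw [Scheme.IdealSheafData.mem_support_iff_of_mem (U := ⟨V, hV⟩) hyV, Scheme.mem_zeroLocus_iff]
      intro a ha hya
      have h1 : (⟨P, hP.isPrime⟩ : PrimeSpectrum Γ(X, V)) ∈ hV.fromSpec ⁻¹ᵁ X.basicOpen a := hya
      rw [hV.fromSpec_preimage_basicOpen] at h1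
      exact h1 (hKP ha)
    have hle : V ≤ W := fun y hy => (hVW hy).1
    have hfV : IsAffineOpen (f ⁻¹ᵁ V) := hV.preimage f
    have hmem : (show Γ(M, f ⁻¹ᵁ V) from QC.res ((Scheme.Modules.pushforward f).obj M) hle s) ∈
        S.obj (f ⁻¹ᵁ V) := by
      rw [mem_powSub_affine K 1 hM ⟨f ⁻¹ᵁ V, hfV⟩, pow_one,
        show K.ideal ⟨f ⁻¹ᵁ V, hfV⟩ = _ from FittLib.comap_ideal f J hV hfV le_rfl, htop,
        Ideal.map_top, Submodule.top_smul]
      trivial
    obtain ⟨a, ha⟩ := (S.range_ι_app _ _).2 hmem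
    refine ⟨mgerm ((Scheme.Modules.pushforward f).obj S.toModules) hxV a, ?_⟩
    rw [stalkHom_germ]
    exact (congrArg _ ha).trans (mgerm_res _ hle hxV s)

end Groth.Agent.W7Hull
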