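import Groth.Agent.W7Hull.Hull
import Groth.Agent.S11329
import Groth.Agent.InjHull.Noetherian

/-!
On a Noetherian affine scheme the module of an injective module is injective among all modules.
-/

set_option autoImplicit false
set_option backward.isDefEq.respectTransparency false
set_option linter.style.haveILetI false

universe u

open CategoryTheory CategoryTheory.Limits AlgebraicGeometry TopologicalSpace Opposite

noncomputable section

namespace Groth.Agent.W7Hull

variable {R : CommRingCat.{u}}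

/-- the map to a local ring of `Spec R` -/
abbrev toSt (p : Spec R) : R →+* (Spec R).presheaf.stalk p :=
  ((Spec R).presheaf.germ ⊤ p trivial).hom.comp (Scheme.ΓSpecIso R).inv.hom

lemma germ_smul_spec {M : (Spec R).Modules} {W : (Spec R).Opens} (p : Spec R) (hp : p ∈ W) (r : R)
    (σ : Γ(M, W)) : M.presheaf.germ W p hp (r • σ) = toSt p r • M.presheaf.germ W p hp σ := by
  rw [Scheme.Modules.smul_Spec_def, Mero.germ_smul M W p hp]
  congr 1
  exact TopCat.Presheaf.germ_res_apply _ _ p hp _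

lemma isUnit_toSt {p : Spec R} {r : R} (hr : r ∉ p.asIdeal) : IsUnit (toSt p r) := by
  have h : p ∈ (Spec R).basicOpen ((Scheme.ΓSpecIso R).inv r) := by
    rw [basicOpen_eq_of_affine]
    exact hr
  exact ((Spec R).mem_basicOpen ((Scheme.ΓSpecIso R).inv r) p trivial).1 h

lemma exists_frac (p : Spec R) (c : (Spec R).presheaf.stalk p) :
    ∃ r t : R, t ∉ p.asIdeal ∧ c * toSt p t = toSt p r := by
  obtain ⟨⟨r, t⟩, h⟩ := IsLocalization.surj (M := p.asIdeal.primeCompl)
    (S := (Spec.structureSheaf R).presheaf.stalk p) c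
  exact ⟨r, t, t.2, h⟩

section spec

variable {M : (Spec R).Modules} {p q : Spec R} (h : p ⤳ q)

/-- specialisation map on stalks -/
def sp : M.presheaf.stalk q → M.presheaf.stalk p := fun z => M.presheaf.stalkSpecializes h z

lemma sp_germ {W : (Spec R).Opens} (hq : q ∈ W) (σ : Γ(M, W)) :
    sp h (M.presheaf.germ W q hq σ) = M.presheaf.germ W p (h.mem_open W.2 hq) σ :=
  TopCat.Presheaf.germ_stalkSpecializes_apply _ _ _ _

lemma sp_smul (r : R) (z : M.presheaf.stalk q) : sp h (toSt q r • z) = toSt p r • sp h z := by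
  obtain ⟨W, hq, σ, rfl⟩ := TopCat.Presheaf.exists_germ_eq M.presheaf z
  rw [← germ_smul_spec, sp_germ, sp_germ, germ_smul_spec]

lemma sp_st {N : (Spec R).Modules} (φ : N ⟶ M) (z : N.presheaf.stalk q) :
    sp h (st φ q z) = st φ p (sp h z) := by
  obtain ⟨W, hq, σ, rfl⟩ := TopCat.Presheaf.exists_germ_eq N.presheaf z
  rw [st_germ, sp_germ, sp_germ, st_germ]

end spec

variable {E : ModuleCat.{u} R}

/-- global sections of `E~` -/
abbrev gsec (y : E) : Γ(tilde E, ⊤) := tilde.toOpen E ⊤ y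

/-- the germ of an element of `E` -/
def gl (p : Spec R) (y : E) : (tilde E).presheaf.stalk p :=
  (tilde E).presheaf.germ ⊤ p trivial (gsec y)

lemma germ_toOpen (W : (Spec R).Opens) (p : Spec R) (hp : p ∈ W) (y : E) :
    (tilde E).presheaf.germ W p hp (tilde.toOpen E W y) = gl p y :=
  (congrArg ((tilde E).presheaf.germ W p hp)
    (congr($(tilde.toOpen_res E ⊤ W (homOfLE le_top)) y)).symm).trans
    (TopCat.Presheaf.germ_res_apply (tilde E).presheaf (homOfLE le_top) p hp _)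

lemma gl_smul (p : Spec R) (r : R) (y : E) : gl p (r • y) = toSt p r • gl p y := by
  have h : gsec (r • y) = r • gsec y := (tilde.toOpen E ⊤).hom.map_smul r y
  rw [gl, h, germ_smul_spec]
  rfl

lemma gl_add (p : Spec R) (y y' : E) : gl p (y + y') = gl p y + gl p y' := by
  have h : gsec (y + y') = gsec y + gsec y' := map_add (tilde.toOpen E ⊤).hom y y'
  rw [gl, h, map_add]
  rfl

lemma gl_zero (p : Spec R) : gl p (0 : E) = 0 := by
  have h : gsec (0 : E) = 0 := map_zero (tilde.toOpen E ⊤).hom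
  rw [gl, h, map_zero]

lemma exists_pow_smul_eq_zero (y : E) (g : R)
    (h : ∀ q : Spec R, g ∉ q.asIdeal → gl q y = 0) : ∃ n : ℕ, g ^ n • y = 0 := by
  have h0 : tilde.toOpen E (PrimeSpectrum.basicOpen g) y = 0 := section_ext (M := tilde E) _ _
    fun q hq => (germ_toOpen _ q hq y).trans ((h q hq).trans (map_zero _).symm)
  obtain ⟨⟨_, n, rfl⟩, hn⟩ := (IsLocalizedModule.eq_zero_iff (Submonoid.powers g)
    (tilde.toOpen E (PrimeSpectrum.basicOpen g)).hom).1 h0
  exact ⟨n, hn⟩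

lemma exists_smul_eq_zero {p : Spec R} {y : E} (hy : gl p y = 0) :
    ∃ t : R, t ∉ p.asIdeal ∧ t • y = 0 := by
  obtain ⟨W, hpW, i₁, i₂, e⟩ := TopCat.Presheaf.germ_eq (tilde E).presheaf (U := ⊤) (V := ⊤) p trivial trivial
    (gsec y) 0 (hy.trans (map_zero _).symm)
  obtain ⟨_, ⟨g, rfl⟩, hpg, hgW⟩ :=
    PrimeSpectrum.isTopologicalBasis_basic_opens.exists_subset_of_mem_open hpW W.2
  obtain ⟨n, hn⟩ := exists_pow_smul_eq_zero y g fun q hq => by
    have hqW : q ∈ W := hgW hq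
    refine ((TopCat.Presheaf.germ_res_apply (tilde E).presheaf i₁ q hqW _).symm.trans
      (congrArg ((tilde E).presheaf.germ W q hqW) e)).trans ?_
    rw [map_zero, map_zero]
  exact ⟨g ^ n, fun h => hpg (p.isPrime.mem_of_pow_mem n h), hn⟩

lemma exists_uniform {p : Spec R} {M : Type u} [AddCommGroup M] [Module R M] (φ : M →ₗ[R] E)
    (K : Submodule R M) (hK : K.FG) (h : ∀ k ∈ K, ∃ t : R, t ∉ p.asIdeal ∧ t • φ k = 0) :
    ∃ T : R, T ∉ p.asIdeal ∧ ∀ k ∈ K, T • φ k = 0 := by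
  induction K, hK using Submodule.fg_induction with
  | singleton k =>
    obtain ⟨t, ht, htk⟩ := h k (Submodule.mem_span_singleton_self k)
    refine ⟨t, ht, fun y hy => ?_⟩
    obtain ⟨r, rfl⟩ := Submodule.mem_span_singleton.1 hy
    rw [map_smul, smul_comm, htk, smul_zero]
  | sup K₁ K₂ _ _ ih₁ ih₂ =>
    obtain ⟨T₁, h₁, e₁⟩ := ih₁ fun k hk => h k (Submodule.mem_sup_left hk)
    obtain ⟨T₂, h₂, e₂⟩ := ih₂ fun k hk => h k (Submodule.mem_sup_right hk)
    refine ⟨T₁ * T₂, fun hm => (p.isPrime.mem_or_mem hm).elim h₁ h₂, fun y hy => ?_⟩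
    obtain ⟨a, ha, b, hb, rfl⟩ := Submodule.mem_sup.1 hy
    rw [map_add, smul_add, mul_smul, mul_smul, smul_comm T₁ T₂ (φ a), e₁ a ha, e₂ b hb,
      smul_zero, smul_zero, add_zero]

variable [IsNoetherianRing R] [Module.Injective R E]

lemma gsec_surjective (W : (Spec R).Opens) (σ : Γ(tilde E, W)) :
    ∃ y : E, tilde.toOpen E W y = σ := by
  obtain ⟨τ, hτ⟩ := Groth.Agent.S11329.result R E W ⊤ le_top σ
  obtain ⟨y, rfl⟩ := (ConcreteCategory.bijective_of_isIso (tilde.toOpen E ⊤)).2 τ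
  exact ⟨y, (congr($(tilde.toOpen_res E ⊤ W (homOfLE le_top)) y)).symm.trans hτ⟩

lemma gl_surjective (p : Spec R) (z : (tilde E).presheaf.stalk p) : ∃ y : E, gl p y = z := by
  obtain ⟨W, hp, σ, rfl⟩ := TopCat.Presheaf.exists_germ_eq (tilde E).presheaf z
  obtain ⟨y, rfl⟩ := gsec_surjective W σ
  exact ⟨y, (germ_toOpen W p hp y).symm⟩

/-- An essential extension of `E~` is an isomorphism. -/
theorem isIso_of_essential {A : (Spec R).Modules} (j : tilde E ⟶ A) [Mono j] (hj : Essential j) :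
    IsIso j := by
  suffices hsurj : ∀ p, Function.Surjective (st j p) by
    haveI := epi_of_stalk hsurj
    exact isIso_of_mono_of_epi j
  by_contra! hbad
  obtain ⟨p₀, hp₀⟩ := hbad
  obtain ⟨z, hz⟩ := not_forall.1 hp₀
  obtain ⟨W₀, hpW₀, s₀, rfl⟩ := TopCat.Presheaf.exists_germ_eq A.presheaf z
  obtain ⟨_, ⟨f, rfl⟩, hpf, hfW⟩ :=
    PrimeSpectrum.isTopologicalBasis_basic_opens.exists_subset_of_mem_open hpW₀ W₀.2
  let D : (Spec R).Opens := PrimeSpectrum.basicOpen f
  let s : Γ(A, D) := A.presheaf.map (homOfLE (show D ≤ W₀ from hfW)).op s₀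
  have hres : ∀ q (hq : q ∈ D), A.presheaf.germ D q hq s = A.presheaf.germ W₀ q (hfW hq) s₀ :=
    fun q hq => TopCat.Presheaf.germ_res_apply A.presheaf _ q hq s₀
  let O : Set (Spec R) := {q | ∃ hq : q ∈ D, A.presheaf.germ D q hq s ∈ LinearMap.range (st j q)}
  have hO : IsOpen O := by
    rw [isOpen_iff_mem_nhds]
    rintro q ⟨hq, w, hw⟩
    obtain ⟨V, hqV, a, rfl⟩ := TopCat.Presheaf.exists_germ_eq (tilde E).presheaf w
    rw [st_germ] at hw
    obtain ⟨W, hqW, i₁, i₂, e⟩ := TopCat.Presheaf.germ_eq A.presheaf q hqV hq _ _ hw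
    refine Filter.mem_of_superset (W.2.mem_nhds hqW) fun q' hq' =>
      ⟨i₂.le hq', (tilde E).presheaf.germ V q' (i₁.le hq') a, ?_⟩
    rw [st_germ, ← TopCat.Presheaf.germ_res_apply A.presheaf i₁ q' hq',
      ← TopCat.Presheaf.germ_res_apply A.presheaf i₂ q' hq', e]
  obtain ⟨Is, hIs⟩ : ∃ I : Ideal R, PrimeSpectrum.zeroLocus (I : Set R) = Oᶜ := by
    obtain ⟨I, hI⟩ := (PrimeSpectrum.isClosed_iff_zeroLocus_ideal _).1 hO.isClosed_compl
    exact ⟨I, hI.symm⟩
  have hbadI : ∀ q : Spec R, Is ≤ q.asIdeal ↔ q ∉ O := fun q => by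
    rw [← Set.mem_compl_iff, ← hIs]
    rfl
  have hp₀O : Is ≤ p₀.asIdeal := (hbadI p₀).2 fun ⟨hq, w, hw⟩ => hz ⟨w, hw.trans (hres p₀ hq)⟩
  obtain ⟨P, hP, hPp⟩ := Ideal.exists_minimalPrimes_le hp₀O
  let p : Spec R := ⟨P, hP.1.1⟩
  have hpD : p ∈ D := fun h => hpf (hPp h)
  -- the other minimal primes
  obtain ⟨f', hf', hf'min⟩ : ∃ f' : R, f' ∉ P ∧ ∀ Q ∈ Is.minimalPrimes, Q ≠ P → f' ∈ Q := by
    classical
    have hfin := Ideal.finite_minimalPrimes_of_isNoetherianRing R Is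
    have hex : ∀ Q : Ideal R, Q ∈ Is.minimalPrimes → Q ≠ P → ∃ x ∈ Q, x ∉ P := fun Q hQ hne => by
      by_contra! hle
      exact hne (le_antisymm hle (hP.2 hQ.1 hle))
    choose c hc hc' using hex
    let g : Ideal R → R := fun Q => if h : Q ∈ Is.minimalPrimes ∧ Q ≠ P then c Q h.1 h.2 else 1
    haveI := hP.1.1
    refine ⟨∏ Q ∈ hfin.toFinset, g Q, fun hm => ?_, fun Q hQ hne => ?_⟩
    · obtain ⟨Q, -, hgQ⟩ := hP.1.1.prod_mem_iff.1 hm
      by_cases h : Q ∈ Is.minimalPrimes ∧ Q ≠ P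
      · simp only [g] at hgQ; rw [dif_pos h] at hgQ; exact hc' Q h.1 h.2 hgQ
      · simp only [g, dif_neg h] at hgQ
        exact hP.1.1.ne_top ((Ideal.eq_top_iff_one P).2 hgQ)
    · refine Ideal.mem_of_dvd _ (Finset.dvd_prod_of_mem g (hfin.mem_toFinset.2 hQ)) ?_
      simp only [g]
      rw [dif_pos ⟨hQ, hne⟩]
      exact hc Q hQ hne
  let F := f * f'
  have hpF : F ∉ p.asIdeal := fun h => (hP.1.1.mem_or_mem h).elim (fun h => hpD h) hf'
  let W : (Spec R).Opens := PrimeSpectrum.basicOpen F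
  have hWD : W ≤ D := fun q hq h => hq (Ideal.mul_mem_right _ _ h)
  let O' : (Spec R).Opens :=
    W ⊓ ⟨(PrimeSpectrum.zeroLocus (P : Set R))ᶜ, (PrimeSpectrum.isClosed_zeroLocus _).isOpen_compl⟩
  have hO' : ∀ q ∈ O', q ∈ O := fun q hq => by
    by_contra hqO
    obtain ⟨Q, hQ, hQq⟩ := Ideal.exists_minimalPrimes_le ((hbadI q).2 hqO)
    by_cases hQP : Q = P
    · exact hq.2 (hQP ▸ hQq)
    · exact hq.1 (Ideal.mul_mem_left _ f (hQq (hf'min Q hQ hQP)))
  have hOW : O' ≤ D := inf_le_left.trans hWD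
  obtain ⟨a, ha⟩ := mem_range_app j (A.presheaf.map (homOfLE hOW).op s) fun q hq => by
    obtain ⟨hqD, h⟩ := hO' q hq
    rwa [TopCat.Presheaf.germ_res_apply]
  obtain ⟨y, rfl⟩ := gsec_surjective O' a
  let s₁ : Γ(A, W) := A.presheaf.map (homOfLE hWD).op s - j.app W (tilde.toOpen E W y)
  have hs₁ : ∀ q (hq : q ∈ W), A.presheaf.germ W q hq s₁ =
      A.presheaf.germ D q (hWD hq) s - st j q (gl q y) := fun q hq => by
    rw [map_sub, TopCat.Presheaf.germ_res_apply, ← st_germ, germ_toOpen]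
  have hs₁0 : ∀ q (hq : q ∈ W), ¬ P ≤ q.asIdeal → A.presheaf.germ W q hq s₁ = 0 := fun q hq hqP => by
    have hqO : q ∈ O' := ⟨hq, hqP⟩
    rw [hs₁, sub_eq_zero, ← germ_toOpen O' q hqO y, st_germ, ha]
    exact (TopCat.Presheaf.germ_res_apply A.presheaf _ q hqO s).symm
  have hpW : p ∈ W := hpF
  let z₁ := A.presheaf.germ W p hpW s₁
  have hz₁ : z₁ ∉ LinearMap.range (st j p) := fun h => by
    have hps : A.presheaf.germ D p hpD s ∈ LinearMap.range (st j p) := by
      rw [show A.presheaf.germ D p hpD s = z₁ + st j p (gl p y) by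
        change _ = A.presheaf.germ W p hpW s₁ + _
        rw [hs₁]; abel]
      exact Submodule.add_mem _ h ⟨_, rfl⟩
    exact (hbadI p).1 hP.1.2 ⟨hpD, hps⟩
  let J : Ideal R :=
    { carrier := {r | toSt p r • z₁ ∈ LinearMap.range (st j p)}
      add_mem' := fun {a b} ha hb => by
        change toSt p (a + b) • z₁ ∈ LinearMap.range (st j p)
        rw [map_add, add_smul]; exact Submodule.add_mem _ ha hb
      zero_mem' := by
        change toSt p 0 • z₁ ∈ LinearMap.range (st j p)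
        rw [map_zero, zero_smul]; exact Submodule.zero_mem _
      smul_mem' := fun c a ha => by
        change toSt p (c * a) • z₁ ∈ LinearMap.range (st j p)
        rw [map_mul, mul_smul]; exact Submodule.smul_mem _ _ ha }
  obtain ⟨n, c, hc⟩ := Submodule.fg_iff_exists_fin_generating_family.mp (IsNoetherian.noetherian J)
  have hcJ : ∀ i, c i ∈ J := fun i => hc ▸ Submodule.subset_span ⟨i, rfl⟩
  have hlift : ∀ i, ∃ y : E, st j p (gl p y) = toSt p (c i) • z₁ := fun i => by
    obtain ⟨w, hw⟩ := hcJ i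
    obtain ⟨y, rfl⟩ := gl_surjective p w
    exact ⟨y, hw⟩
  choose yi hyi using hlift
  let Q : (Fin n → R) →ₗ[R] R := Fintype.linearCombination R c
  let ψ : (Fin n → R) →ₗ[R] E := Fintype.linearCombination R yi
  let glL : E →+ (tilde E).presheaf.stalk p := AddMonoidHom.mk' (gl p) (gl_add p)
  have hψ : ∀ v, st j p (gl p (ψ v)) = toSt p (Q v) • z₁ := fun v => by
    change st j p (glL (ψ v)) = _
    simp only [ψ, Q, Fintype.linearCombination_apply, map_sum, smul_eq_mul, map_mul, Finset.sum_smul]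
    refine Finset.sum_congr rfl fun i _ => ?_
    change st j p (gl p (v i • yi i)) = _
    rw [gl_smul, map_smul, hyi, smul_smul]
  obtain ⟨T₀, hT₀, hker⟩ := exists_uniform (p := p) ψ (LinearMap.ker Q) (IsNoetherian.noetherian _)
    fun k hk => exists_smul_eq_zero (st_injective j p (by
      rw [hψ, LinearMap.mem_ker.1 hk, map_zero, zero_smul, map_zero]))
  have htors : ∀ i, ∃ (T : R) (N : ℕ), T ∉ p.asIdeal ∧
      ∀ g ∈ P ^ N, g • T • yi i = 0 := by
    intro i
    obtain ⟨V, hpV, i₁, i₂, e⟩ := TopCat.Presheaf.germ_eq A.presheaf p hpW hpW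
      (j.app W (tilde.toOpen E W (yi i))) (c i • s₁) (by
        rw [← st_germ, germ_toOpen, hyi, germ_smul_spec])
    obtain ⟨_, ⟨h, rfl⟩, hph, hhV⟩ :=
      PrimeSpectrum.isTopologicalBasis_basic_opens.exists_subset_of_mem_open hpV V.2
    have hvan : ∀ g ∈ P, ∀ q : Spec R, h * g ∉ q.asIdeal → gl q (yi i) = 0 := fun g hg q hq => by
      have hqV : q ∈ V := hhV fun hh => hq (Ideal.mul_mem_right _ _ hh)
      have hqW : q ∈ W := i₁.le hqV
      refine st_injective j q ?_
      rw [map_zero, ← germ_toOpen W q hqW, st_germ, ← TopCat.Presheaf.germ_res_apply A.presheaf i₁ q hqV,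
        e, TopCat.Presheaf.germ_res_apply, germ_smul_spec,
        hs₁0 q hqW fun hle => hq (Ideal.mul_mem_left _ _ (hle hg)), smul_zero]
    let a : Ideal R :=
      { carrier := {g | ∃ t ∉ p.asIdeal, t • g • yi i = 0}
        add_mem' := fun {g g'} ⟨t, ht, e⟩ ⟨t', ht', e'⟩ => ⟨t * t',
          fun hm => (p.isPrime.mem_or_mem hm).elim ht ht', by
            rw [add_smul, smul_add, mul_smul, mul_smul, smul_comm t t' (g • _), e, e',
              smul_zero, smul_zero, add_zero]⟩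
        zero_mem' := ⟨1, fun h => p.isPrime.ne_top ((Ideal.eq_top_iff_one _).2 h), by
          rw [zero_smul, smul_zero]⟩
        smul_mem' := fun r g ⟨t, ht, e⟩ => ⟨t, ht, by
          rw [smul_eq_mul, mul_smul, smul_comm t r, e, smul_zero]⟩ }
    obtain ⟨N, hN⟩ := Ideal.exists_pow_le_of_le_radical_of_fg (I := P) (J := a) (fun g hg => by
      obtain ⟨m, hm⟩ := exists_pow_smul_eq_zero (yi i) (h * g) (hvan g hg)
      exact ⟨m, h ^ m, fun hh => hph (p.isPrime.mem_of_pow_mem m hh), by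
        rw [smul_smul, ← mul_pow, hm]⟩) (IsNoetherian.noetherian P)
    obtain ⟨T, hT, hTa⟩ := exists_uniform (p := p) (LinearMap.toSpanSingleton R E (yi i)) (P ^ N)
      (IsNoetherian.noetherian _) fun g hg => hN hg
    exact ⟨T, N, hT, fun g hg => by rw [smul_comm]; exact hTa g hg⟩
  choose Ti Ni hTi hNi using htors
  let T := T₀ * ∏ i, Ti i
  have hT : T ∉ p.asIdeal := fun h => (p.isPrime.mem_or_mem h).elim hT₀ fun h => by
    obtain ⟨i, -, hi⟩ := p.isPrime.prod_mem_iff.1 h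
    exact hTi i hi
  let G : Submodule R E := ⨆ k : ℕ, Submodule.torsionBySet R E ((P ^ k : Ideal R) : Set R)
  have hG : ∀ v, T • ψ v ∈ G := fun v => by
    simp only [ψ, Fintype.linearCombination_apply, Finset.smul_sum]
    refine Submodule.sum_mem _ fun i _ => ?_
    obtain ⟨r, hr⟩ : Ti i ∣ T := Dvd.dvd.mul_left (Finset.dvd_prod_of_mem Ti (Finset.mem_univ i)) T₀
    rw [smul_comm, hr, mul_comm, mul_smul]
    exact Submodule.smul_mem _ _ (Submodule.smul_mem _ _
      ((Groth.Agent.InjHull.mem_iSup_torsionBySet_iff P _).2 ⟨Ni i, hNi i⟩))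
  let ψ₁ : (Fin n → R) →ₗ[R] G := LinearMap.codRestrict G (T • ψ) hG
  have hQ : LinearMap.range Q = J := (Fintype.range_linearCombination R c).trans hc
  have hker₁ : LinearMap.ker Q ≤ LinearMap.ker ψ₁ := fun k hk => LinearMap.mem_ker.2 (Subtype.ext (by
    change T • ψ k = 0
    rw [show T = (∏ i, Ti i) * T₀ from mul_comm _ _, mul_smul, hker k hk, smul_zero]))
  haveI : Module.Injective R G := Groth.Agent.InjHull.injective_iSup_torsionBySet E P
  obtain ⟨g, hg⟩ := Module.Injective.out (R := R) ((LinearMap.ker Q).liftQ Q le_rfl)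
    (LinearMap.ker_eq_bot.1 (Submodule.ker_liftQ_eq_bot' _ _ rfl))
    ((LinearMap.ker Q).liftQ ψ₁ hker₁)
  let e₀ : E := (g 1).1
  have he₀ : ∀ v, Q v • e₀ = T • ψ v := fun v => by
    have h1 := congrArg Subtype.val (hg (Submodule.Quotient.mk v))
    simp only [Submodule.liftQ_apply] at h1
    rw [← mul_one (Q v), ← smul_eq_mul, map_smul] at h1
    exact h1
  obtain ⟨N, hN⟩ := (Groth.Agent.InjHull.mem_iSup_torsionBySet_iff P e₀).1 (g 1).2
  let s₂ : Γ(A, W) := T • s₁ - j.app W (tilde.toOpen E W e₀)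
  have hs₂ : ∀ q (hq : q ∈ W), A.presheaf.germ W q hq s₂ =
      toSt q T • A.presheaf.germ W q hq s₁ - st j q (gl q e₀) := fun q hq => by
    rw [map_sub, germ_smul_spec, ← st_germ, germ_toOpen]
  have hs₂0 : ∀ q (hq : q ∈ W), ¬ P ≤ q.asIdeal → A.presheaf.germ W q hq s₂ = 0 := fun q hq hqP => by
    obtain ⟨b, hbP, hbq⟩ := Set.not_subset.1 hqP
    have h0 : gl q e₀ = 0 := (isUnit_toSt (p := q) fun h => hbq (q.isPrime.mem_of_pow_mem N h)).smul_left_cancel.1
      (by rw [← gl_smul, hN (b ^ N) (Ideal.pow_mem_pow hbP N), gl_zero, smul_zero])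
    rw [hs₂, hs₁0 q hq hqP, smul_zero, h0, map_zero, sub_zero]
  let z₂ := A.presheaf.germ W p hpW s₂
  have hJ0 : ∀ r ∈ J, toSt p r • z₂ = 0 := fun r hr => by
    obtain ⟨v, rfl⟩ : r ∈ LinearMap.range Q := hQ.symm ▸ hr
    change toSt p (Q v) • A.presheaf.germ W p hpW s₂ = 0
    rw [hs₂, smul_sub, smul_comm, ← hψ, ← (st j p).map_smul, ← gl_smul, ← (st j p).map_smul, ← gl_smul, he₀, sub_self]
  have hJ : ∀ r, toSt p r • z₂ ∈ LinearMap.range (st j p) → r ∈ J := fun r hr => by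
    change toSt p r • z₁ ∈ LinearMap.range (st j p)
    have h1 : toSt p T • toSt p r • z₁ ∈ LinearMap.range (st j p) := by
      have h2 : toSt p T • toSt p r • z₁ = toSt p r • z₂ + toSt p r • st j p (gl p e₀) := by
        change _ = toSt p r • A.presheaf.germ W p hpW s₂ + _
        rw [hs₂, smul_sub, sub_add_cancel, smul_comm]
      rw [h2]
      exact Submodule.add_mem _ hr (Submodule.smul_mem _ _ ⟨_, rfl⟩)
    obtain ⟨u, hu⟩ := isUnit_toSt hT
    simpa [← hu, smul_smul] using Submodule.smul_mem _ (↑u⁻¹ : (Spec R).presheaf.stalk p) h1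
  have hz₂ : z₂ ∉ LinearMap.range (st j p) := fun h => hz₁ (by
    have h1 : toSt p 1 • z₁ ∈ LinearMap.range (st j p) := hJ 1 (by rwa [map_one, one_smul])
    rwa [map_one, one_smul] at h1)
  -- a neighbourhood on which `J` kills `s₂`
  have hnb : ∀ i, ∃ V : (Spec R).Opens, p ∈ V ∧
      ∀ q ∈ V, ∀ hq : q ∈ W, toSt q (c i) • A.presheaf.germ W q hq s₂ = 0 := fun i => by
    obtain ⟨V, hpV, i₁, i₂, e⟩ := TopCat.Presheaf.germ_eq A.presheaf p hpW hpW (c i • s₂) 0
      (by rw [germ_smul_spec, map_zero]; exact hJ0 _ (hcJ i))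
    refine ⟨V, hpV, fun q hqV hq => ?_⟩
    rw [← germ_smul_spec, ← TopCat.Presheaf.germ_res_apply A.presheaf i₁ q hqV, e, map_zero, map_zero]
  choose V hpV hV using hnb
  let W' : (Spec R).Opens := W ⊓ ⟨_, isOpen_iInter_of_finite fun i => (V i).2⟩
  have hpW' : p ∈ W' := ⟨hpW, Set.mem_iInter.2 hpV⟩
  have hkill : ∀ q (hq : q ∈ W'), ∀ r ∈ J, toSt q r • A.presheaf.germ W q hq.1 s₂ = 0 := by
    intro q hq r hr
    obtain ⟨v, rfl⟩ : r ∈ LinearMap.range Q := hQ.symm ▸ hr
    simp only [Q, Fintype.linearCombination_apply, map_sum, Finset.sum_smul, smul_eq_mul, map_mul]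
    refine Finset.sum_eq_zero fun i _ => ?_
    rw [mul_smul, hV i q (Set.mem_iInter.1 hq.2 i) hq.1, smul_zero]
  let N' : ∀ q : Spec R, Submodule ((Spec R).presheaf.stalk q) (A.presheaf.stalk q) := fun q =>
    ⨆ hq : q ∈ W', Submodule.span _ {A.presheaf.germ W q hq.1 s₂}
  have hB := hj (subObj N') fun q w hw hwj => by
    have hwN := stImg_subObj_le N' q hw
    by_cases hq : q ∈ W'
    · simp only [N', iSup_pos hq] at hwN
      obtain ⟨d, rfl⟩ := Submodule.mem_span_singleton.1 hwN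
      by_cases hqP : P ≤ q.asIdeal
      · obtain ⟨r, t, ht, hrt⟩ := exists_frac q d
        have hr : toSt q r • A.presheaf.germ W q hq.1 s₂ ∈ LinearMap.range (st j q) := by
          rw [← hrt, mul_comm, mul_smul]
          exact Submodule.smul_mem _ _ hwj
        obtain ⟨b, hb⟩ := hr
        have hpq : p ⤳ q := (PrimeSpectrum.le_iff_specializes p q).1 hqP
        have hrJ : r ∈ J := hJ r ⟨sp hpq b, by rw [← sp_st, hb, sp_smul, sp_germ]⟩
        refine (isUnit_toSt ht).smul_left_cancel.1 ?_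
        rw [smul_smul, mul_comm, hrt, hkill q hq r hrJ, smul_zero]
      · rw [hs₂0 q hq.1 hqP, smul_zero]
    · simp only [N', iSup_neg hq, Submodule.mem_bot] at hwN
      exact hwN
  refine hz₂ ?_
  have hm := germ_mem_subObj N' (A.presheaf.map (homOfLE (inf_le_left : W' ≤ W)).op s₂) (fun q hq => by
    rw [TopCat.Presheaf.germ_res_apply]
    exact Submodule.mem_iSup_of_mem hq (Submodule.mem_span_singleton_self _)) p hpW'
  rw [TopCat.Presheaf.germ_res_apply, hB, stImg_bot, Submodule.mem_bot] at hm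
  exact (show z₂ = 0 from hm).symm ▸ Submodule.zero_mem _

/-- On a Noetherian affine scheme `E~` is injective for injective `E`. -/
theorem injective_tilde (E : ModuleCat.{u} R) [Module.Injective R E] : Injective (tilde E) := by
  obtain ⟨A, j, hA, hjm, hj⟩ := exists_hull (tilde E)
  haveI := hjm
  haveI := isIso_of_essential j hj
  exact Injective.of_iso (asIso j).symm hA

end Groth.Agent.W7Hull
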