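import Groth.Agent.W7Hull.QCoh
import Groth.Agent.Devissage.Support
import Groth.Agent.QC.Coherent
import Groth.Agent.RPushQC.SectionsExact

/-!
Submodules avoiding a kernel supported off an open subset; extending maps defined on an open subset.
-/

set_option autoImplicit false
set_option backward.isDefEq.respectTransparency false
set_option linter.style.haveILetI false

universe u

open CategoryTheory CategoryTheory.Limits AlgebraicGeometry TopologicalSpace Opposite

noncomputable section

namespace Groth.Agent.W7Hull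

variable {X : Scheme.{u}} {M N A B : X.Modules}

lemma st_eq_stalkMap (f : M ⟶ N) (x : X) (z : M.presheaf.stalk x) :
    st f x z = (TopCat.Presheaf.stalkFunctor _ x).map f.mapPresheaf z := by
  obtain ⟨W, hx, s, rfl⟩ := TopCat.Presheaf.exists_germ_eq M.presheaf z
  rw [st_germ]
  exact (TopCat.Presheaf.stalkFunctor_map_germ_apply W x hx f.mapPresheaf s).symm

lemma restrict_stalk_bijective_iff (f : M ⟶ N) (U : X.Opens) (x : (U : Scheme.{u})) :
    Function.Bijective (st ((Scheme.Modules.restrictFunctor U.ι).map f) x) ↔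
      Function.Bijective (st f (U.ι x)) := by
  let S := (Scheme.Modules.restrictFunctor U.ι ⋙ Scheme.Modules.toPresheaf _ ⋙
    TopCat.Presheaf.stalkFunctor _ x).map f
  let S' := (Scheme.Modules.toPresheaf _ ⋙ TopCat.Presheaf.stalkFunctor _ (U.ι x)).map f
  have e : IsIso S ↔ IsIso S' :=
    NatIso.isIso_map_iff (Scheme.Modules.restrictStalkNatIso U.ι x) f
  rw [ConcreteCategory.isIso_iff_bijective, ConcreteCategory.isIso_iff_bijective] at e
  have e1 : ⇑(st ((Scheme.Modules.restrictFunctor U.ι).map f) x) = ⇑(ConcreteCategory.hom S) :=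
    funext fun z => st_eq_stalkMap _ x z
  have e2 : ⇑(st f (U.ι x)) = ⇑(ConcreteCategory.hom S') :=
    funext fun z => st_eq_stalkMap _ (U.ι x) z
  rw [e1, e2]
  exact e

lemma bijective_of_isIso (f : M ⟶ N) [IsIso f] (x : X) : Function.Bijective (st f x) :=
  ⟨st_injective f x, fun z => ⟨st (inv f) x z, by rw [← st_comp, IsIso.inv_hom_id, st_id]⟩⟩

lemma bijective_of_isIso_restrict (f : M ⟶ N) (U : X.Opens)
    [IsIso ((Scheme.Modules.restrictFunctor U.ι).map f)] {x : X} (hx : x ∈ U) :
    Function.Bijective (st f x) :=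
  (restrict_stalk_bijective_iff f U ⟨x, hx⟩).1 (bijective_of_isIso _ _)

lemma isIso_restrict_of_bijective (f : M ⟶ N) (U : X.Opens)
    (h : ∀ x ∈ U, Function.Bijective (st f x)) :
    IsIso ((Scheme.Modules.restrictFunctor U.ι).map f) := by
  have hb : ∀ x, Function.Bijective (st ((Scheme.Modules.restrictFunctor U.ι).map f) x) := fun x =>
    (restrict_stalk_bijective_iff f U x).2 (h _ x.2)
  haveI := mono_of_stalk fun x => (hb x).1
  haveI := epi_of_stalk fun x => (hb x).2
  exact isIso_of_mono_of_epi _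

lemma bijective_unitE (U : X.Opens) (M : X.Modules) {x : X} (hx : x ∈ U) :
    Function.Bijective (st (Devissage.unitE U M) x) := by
  haveI : IsIso ((Scheme.Modules.restrictFunctor U.ι).map (Devissage.unitE U M)) := by
    have h := (Scheme.Modules.restrictAdjunction U.ι).left_triangle_components M
    haveI : IsIso ((Scheme.Modules.restrictFunctor U.ι).map (Devissage.unitE U M) ≫
        (Scheme.Modules.restrictAdjunction U.ι).counit.app
          ((Scheme.Modules.restrictFunctor U.ι).obj M)) := h.symm ▸ inferInstanceAs (IsIso (𝟙 _))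
    exact IsIso.of_isIso_comp_right _ ((Scheme.Modules.restrictAdjunction U.ι).counit.app
      ((Scheme.Modules.restrictFunctor U.ι).obj M))
  exact bijective_of_isIso_restrict _ U hx

lemma stalk_eq_zero_of_essential (j : N ⟶ A) (hj : Essential j) (U : X.Opens)
    (hU : ∀ x ∈ U, ∀ z : N.presheaf.stalk x, z = 0) {x : X} (hx : x ∈ U)
    (z : A.presheaf.stalk x) : z = 0 := by
  classical
  obtain ⟨W, hxW, s, rfl⟩ := TopCat.Presheaf.exists_germ_eq A.presheaf z
  let P : ∀ y : X, Submodule (X.presheaf.stalk y) (A.presheaf.stalk y) :=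
    fun y => if y ∈ U then ⊤ else ⊥
  have hB : subObj P = ⊥ := hj _ fun y w hw hwr => by
    have hPy := stImg_subObj_le P y hw
    by_cases hy : y ∈ U
    · obtain ⟨k, rfl⟩ := hwr
      rw [hU y hy k, map_zero]
    · simpa [P, hy] using hPy
  have hxW' : x ∈ W ⊓ U := ⟨hxW, hx⟩
  have hmem := germ_mem_subObj P (A.presheaf.map (homOfLE (inf_le_left : W ⊓ U ≤ W)).op s)
    (fun y hy => by rw [show P y = ⊤ from if_pos hy.2]; trivial) x hxW'
  rw [hB, stImg_bot, Submodule.mem_bot, A.presheaf.germ_res_apply] at hmem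
  exact hmem

/-- A quasi-coherent submodule on which a map injective over `U` stays injective, equal over `U`. -/
theorem exists_avoid [IsLocallyNoetherian X] (hM : Coh.IsQCoh M) (hN : Coh.IsQCoh N) (q : M ⟶ N)
    (U : X.Opens) (hq : ∀ x ∈ U, Function.Injective (st q x)) :
    ∃ (H : X.Modules) (h : H ⟶ M), Mono h ∧ Mono (h ≫ q) ∧ Coh.IsQCoh H ∧
      ∀ x ∈ U, Function.Bijective (st h x) := by
  obtain ⟨C, j, hC, hjm, hj⟩ := exists_hull (kernel q)
  haveI := hC
  haveI := hjm
  have hCq : Coh.IsQCoh C := isQCoh_of_essential (QC.isQCoh_kernel hM hN q) j hj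
  let e : M ⟶ C := Injective.factorThru j (kernel.ι q)
  have he : kernel.ι q ≫ e = j := Injective.comp_factorThru _ _
  have hK : ∀ x ∈ U, ∀ z : (kernel q).presheaf.stalk x, z = 0 := fun x hx z =>
    st_injective (kernel.ι q) x (hq x hx (by rw [← st_comp, kernel.condition, st_zero, map_zero, map_zero]))
  refine ⟨kernel e, kernel.ι e, inferInstance, mono_of_stalk fun x => ?_,
    QC.isQCoh_kernel hM hCq e, fun x hx => ⟨st_injective _ x, fun z => ?_⟩⟩
  · refine (injective_iff_map_eq_zero _).2 fun z hz => ?_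
    rw [st_comp] at hz
    obtain ⟨k, hk⟩ := st_exact_kernel q x _ hz
    have h0 : st j x k = 0 := by rw [← he, st_comp, hk, ← st_comp, kernel.condition, st_zero]
    refine st_injective (kernel.ι e) x ?_
    rw [← hk, st_injective j x (h0.trans (map_zero _).symm), map_zero, map_zero]
  · exact LinearMap.mem_range.1 (st_exact_kernel e x z (stalk_eq_zero_of_essential j hj U hK hx _))

/-- A map defined over an open subset extends to a quasi-coherent submodule equal over it. -/
theorem exists_extend_hom [IsLocallyNoetherian X] {F G : X.Modules} (hF : Coh.IsQCoh F)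
    (hG : Coh.IsQCoh G) (U : X.Opens) (φ : (Scheme.Modules.restrictFunctor U.ι).obj F ⟶
      (Scheme.Modules.restrictFunctor U.ι).obj G) :
    ∃ (F' : X.Modules) (ι : F' ⟶ F) (φ' : F' ⟶ G), Mono ι ∧ Coh.IsQCoh F' ∧
      IsIso ((Scheme.Modules.restrictFunctor U.ι).map ι) ∧
        (Scheme.Modules.restrictFunctor U.ι).map φ' =
          (Scheme.Modules.restrictFunctor U.ι).map ι ≫ φ := by
  have hGU : (G.restrict U.ι).IsQuasicoherent := QC.isQCoh_restrict U.ι hG
  have hP : Coh.IsQCoh ((Scheme.Modules.pushforward U.ι).obj (G.restrict U.ι)) :=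
    QC.isQCoh_pushforward U.ι
  let a : F ⟶ (Scheme.Modules.pushforward U.ι).obj (G.restrict U.ι) :=
    Devissage.unitE U F ≫ (Scheme.Modules.pushforward U.ι).map φ
  let d : F ⊞ G ⟶ (Scheme.Modules.pushforward U.ι).obj (G.restrict U.ι) :=
    biprod.fst ≫ a - biprod.snd ≫ Devissage.unitE U G
  have hFG : Coh.IsQCoh (F ⊞ G) := RPushQC.isQCoh_biprod hF hG
  have hd : kernel.ι d ≫ biprod.fst ≫ a = kernel.ι d ≫ biprod.snd ≫ Devissage.unitE U G :=
    sub_eq_zero.1 (by rw [← Preadditive.comp_sub]; exact kernel.condition d)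
  obtain ⟨H, h, hh, hhq, hH, hbij⟩ := exists_avoid (QC.isQCoh_kernel hFG hP d) hF
    (kernel.ι d ≫ biprod.fst) U fun x hx => (injective_iff_map_eq_zero _).2 fun z hz => by
      refine st_injective (kernel.ι d) x (Eq.trans ?_ (map_zero _).symm)
      have h1 : st (kernel.ι d ≫ biprod.snd) x z = 0 := by
        refine (bijective_unitE U G hx).1 (Eq.trans ?_ (map_zero _).symm)
        rw [← st_comp, Category.assoc, ← hd, ← Category.assoc, st_comp, hz, map_zero]
      have ht : kernel.ι d = kernel.ι d ≫ biprod.fst ≫ biprod.inl +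
          kernel.ι d ≫ biprod.snd ≫ biprod.inr := by
        rw [← Preadditive.comp_add, biprod.total, Category.comp_id]
      rw [ht, ← Category.assoc, ← Category.assoc (kernel.ι d) biprod.snd]
      have hadd : ∀ {P Q : X.Modules} (f g : P ⟶ Q) (w : P.presheaf.stalk x),
          st (f + g) x w = st f x w + st g x w := fun f g w =>
        LinearMap.congr_fun (congrArg ModuleCat.Hom.hom (Functor.map_add (DerSch.stalkFunctor X x))) w
      rw [hadd, st_comp, st_comp (kernel.ι d ≫ biprod.snd), hz, h1, map_zero, map_zero, add_zero]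
  have key : (h ≫ kernel.ι d ≫ biprod.fst) ≫ a = (h ≫ kernel.ι d ≫ biprod.snd) ≫
      Devissage.unitE U G := by
    simp only [Category.assoc, hd]
  haveI := hhq
  refine ⟨H, h ≫ kernel.ι d ≫ biprod.fst, h ≫ kernel.ι d ≫ biprod.snd, hhq, hH,
    isIso_restrict_of_bijective _ U fun x hx => ⟨st_injective _ x, fun f => ?_⟩, ?_⟩
  · obtain ⟨g, hg⟩ := (bijective_unitE U G hx).2 (st a x f)
    let z := st (biprod.inl : F ⟶ F ⊞ G) x f + st (biprod.inr : G ⟶ F ⊞ G) x g
    have hz : st d x z = 0 := by
      have h1 : biprod.inl ≫ d = a := by simp [d]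
      have h2 : biprod.inr ≫ d = -Devissage.unitE U G := by simp [d]
      have hneg : st (-Devissage.unitE U G) x g = -st (Devissage.unitE U G) x g :=
        LinearMap.congr_fun (congrArg ModuleCat.Hom.hom (Functor.map_neg (DerSch.stalkFunctor X x))) g
      rw [map_add, ← st_comp, ← st_comp, h1, h2, hneg, hg, add_neg_cancel]
    obtain ⟨w, hw⟩ := st_exact_kernel d x z hz
    obtain ⟨v, rfl⟩ := (hbij x hx).2 w
    refine ⟨v, ?_⟩
    rw [st_comp, st_comp, hw, map_add, ← st_comp, ← st_comp, biprod.inl_fst, biprod.inr_fst, st_id,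
      st_zero, add_zero]
  · apply ((Scheme.Modules.restrictAdjunction U.ι).homEquiv _ _).injective
    have e : ∀ {P Q : X.Modules} (k : P ⟶ Q),
        (Scheme.Modules.restrictAdjunction U.ι).unit.app P ≫ (Scheme.Modules.pushforward U.ι).map
          ((Scheme.Modules.restrictFunctor U.ι).map k) = k ≫ Devissage.unitE U Q := fun k =>
      Adjunction.unit_naturality (Scheme.Modules.restrictAdjunction U.ι) k
    rw [Adjunction.homEquiv_unit, Adjunction.homEquiv_unit]
    refine (e _).trans (key.symm.trans ?_)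
    exact ((congrArg (fun t => t ≫ (Scheme.Modules.pushforward U.ι).map φ) (e _)).trans
      (Category.assoc _ _ _)).symm.trans ((Category.assoc _ _ _).trans (congrArg (_ ≫ ·)
        (Functor.map_comp _ _ _).symm))

end Groth.Agent.W7Hull
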