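import Groth.Agent.W7Hull.LiftHom
import Groth.Agent.LocalCrit.Criterion

/-!
Monomorphisms and epimorphisms lift from the closed fibre.
-/

set_option autoImplicit false
set_option backward.isDefEq.respectTransparency false
set_option backward.isDefEq.respectTransparency.types false
set_option linter.style.haveILetI false
set_option maxHeartbeats 1000000

universe u

open CategoryTheory CategoryTheory.Limits AlgebraicGeometry TopologicalSpace Opposite

noncomputable section

namespace Groth.Agent.W7Hull

variable {X : Scheme.{u}} (A : Type u) [CommRing A] [X.Over (Spec (CommRingCat.of A))]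

/-- `A → O_{X,x}` -/
def toStalk (x : X) : A →+* X.presheaf.stalk x :=
  (X.presheaf.germ ⊤ x trivial).hom.comp (Coh.toGlobal (X ↘ Spec (CommRingCat.of A)))

lemma st_smulMod (M : X.Modules) (a : A) (x : X) (z : M.presheaf.stalk x) :
    st (Formal.smulMod A M a) x z = toStalk A x a • z := by
  obtain ⟨U, hx, s, rfl⟩ := TopCat.Presheaf.exists_germ_eq M.presheaf z
  rw [st_germ]
  change M.presheaf.germ U x hx
    ((show Γ(X, U) from Coh.resTop X (op U) (Coh.toGlobal (X ↘ Spec (CommRingCat.of A)) a)) • s) = _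
  rw [Mero.germ_smul]
  exact congrArg (· • _) (TopCat.Presheaf.germ_res_apply X.presheaf _ x hx _)

variable {A}

lemma IsQuot.stalk_ker {n : ℕ} {a : Fin n → A} {M Q : X.Modules} {p : M ⟶ Q} (h : IsQuot a p) (x : X)
    (z : M.presheaf.stalk x) (hz : st p x z = 0) :
    ∃ t : Fin n → M.presheaf.stalk x, z = ∑ i, toStalk A x (a i) • t i := by
  haveI : HasFiniteBiproducts X.Modules := HasFiniteBiproducts.of_hasFiniteProducts
  let σ : (⨁ fun _ : Fin n => M) ⟶ M := biproduct.desc fun i => Formal.smulMod A M (a i)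
  obtain ⟨d, hd⟩ := h.2.2 (cokernel.π σ) fun i => by
    rw [← biproduct.ι_desc (f := fun _ : Fin n => M) (fun i => Formal.smulMod A M (a i)) i, Category.assoc,
      cokernel.condition, comp_zero]
  have h0 : st (cokernel.π σ) x z = 0 := by rw [← hd, st_comp, hz, map_zero]
  obtain ⟨w, rfl⟩ := st_exact_cokernel σ x z h0
  refine ⟨fun i => st (biproduct.π (fun _ : Fin n => M) i) x w, ?_⟩
  have hσ : σ = ∑ i, biproduct.π (fun _ : Fin n => M) i ≫ Formal.smulMod A M (a i) := biproduct.desc_eq
  rw [hσ]
  haveI : (DerSch.stalkFunctor X x).Additive := inferInstance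
  change ((DerSch.stalkFunctor X x).map _).hom w = _
  rw [Functor.map_sum, ModuleCat.hom_sum, LinearMap.sum_apply]
  exact Finset.sum_congr rfl fun i _ => (st_comp _ _ x w).trans (st_smulMod A M (a i) x _)

lemma IsQuot.stalk_zero {n : ℕ} {a : Fin n → A} {M Q : X.Modules} {p : M ⟶ Q} (h : IsQuot a p) (x : X)
    (i : Fin n) (z : M.presheaf.stalk x) : st p x (toStalk A x (a i) • z) = 0 := by
  rw [← st_smulMod A M (a i) x z, ← st_comp, h.1 i, st_zero]

theorem subsingleton_stalk_of_specializes {M : X.Modules} (hM : Coh.IsCoh M) {x x' : X} (h : x ⤳ x')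
    (h' : Subsingleton (M.presheaf.stalk x')) : Subsingleton (M.presheaf.stalk x) := by
  by_contra hx
  exact ((QC.isClosed_support hM.2).closure_subset_iff.2 (Set.singleton_subset_iff.2 hx)
    (specializes_iff_mem_closure.1 h)) h'

theorem injective_stalk_of_specializes [IsLocallyNoetherian X] {F G : X.Modules} (hF : FlatMod.IsFinLocFree F)
    (hG : FlatMod.IsFinLocFree G) (u : F ⟶ G) {x x' : X} (h : x ⤳ x') (h' : Function.Injective (st u x')) :
    Function.Injective (st u x) := by
  have hK : Coh.IsCoh (kernel u) := QC.isCoh_kernel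
    ⟨LocFree.isQCoh_of_isFinLocFree hF, LocFree.isFT_of_isFinLocFree hF⟩ (LocFree.isQCoh_of_isFinLocFree hG) u
  have hsub : Subsingleton ((kernel u).presheaf.stalk x') := by
    refine subsingleton_of_forall_eq 0 fun z => st_injective (kernel.ι u) x' (h' ?_)
    rw [← st_comp, kernel.condition, st_zero, map_zero, map_zero]
  have hsub' := subsingleton_stalk_of_specializes hK h hsub
  refine (injective_iff_map_eq_zero _).2 fun z hz => ?_
  let S := ShortComplex.mk (kernel.ι u) u (kernel.condition u)
  have hS : S.Exact := ShortComplex.exact_of_f_is_kernel S (kernelIsKernel u)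
  obtain ⟨w, hw⟩ := (ShortComplex.moduleCat_exact_iff _).1 (hS.map (DerSch.stalkFunctor X x)) z hz
  rw [← hw, show w = 0 from @Subsingleton.elim _ hsub' _ _]
  exact map_zero _

theorem surjective_stalk_of_specializes {F G : X.Modules} (hF : FlatMod.IsFinLocFree F)
    (hG : FlatMod.IsFinLocFree G) (u : F ⟶ G) {x x' : X} (h : x ⤳ x') (h' : Function.Surjective (st u x')) :
    Function.Surjective (st u x) := by
  have hC : Coh.IsCoh (cokernel u) := QC.isCoh_cokernel (LocFree.isQCoh_of_isFinLocFree hF)
    ⟨LocFree.isQCoh_of_isFinLocFree hG, LocFree.isFT_of_isFinLocFree hG⟩ u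
  have hsub : Subsingleton ((cokernel u).presheaf.stalk x') := by
    refine subsingleton_of_forall_eq 0 fun z => ?_
    obtain ⟨w, rfl⟩ := (ModuleCat.epi_iff_surjective _).1
      (Functor.map_epi (DerSch.stalkFunctor X x') (cokernel.π u)) z
    obtain ⟨v, rfl⟩ := h' w
    change st (cokernel.π u) x' (st u x' v) = 0
    rw [← st_comp, cokernel.condition, st_zero]
  have hsub' := subsingleton_stalk_of_specializes hC h hsub
  intro z
  exact st_exact_cokernel u x z (@Subsingleton.elim _ hsub' _ _)

section Local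

variable [IsNoetherianRing A] [IsLocalRing A]

local notation "π₀" => (X ↘ Spec (CommRingCat.of A))
local notation "y₀" => IsLocalRing.closedPoint A
local notation "g₀" => Scheme.fromSpecResidueField (Spec (CommRingCat.of A)) y₀
local notation "ι₀" => Scheme.Hom.fiberι π₀ y₀

lemma toStalk_eq (x : X) (hx : (π₀).base x = y₀) (a : A) :
    toStalk A x a = ((π₀).stalkMap x).hom
      (((Spec (CommRingCat.of A)).presheaf.germ ⊤ ((π₀).base x) trivial).hom
        ((Scheme.ΓSpecIso (CommRingCat.of A)).inv a)) :=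
  (Scheme.Hom.germ_stalkMap_apply π₀ ⊤ x trivial _).symm

lemma isLocalHom_toStalk (x : X) (hx : (π₀).base x = y₀) : IsLocalHom (toStalk A x) := by
  refine ⟨fun a ha => ?_⟩
  rw [toStalk_eq x hx] at ha
  have h := IsUnit.of_map ((π₀).stalkMap x).hom _ ha
  have hmem : (π₀).base x ∈ (Spec (CommRingCat.of A)).basicOpen ((Scheme.ΓSpecIso (CommRingCat.of A)).inv a) :=
    (Scheme.mem_basicOpen _ _ _ (by trivial)).2 h
  rw [hx, show (Spec (CommRingCat.of A)).basicOpen ((Scheme.ΓSpecIso (CommRingCat.of A)).inv a) =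
      PrimeSpectrum.basicOpen a from basicOpen_eq_of_affine _] at hmem
  exact not_not.1 fun hnu => hmem ((IsLocalRing.mem_maximalIdeal a).2 hnu)

lemma flat_toStalk [Flat π₀] (x : X) (hx : (π₀).base x = y₀) : (toStalk A x).Flat := by
  have h1 : ((π₀).stalkMap x).hom.Flat := Flat.stalkMap π₀ x
  haveI : IsIso ((Spec (CommRingCat.of A)).presheaf.germ ⊤ ((π₀).base x) trivial) := by
    have key : ∀ y, y = y₀ → IsIso ((Spec (CommRingCat.of A)).presheaf.germ ⊤ y trivial) := by
      rintro y rfl
      rw [show (Spec (CommRingCat.of A)).presheaf.germ ⊤ y₀ trivial =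
        (Scheme.ΓSpecIso (CommRingCat.of A)).hom ≫ (stalkClosedPointIso (CommRingCat.of A)).inv from
        (Iso.eq_comp_inv _).2 (germ_stalkClosedPointIso_hom _)]
      infer_instance
    exact key _ hx
  have h2 : ((Scheme.ΓSpecIso (CommRingCat.of A)).inv ≫
      (Spec (CommRingCat.of A)).presheaf.germ ⊤ ((π₀).base x) trivial).hom.Flat :=
    RingHom.Flat.of_bijective (ConcreteCategory.bijective_of_isIso _)
  have h3 := RingHom.Flat.comp h2 h1
  have e : toStalk A x = RingHom.comp ((π₀).stalkMap x).hom ((Scheme.ΓSpecIso (CommRingCat.of A)).inv ≫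
      (Spec (CommRingCat.of A)).presheaf.germ ⊤ ((π₀).base x) trivial).hom := RingHom.ext fun a => toStalk_eq x hx a
  rw [e]
  exact h3

theorem exists_fibre_point [IsProper π₀] (x : X) : ∃ x' : X, x ⤳ x' ∧ (π₀).base x' = y₀ := by
  have hcl : IsClosedMap (π₀).base := (π₀).isClosedMap
  have h : y₀ ∈ (π₀).base '' closure {x} := by
    refine (hcl _ isClosed_closure).closure_subset ?_
    refine (IsLocalRing.specializes_closedPoint ((π₀).base x)).mem_closed isClosed_closure ?_
    exact subset_closure ⟨x, subset_closure rfl, rfl⟩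
  obtain ⟨x', hx', he⟩ := h
  exact ⟨x', specializes_iff_mem_closure.2 hx', he⟩

lemma unit_natural {F G : X.Modules} (u : F ⟶ G) :
    u ≫ (Scheme.Modules.pullbackPushforwardAdjunction ι₀).unit.app G =
      (Scheme.Modules.pullbackPushforwardAdjunction ι₀).unit.app F ≫
        (Scheme.Modules.pushforward ι₀).map ((Scheme.Modules.pullback ι₀).map u) :=
  (Scheme.Modules.pullbackPushforwardAdjunction ι₀).unit.naturality u


theorem stalk_injective_of_mono [Flat (X ↘ Spec (CommRingCat.of A))] [IsProper (X ↘ Spec (CommRingCat.of A))] {F G : X.Modules} (hF : FlatMod.IsFinLocFree F) (hG : FlatMod.IsFinLocFree G)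
    (u : F ⟶ G) [Mono ((Scheme.Modules.pullback ι₀).map u)] (x : X) (hx : (π₀).base x = y₀) :
    Function.Injective (st u x) := by
  haveI := isClosedImmersion_fiber (X := X) A
  haveI : IsLocallyNoetherian X := LocallyOfFiniteType.isLocallyNoetherian π₀
  obtain ⟨n, a, ha⟩ := Submodule.fg_iff_exists_fin_generating_family.1
    (IsNoetherian.noetherian (IsLocalRing.maximalIdeal A))
  have qF := isQuot_unit a ha F (LocFree.isQCoh_of_isFinLocFree hF)
  have qG := isQuot_unit a ha G (LocFree.isQCoh_of_isFinLocFree hG)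
  letI : Algebra A (X.presheaf.stalk x) := (toStalk A x).toAlgebra
  haveI : IsLocalHom (algebraMap A (X.presheaf.stalk x)) := isLocalHom_toStalk x hx
  haveI : Module.Flat A (X.presheaf.stalk x) := RingHom.flat_algebraMap_iff.1 (flat_toStalk x hx)
  letI : Module A (F.presheaf.stalk x) := Module.compHom _ (toStalk A x)
  letI : Module A (G.presheaf.stalk x) := Module.compHom _ (toStalk A x)
  haveI : IsScalarTower A (X.presheaf.stalk x) (F.presheaf.stalk x) := IsScalarTower.of_algebraMap_smul fun _ _ => rfl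
  haveI : IsScalarTower A (X.presheaf.stalk x) (G.presheaf.stalk x) := IsScalarTower.of_algebraMap_smul fun _ _ => rfl
  haveI := LocFree.free_stalk_of_isFinLocFree hG x
  haveI : Module.Flat A (G.presheaf.stalk x) := Module.Flat.trans A (X.presheaf.stalk x) _
  haveI := RegDual.finite_stalk (⟨LocFree.isQCoh_of_isFinLocFree hF, LocFree.isFT_of_isFinLocFree hF⟩ : Coh.IsCoh F) x
  let v : F.presheaf.stalk x →ₗ[A] G.presheaf.stalk x := (st u x).restrictScalars A
  refine (LocalCrit.injective_and_flat_of_residue_injective (X.presheaf.stalk x) v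
    ((LocalCrit.quot_lTensor_injective_iff (IsLocalRing.maximalIdeal A) v).2 fun z hz => ?_)).1
  have hmono : Mono ((Scheme.Modules.pushforward ι₀).map ((Scheme.Modules.pullback ι₀).map u)) :=
    haveI := GrothSS.preservesFiniteLimits_push ι₀
    inferInstance
  have hz0 : st ((Scheme.Modules.pullbackPushforwardAdjunction ι₀).unit.app G) x (st u x z) = 0 := by
    suffices key : ∀ w ∈ IsLocalRing.maximalIdeal A • (⊤ : Submodule A (G.presheaf.stalk x)),
        st ((Scheme.Modules.pullbackPushforwardAdjunction ι₀).unit.app G) x w = 0 from key (v z) hz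
    intro w hw
    induction hw using Submodule.smul_induction_on' with
    | smul c hc w _ =>
      rw [← ha] at hc
      obtain ⟨e, rfl⟩ := (Ideal.mem_span_range_iff_exists_fun).1 hc
      rw [Finset.sum_smul, map_sum]
      refine Finset.sum_eq_zero fun i _ => ?_
      rw [mul_comm, mul_smul]
      exact qG.stalk_zero x i _
    | add w _ w' _ hw hw' => rw [map_add, hw, hw', add_zero]
  have hz1 : st ((Scheme.Modules.pullbackPushforwardAdjunction ι₀).unit.app F) x z = 0 := by
    refine st_injective ((Scheme.Modules.pushforward ι₀).map ((Scheme.Modules.pullback ι₀).map u)) x ?_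
    rw [map_zero]
    refine (st_comp _ _ x z).symm.trans ?_
    refine Eq.trans ?_ hz0
    refine (congrArg (fun φ => st φ x z) (unit_natural u).symm).trans ?_
    exact st_comp _ _ x z
  obtain ⟨t, rfl⟩ := qF.stalk_ker x z hz1
  refine Submodule.sum_mem _ fun i _ => ?_
  exact Submodule.smul_mem_smul (N := (⊤ : Submodule A (F.presheaf.stalk x)))
    (ha ▸ Ideal.subset_span ⟨i, rfl⟩ : a i ∈ IsLocalRing.maximalIdeal A) (n := (show F.presheaf.stalk x from t i)) trivial

theorem stalk_surjective_of_epi [Flat (X ↘ Spec (CommRingCat.of A))] [IsProper (X ↘ Spec (CommRingCat.of A))] {F G : X.Modules} (hF : FlatMod.IsFinLocFree F) (hG : FlatMod.IsFinLocFree G)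
    (u : F ⟶ G) [Epi ((Scheme.Modules.pullback ι₀).map u)] (x : X) (hx : (π₀).base x = y₀) :
    Function.Surjective (st u x) := by
  haveI := isClosedImmersion_fiber (X := X) A
  haveI : IsLocallyNoetherian X := LocallyOfFiniteType.isLocallyNoetherian π₀
  obtain ⟨n, a, ha⟩ := Submodule.fg_iff_exists_fin_generating_family.1
    (IsNoetherian.noetherian (IsLocalRing.maximalIdeal A))
  have qF := isQuot_unit a ha F (LocFree.isQCoh_of_isFinLocFree hF)
  have qG := isQuot_unit a ha G (LocFree.isQCoh_of_isFinLocFree hG)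
  have hloc : IsLocalHom (toStalk A x) := isLocalHom_toStalk x hx
  haveI := RegDual.finite_stalk (⟨LocFree.isQCoh_of_isFinLocFree hG, LocFree.isFT_of_isFinLocFree hG⟩ : Coh.IsCoh G) x
  haveI : Epi ((Scheme.Modules.pushforward ι₀).map ((Scheme.Modules.pullback ι₀).map u)) :=
    haveI := GrothSS.preservesFiniteColimits_push ι₀
    inferInstance
  haveI := qF.2.1
  have hsurj : Function.Surjective (st (u ≫ (Scheme.Modules.pullbackPushforwardAdjunction ι₀).unit.app G) x) := by
    rw [unit_natural u]
    exact (ModuleCat.epi_iff_surjective _).1 (Functor.map_epi (DerSch.stalkFunctor X x) _)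
  rw [← LinearMap.range_eq_top]
  refine top_le_iff.1 ?_
  refine Submodule.le_of_le_smul_of_le_jacobson_bot (I := IsLocalRing.maximalIdeal _) Module.Finite.fg_top
    (IsLocalRing.maximalIdeal_le_jacobson _) ?_
  intro w _
  obtain ⟨z, hz⟩ := hsurj (st ((Scheme.Modules.pullbackPushforwardAdjunction ι₀).unit.app G) x w)
  have h0 : st ((Scheme.Modules.pullbackPushforwardAdjunction ι₀).unit.app G) x (w - st u x z) = 0 := by
    rw [map_sub, sub_eq_zero, ← hz]
    exact st_comp _ _ x z
  obtain ⟨t, ht⟩ := qG.stalk_ker x _ h0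
  rw [show w = st u x z + (w - st u x z) by abel, ht]
  refine Submodule.add_mem_sup ⟨z, rfl⟩ (Submodule.sum_mem _ fun i _ => Submodule.smul_mem_smul ?_ Submodule.mem_top)
  exact (show (IsLocalRing.maximalIdeal A).map (toStalk A x) ≤ IsLocalRing.maximalIdeal _ from
    ((IsLocalRing.local_hom_TFAE (toStalk A x)).out 0 2).mp hloc)
    (Ideal.mem_map_of_mem _ (ha ▸ Ideal.subset_span ⟨i, rfl⟩ : a i ∈ IsLocalRing.maximalIdeal A))

theorem mono_of_fibre [Flat (X ↘ Spec (CommRingCat.of A))] [IsProper (X ↘ Spec (CommRingCat.of A))] {F G : X.Modules} (hF : FlatMod.IsFinLocFree F) (hG : FlatMod.IsFinLocFree G)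
    (u : F ⟶ G) (h : Mono ((Scheme.Modules.pullback ι₀).map u)) : Mono u := by
  haveI := h
  haveI : IsLocallyNoetherian X := LocallyOfFiniteType.isLocallyNoetherian π₀
  refine mono_of_stalk fun x => ?_
  obtain ⟨x', hxx', hx'⟩ := exists_fibre_point (A := A) x
  exact injective_stalk_of_specializes hF hG u hxx' (stalk_injective_of_mono hF hG u x' hx')

theorem epi_of_fibre [Flat (X ↘ Spec (CommRingCat.of A))] [IsProper (X ↘ Spec (CommRingCat.of A))] {F G : X.Modules} (hF : FlatMod.IsFinLocFree F) (hG : FlatMod.IsFinLocFree G)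
    (u : F ⟶ G) (h : Epi ((Scheme.Modules.pullback ι₀).map u)) : Epi u := by
  haveI := h
  haveI : IsLocallyNoetherian X := LocallyOfFiniteType.isLocallyNoetherian π₀
  refine epi_of_stalk fun x => ?_
  obtain ⟨x', hxx', hx'⟩ := exists_fibre_point (A := A) x
  exact surjective_stalk_of_specializes hF hG u hxx' (stalk_surjective_of_epi hF hG u x' hx')

end Local

end Groth.Agent.W7Hull
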