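import Groth.Agent.SiteCoh.DirectTop
import Groth.Agent.SiteCoh.Terminal
import Groth.Agent.CohFinite.Sequence
import Groth.Agent.CohQC.Relative
import Groth.Prelude.Def_CohPull

/-!
The edge map from the cohomology of a direct image.
-/

set_option autoImplicit false
set_option backward.isDefEq.respectTransparency false
set_option linter.style.haveILetI false

universe u

open CategoryTheory CategoryTheory.Limits AlgebraicGeometry TopologicalSpace Opposite Abelian
open Groth.Agent.SiteCoh

noncomputable section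

namespace Groth.Agent.W7Hull

section Top

variable {X Y : TopCat.{u}} (f : X ⟶ Y)

/-- the edge map for abelian sheaves -/
def edgeAb (G : CohTop.Ab X) (p : ℕ) : Sheaf.H ((CohTop.push f).obj G) p →+ Sheaf.H G p :=
  (Sheaf.H.map ((CohPull.invPushAdj f).counit.app G) p).comp
    (CohPull.pullAb f ((CohTop.push f).obj G) p)

lemma pullAb_map {M N : CohTop.Ab Y} (φ : M ⟶ N) (p : ℕ) (x : Sheaf.H M p) :
    CohPull.pullAb f N p (Sheaf.H.map φ p x) =
      Sheaf.H.map ((CohPull.inv f).map φ) p (CohPull.pullAb f M p x) := by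
  change (Ext.mk₀ (CohPull.oneTo f)).comp
      ((Ext.comp x (Ext.mk₀ φ) (add_zero p)).mapExactFunctor (CohPull.inv f)) (zero_add p) =
    ((Ext.mk₀ (CohPull.oneTo f)).comp (Ext.mapExactFunctor (CohPull.inv f) x) (zero_add p)).comp
      (Ext.mk₀ ((CohPull.inv f).map φ)) (add_zero p)
  rw [Ext.mapExactFunctor_comp, Ext.mapExactFunctor_mk₀,
    Ext.comp_assoc _ _ _ (zero_add p) (add_zero p) (by omega)]

lemma edgeAb_natural {G H : CohTop.Ab X} (φ : G ⟶ H) (p : ℕ) (x : Sheaf.H ((CohTop.push f).obj G) p) :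
    edgeAb f H p (Sheaf.H.map ((CohTop.push f).map φ) p x) = Sheaf.H.map φ p (edgeAb f G p x) := by
  change Sheaf.H.map ((CohPull.invPushAdj f).counit.app H) p
      (CohPull.pullAb f _ p (Sheaf.H.map ((CohTop.push f).map φ) p x)) =
    Sheaf.H.map φ p (Sheaf.H.map ((CohPull.invPushAdj f).counit.app G) p (CohPull.pullAb f _ p x))
  rw [pullAb_map]
  refine (Sheaf.H.map_comp_apply _ _ _).symm.trans (Eq.trans ?_ (Sheaf.H.map_comp_apply _ _ _))
  exact congrArg (fun ψ => Sheaf.H.map ψ p _) ((CohPull.invPushAdj f).counit.naturality φ)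

lemma edgeAb_δ {S : ShortComplex (CohTop.Ab X)} (hS : S.ShortExact)
    (hT : (S.map (CohTop.push f)).ShortExact) (p : ℕ) (x : Sheaf.H ((CohTop.push f).obj S.X₃) p) :
    edgeAb f S.X₁ (p + 1) (CohFinite.δH hT p x) = CohFinite.δH hS p (edgeAb f S.X₃ p x) := by
  let hU := hT.map_of_exact (CohPull.inv f)
  let ψ : (S.map (CohTop.push f)).map (CohPull.inv f) ⟶ S :=
    { τ₁ := (CohPull.invPushAdj f).counit.app S.X₁
      τ₂ := (CohPull.invPushAdj f).counit.app S.X₂
      τ₃ := (CohPull.invPushAdj f).counit.app S.X₃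
      comm₁₂ := ((CohPull.invPushAdj f).counit.naturality S.f).symm
      comm₂₃ := ((CohPull.invPushAdj f).counit.naturality S.g).symm }
  have h1 : CohPull.pullAb f _ (p + 1) (CohFinite.δH hT p x) =
      CohFinite.δH hU p (CohPull.pullAb f _ p x) := by
    change (Ext.mk₀ (CohPull.oneTo f)).comp
        ((Ext.comp x hT.extClass rfl).mapExactFunctor (CohPull.inv f)) (zero_add (p + 1)) =
      ((Ext.mk₀ (CohPull.oneTo f)).comp (Ext.mapExactFunctor (CohPull.inv f) x) (zero_add p)).comp
        hU.extClass rfl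
    rw [Ext.mapExactFunctor_comp, Ext.mapExactFunctor_extClass,
      Ext.comp_assoc _ _ _ (zero_add p) rfl (by omega)]
  refine (congrArg (Sheaf.H.map ((CohPull.invPushAdj f).counit.app S.X₁) (p + 1)) h1).trans ?_
  exact (CohFinite.δH_natural hU hS ψ p _).symm

lemma edgeAb_bijective_zero (G : CohTop.Ab X) : Function.Bijective (edgeAb f G 0) := by
  let hTX : IsTerminal (⊤ : Opens X) := isTerminalTop
  let hTY : IsTerminal (⊤ : Opens Y) := isTerminalTop
  have key : ∀ s, Sheaf.H.equiv₀ G hTX (edgeAb f G 0 s) =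
      Sheaf.H.equiv₀ ((CohTop.push f).obj G) hTY s := fun s => by
    change Sheaf.H.equiv₀ G hTX (Sheaf.H.map ((CohPull.invPushAdj f).counit.app G) 0
      (CohPull.pullAb f _ 0 s)) = _
    refine (Sheaf.H.equiv₀_naturality (hT := hTX) (f := (CohPull.invPushAdj f).counit.app G)
      (x := CohPull.pullAb f _ 0 s)).symm.trans ?_
    refine (congrArg (((CohPull.invPushAdj f).counit.app G).hom.app (op ⊤))
      (CohPull.equiv₀_pullAb f _ s)).trans ?_
    exact ConcreteCategory.congr_hom (NatTrans.congr_app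
      (congrArg (fun ψ => ψ.hom) ((CohPull.invPushAdj f).right_triangle_components G)) (op ⊤)) _
  refine ⟨fun a b h => (Sheaf.H.equiv₀ _ hTY).injective (by rw [← key, h, key]), fun t => ?_⟩
  exact ⟨(Sheaf.H.equiv₀ ((CohTop.push f).obj G) hTY).symm (Sheaf.H.equiv₀ G hTX t),
    (Sheaf.H.equiv₀ G hTX).injective ((key _).trans (AddEquiv.apply_symm_apply _ _))⟩

/-- The edge map is bijective for sheaves acyclic for the direct image. -/
theorem edgeAb_bijective : ∀ (p : ℕ) (G : CohTop.Ab X),
    DirectAcyclic (Opens.grothendieckTopology Y) (Opens.map f) G → Function.Bijective (edgeAb f G p)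
  | 0, G, _ => edgeAb_bijective_zero f G
  | p + 1, G, hG => by
    have hS := embedSeq_shortExact G
    have hT : ((embedSeq G).map (CohTop.push f)).ShortExact := directAcyclic_shortExact (Opens.map f) hG
    have hQ := edgeAb_bijective p _ (directAcyclic_quotient (Opens.map f) hG)
    haveI : Subsingleton (Sheaf.H ((embedSeq G).map (CohTop.push f)).X₂ (p + 1)) :=
      (huTerminalEquiv (Opens.grothendieckTopology Y) isTerminalTop _ (p + 1)).toEquiv.subsingleton_congr.mpr
        (push_injective_acyclic f (embedSeq G).X₂ ⊤ p)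
    have hI : Function.Surjective (edgeAb f (embedSeq G).X₂ p) := by
      cases p with
      | zero => exact (edgeAb_bijective_zero f _).2
      | succ q =>
        haveI : Injective (embedSeq G).X₂ := inferInstance
        exact fun z => ⟨0, Subsingleton.elim _ _⟩
    refine ⟨(injective_iff_map_eq_zero _).2 fun x hx => ?_, fun x => ?_⟩
    · obtain ⟨y, rfl⟩ := (CohFinite.map_f_eq_zero_iff hT p x).1 (Subsingleton.elim _ _)
      have h1 : CohFinite.δH hS p (edgeAb f _ p y) = 0 := (edgeAb_δ f hS hT p y).symm.trans hx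
      obtain ⟨z, hz⟩ := (CohFinite.δH_eq_zero_iff hS p _).1 h1
      obtain ⟨w, rfl⟩ := hI z
      refine (CohFinite.δH_eq_zero_iff hT p y).2 ⟨w, hQ.1 ?_⟩
      exact (edgeAb_natural f (embedSeq G).g p w).trans hz
    · haveI : Injective (embedSeq G).X₂ := inferInstance
      obtain ⟨y, rfl⟩ := (CohFinite.map_f_eq_zero_iff hS p x).1 (Subsingleton.elim _ _)
      obtain ⟨w, rfl⟩ := hQ.2 y
      exact ⟨CohFinite.δH hT p w, edgeAb_δ f hS hT p w⟩

end Top

variable {X Y : Scheme.{u}}

/-- The edge map for modules is the one for the underlying abelian sheaves. -/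
lemma pushEdge_eq (f : X ⟶ Y) (G : X.Modules) (p : ℕ) (x : Coh.HH Y ((Scheme.Modules.pushforward f).obj G) p) :
    CohPull.pushEdge f G p x = edgeAb f.base (Coh.toAb G) p x := by
  let T := SheafOfModules.toSheaf X.ringCatSheaf
  let T' := SheafOfModules.toSheaf Y.ringCatSheaf
  let adj := Scheme.Modules.pullbackPushforwardAdjunction f
  let adjA := CohPull.invPushAdj f.base
  have e : CohPull.theta f ((Scheme.Modules.pushforward f).obj G) ≫ T.map (adj.counit.app G) =
      adjA.counit.app (Coh.toAb G) := by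
    apply (adjA.homEquiv _ _).injective
    refine ((adjA.homEquiv_naturality_right _ _).trans ?_).trans
      ((adjA.homEquiv_unit _ (Coh.toAb G) (adjA.counit.app (Coh.toAb G))).trans
        (adjA.right_triangle_components (Coh.toAb G))).symm
    rw [CohPull.theta, Equiv.apply_symm_apply]
    refine ((T'.map_comp (adj.unit.app ((Scheme.Modules.pushforward f).obj G))
      ((Scheme.Modules.pushforward f).map (adj.counit.app G))).symm.trans ?_)
    rw [adj.right_triangle_components G]
    exact T'.map_id _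
  change Sheaf.H.map (T.map (adj.counit.app G)) p (Sheaf.H.map (CohPull.theta f _) p
    (CohPull.pullAb f.base _ p x)) = Sheaf.H.map (adjA.counit.app (Coh.toAb G)) p
      (CohPull.pullAb f.base _ p x)
  exact (Sheaf.H.map_comp_apply _ _ _).symm.trans (congrArg (fun ψ => Sheaf.H.map ψ p _) e)

theorem pushEdge_bijective (f : X ⟶ Y) (G : X.Modules)
    (hG : DirectAcyclic (Opens.grothendieckTopology Y) (Opens.map f.base) (Coh.toAb G)) (p : ℕ) :
    Function.Bijective (CohPull.pushEdge f G p) := by
  have e : ⇑(CohPull.pushEdge f G p) = ⇑(edgeAb f.base (Coh.toAb G) p) := funext fun x => pushEdge_eq f G p x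
  rw [e]
  exact edgeAb_bijective f.base p _ hG

end Groth.Agent.W7Hull
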