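import Mathlib.RingTheory.Flat.EquationalCriterion
import Groth.Agent.TMul.Ample
import Groth.Agent.TMul.Assoc
import Groth.Agent.TMul.Power
import Groth.Agent.TMul.GlobGen
import Groth.Prelude.Def_PicGrp

/-!
Sections over the nonvanishing locus of a section are flat when those of all large twists are.
-/

set_option autoImplicit false
set_option backward.isDefEq.respectTransparency false
set_option backward.isDefEq.respectTransparency.types false
set_option linter.style.haveILetI false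
set_option maxHeartbeats 1000000

universe u

open CategoryTheory CategoryTheory.Limits AlgebraicGeometry TopologicalSpace Opposite
open Groth.Agent.QC (res res_res res_smul app_res)
open TMul (IsGen tm tw val)

noncomputable section

namespace Groth.Agent.W7Hull

variable {X : Scheme.{u}} {F L : X.Modules} (s : Coh.structureModule X ⟶ L)

/-- `⊗ s` -/
def upBil (n : ℕ) (U : X.Opens) :
    Γ(F, U) →ₗ[Γ(X, U)] Γ(CohB1.tensorPow L n, U) →ₗ[Γ(X, U)] Γ(CohB1.tensorMod F (CohB1.tensorPow L (n + 1)), U) :=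
  LinearMap.mk₂ _ (fun m q => tm m (tm q (val s U) : Γ(CohB1.tensorPow L (n + 1), U)))
    (fun a b q => TMul.tm_add a b _) (fun r a q => TMul.smul_tm r a _)
    (fun a q q' => (congrArg (tm a) (TMul.tm_add q q' _)).trans (TMul.add_tm a _ _))
    (fun r a q => (congrArg (tm a) (TMul.smul_tm r q _)).trans (TMul.tm_smul r a _))

lemma upBil_res (n : ℕ) {V U : X.Opens} (h : V ≤ U) (m : Γ(F, U)) (q : Γ(CohB1.tensorPow L n, U)) :
    res (CohB1.tensorMod F (CohB1.tensorPow L (n + 1))) h (upBil s n U m q) =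
      upBil s n V (res F h m) (res _ h q) := by
  change res _ h (tm m (tm q (val s U))) = tm (res F h m) (tm (res _ h q) (val s V))
  rw [TMul.res_tm, ← TMul.res_val s h, ← TMul.res_tm h q (val s U)]

/-- `t ⊗ sⁿ ↦ t ⊗ sⁿ⁺¹` -/
def up (n : ℕ) : CohB1.tensorMod F (CohB1.tensorPow L n) ⟶ CohB1.tensorMod F (CohB1.tensorPow L (n + 1)) :=
  TMul.lift (upBil s n) (upBil_res s n)

lemma up_tw (n : ℕ) (U : X.Opens) (t : Γ(F, U)) : (up s n).app U (tw s n F U t) = tw s (n + 1) F U t :=
  TMul.lift_tm (upBil s n) (upBil_res s n) t (SecTwist.pow s n U)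

lemma exists_twist_extends_ge [CompactSpace X] [QuasiSeparatedSpace X] [hF : F.IsQuasicoherent]
    (hL : PicF.IsInvertible L) (t : Γ(F, CohB1.genLocus L s)) :
    ∃ n : ℕ, 0 < n ∧ ∀ m, n ≤ m → ∃ t' : Γ(CohB1.tensorMod F (CohB1.tensorPow L m), ⊤),
      res _ (le_top : CohB1.genLocus L s ≤ ⊤) t' = tw s m F (CohB1.genLocus L s) t := by
  obtain ⟨n, hn, t', ht'⟩ := TMul.exists_twist_extends hL s t
  refine ⟨n, hn, fun m hm => ?_⟩
  induction m, hm using Nat.le_induction with
  | base => exact ⟨t', ht'⟩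
  | succ m _ ih =>
    obtain ⟨a, ha⟩ := ih
    refine ⟨(up s m).app ⊤ a, ?_⟩
    rw [app_res, ha, up_tw]

lemma isGen_pow (N : ℕ) :
    IsGen (SecTwist.pow s N (CohB1.genLocus L s) : Γ(CohB1.tensorPow L N, CohB1.genLocus L s)) := by
  rw [TMul.pow_eq_pw]
  exact TMul.isGen_pw (TMul.isGen_genLocus s) N

lemma tw_bijective (G : X.Modules) (N : ℕ) :
    Function.Bijective (tw s N G (CohB1.genLocus L s)) := by
  have h := TMul.tm_bijective (M := G) (isGen_pow s N) (CohB1.genLocus L s) le_rfl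
  simp only [QC.res_self] at h
  exact h

/-- Flatness of the sections over `X_s`. -/
theorem flat_sections_genLocus {A : Type u} [CommRing A] [CompactSpace X] [QuasiSeparatedSpace X]
    [hF : F.IsQuasicoherent] (hL : PicF.IsInvertible L) (φ : A →+* Γ(X, ⊤)) (n₀ : ℕ)
    (h : ∀ n, n₀ ≤ n → letI := Module.compHom Γ(CohB1.tensorMod F (CohB1.tensorPow L n), ⊤) φ
      Module.Flat A Γ(CohB1.tensorMod F (CohB1.tensorPow L n), ⊤)) :
    letI := Module.compHom Γ(F, CohB1.genLocus L s)
      ((X.presheaf.map (homOfLE (le_top : CohB1.genLocus L s ≤ ⊤)).op).hom.comp φ)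
    Module.Flat A Γ(F, CohB1.genLocus L s) := by
  let G := CohB1.genLocus L s
  let ρ := (X.presheaf.map (homOfLE (le_top : G ≤ ⊤)).op).hom.comp φ
  letI := Module.compHom Γ(F, G) ρ
  refine Module.Flat.iff_forall_isTrivialRelation.2 fun {l} {c} {x} hx => ?_
  choose n _ hn using fun i => exists_twist_extends_ge s hL (x i)
  let N := max n₀ (Finset.univ.sup n)
  choose t ht using fun i => hn i N ((Finset.le_sup (Finset.mem_univ i)).trans (le_max_right _ _))
  let FN := CohB1.tensorMod F (CohB1.tensorPow L N)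
  haveI : Coh.IsQCoh FN := TMul.isQCoh_tensor (TMul.isInvertible_tensorPow hL N)
  let z : Γ(FN, ⊤) := ∑ i, φ (c i) • t i
  have hz : res FN (le_top : G ≤ ⊤) z = 0 := by
    rw [map_sum]
    have : ∀ i, res FN (le_top : G ≤ ⊤) (φ (c i) • t i) = tw s N F G (c i • x i) := fun i => by
      rw [res_smul, ht i]
      exact (TMul.smul_tm _ _ _).symm
    simp only [this]
    have hadd : ∀ a b : Γ(F, G), tw s N F G (a + b) = tw s N F G a + tw s N F G b := fun a b => TMul.tm_add a b _
    let T : Γ(F, G) →+ Γ(FN, G) := AddMonoidHom.mk' (tw s N F G) hadd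
    exact (map_sum T _ _).symm.trans ((congrArg T hx).trans T.map_zero)
  obtain ⟨m, -, hm⟩ := TMul.exists_twist_eq_zero hL s z hz
  let H := CohB1.tensorMod FN (CohB1.tensorPow L m)
  letI := Module.compHom Γ(H, ⊤) φ
  haveI : Module.Flat A Γ(H, ⊤) := by
    obtain ⟨e⟩ := TMul.nonempty_powAddIso (L := L) N m
    let i : H ≅ CohB1.tensorMod F (CohB1.tensorPow L (N + m)) :=
      TMul.assocIso F _ _ ≪≫ PicGrp.tensorModIso (Iso.refl F) e
    letI := Module.compHom Γ(CohB1.tensorMod F (CohB1.tensorPow L (N + m)), ⊤) φ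
    haveI := h (N + m) ((le_max_left _ _).trans (Nat.le_add_right _ _))
    let l : Γ(H, ⊤) →ₗ[A] Γ(CohB1.tensorMod F (CohB1.tensorPow L (N + m)), ⊤) :=
      { toFun := fun a => i.hom.app ⊤ a
        map_add' := fun a b => map_add _ a b
        map_smul' := fun r a => Scheme.Modules.Hom.app_smul i.hom (φ r) a }
    exact Module.Flat.of_linearEquiv
      (LinearEquiv.ofBijective l (ConcreteCategory.bijective_of_isIso (i.hom.app ⊤)))
  have hrel : ∑ i, c i • (tw s m FN ⊤ (t i) : Γ(H, ⊤)) = 0 := by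
    refine Eq.trans ?_ hm
    let T : Γ(FN, ⊤) →+ Γ(H, ⊤) := AddMonoidHom.mk' (tw s m FN ⊤) fun a b => TMul.tm_add a b _
    refine Eq.trans ?_ (map_sum T _ _).symm
    exact Finset.sum_congr rfl fun i _ => (TMul.smul_tm (φ (c i)) (t i) _).symm
  obtain ⟨k, a, y, hy, ha⟩ := Module.Flat.iff_forall_isTrivialRelation.1 ‹_› hrel
  have hΨ := (tw_bijective s FN m).comp (tw_bijective s F N)
  let Ψ : Γ(F, G) →+ Γ(H, G) := AddMonoidHom.mk' (fun v => tw s m FN G (tw s N F G v)) fun v w =>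
    (congrArg (tw s m FN G) (TMul.tm_add v w _)).trans (TMul.tm_add _ _ _)
  have hΨs : ∀ (r : A) (v : Γ(F, G)), Ψ (r • v) = ρ r • Ψ v := fun r v =>
    (congrArg (tw s m FN G) (TMul.smul_tm (ρ r) v _)).trans (TMul.smul_tm (ρ r) _ _)
  choose w hw using fun j => hΨ.2 (res H (le_top : G ≤ ⊤) (y j))
  refine ⟨k, a, w, fun i => hΨ.1 ?_, ha⟩
  change Ψ (x i) = Ψ _
  rw [map_sum]
  simp only [hΨs]
  have e : Ψ (x i) = res H (le_top : G ≤ ⊤) (tw s m FN ⊤ (t i)) :=
    (congrArg (tw s m FN G) (ht i).symm).trans (TMul.res_twist s m _ _).symm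
  refine (e.trans (congrArg (res H (le_top : G ≤ ⊤)) (hy i))).trans ?_
  rw [map_sum]
  refine Finset.sum_congr rfl fun j _ => ?_
  rw [show Ψ (w j) = res H (le_top : G ≤ ⊤) (y j) from hw j]
  exact res_smul _ (le_top : G ≤ ⊤) (φ (a i j)) (y j)

end Groth.Agent.W7Hull
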