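import Groth.Agent.W7Hull.FlatTwist
import Groth.Agent.W7Hull.FlatFromTwist
import Groth.Agent.FlatModB.Basic

/-!
A sheaf whose large twists have flat direct image is flat.
-/

set_option autoImplicit false
set_option backward.isDefEq.respectTransparency false
set_option backward.isDefEq.respectTransparency.types false
set_option linter.style.haveILetI false
set_option maxHeartbeats 1000000

universe u

open CategoryTheory CategoryTheory.Limits AlgebraicGeometry TopologicalSpace Opposite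

noncomputable section

namespace Groth.Agent.W7Hull

variable {X Y : Scheme.{u}} (f : X ⟶ Y)

lemma flat_sections_preimage (M : X.Modules) (h : FlatMod.IsFinLocFree ((Coh.push f).obj M)) {V : Y.Opens}
    (hV : IsAffineOpen V) (W : X.Opens) (hW : W = f ⁻¹ᵁ V) (e : W ≤ f ⁻¹ᵁ V) :
    letI := Module.compHom Γ(M, W) (f.appLE V W e).hom
    Module.Flat Γ(Y, V) Γ(M, W) := by
  subst hW
  letI := Module.compHom Γ(M, f ⁻¹ᵁ V) (f.appLE V (f ⁻¹ᵁ V) e).hom
  haveI := LocFree.projective_sections h hV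
  haveI : Module.Flat Γ(Y, V) Γ((Coh.push f).obj M, V) := inferInstance
  let l : Γ((Coh.push f).obj M, V) →ₗ[Γ(Y, V)] Γ(M, f ⁻¹ᵁ V) :=
    { toFun := fun a => (show Γ(M, f ⁻¹ᵁ V) from a)
      map_add' := fun _ _ => rfl
      map_smul' := fun r a => by
        change (f.app V).hom r • (show Γ(M, f ⁻¹ᵁ V) from a) = (f.appLE V (f ⁻¹ᵁ V) e).hom r • (show Γ(M, f ⁻¹ᵁ V) from a)
        rw [Scheme.Hom.app_eq_appLE] }
  exact Module.Flat.of_linearEquiv (LinearEquiv.ofBijective l Function.bijective_id).symm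

/-- the converse criterion -/
theorem isFlatOver_of_push_twists [QuasiCompact f] [QuasiSeparated f] (F L : X.Modules) (hF : Coh.IsQCoh F)
    (hamp : ∀ y : Y, ∃ V : Y.Opens, IsAffineOpen V ∧ y ∈ V ∧ CohB1.IsAmple (L.restrict (f ⁻¹ᵁ V).ι))
    (n₀ : ℕ) (h : ∀ n, n₀ ≤ n → FlatMod.IsFinLocFree ((Coh.push f).obj (CohB1.tensorMod F (CohB1.tensorPow L n)))) :
    FlatMod.IsFlatOver f F := by
  intro x
  obtain ⟨V, hV, hxV, hA⟩ := hamp (f x)
  let U := f ⁻¹ᵁ V
  let L' := L.restrict U.ι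
  let F' := F.restrict U.ι
  haveI : CompactSpace U.toScheme := isCompact_iff_compactSpace.1 (f.isCompact_preimage hV.isCompact)
  haveI : QuasiSeparatedSpace U.toScheme := by
    haveI : IsAffine (V : Scheme.{u}) := hV
    exact quasiSeparatedSpace_of_quasiSeparated (f ∣_ V)
  haveI : F'.IsQuasicoherent := QC.isQCoh_restrict U.ι hF
  obtain ⟨k, σ, hxG, hG⟩ := hA.2.2 ⟨x, hxV⟩
  let G := CohB1.genLocus _ σ
  have hle : U.ι ''ᵁ ⊤ ≤ f ⁻¹ᵁ V := le_of_eq (Scheme.Opens.ι_image_top U)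
  let φ : Γ(Y, V) →+* Γ(U.toScheme, ⊤) := (f.appLE V (U.ι ''ᵁ ⊤) hle).hom
  have hflat := flat_sections_genLocus (F := F') σ (TMul.isInvertible_tensorPow hA.1 (k + 1)) φ n₀ fun n hn => by
    obtain ⟨e₁⟩ := TMul.nonempty_powMulIso (L := L') (k + 1) n
    obtain ⟨a⟩ := TMul.nonempty_restrictPowIso U.ι L ((k + 1) * n)
    obtain ⟨c⟩ := TMul.nonempty_restrictTensorIso U.ι F (CohB1.tensorPow L ((k + 1) * n))
    let i := PicGrp.tensorModIso (Iso.refl F') (e₁ ≪≫ a) ≪≫ c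
    let P := CohB1.tensorMod F' (CohB1.tensorPow (CohB1.tensorPow L' (k + 1)) n)
    let M := CohB1.tensorMod F (CohB1.tensorPow L ((k + 1) * n))
    letI := Module.compHom Γ(P, ⊤) φ
    letI := Module.compHom Γ(M, U.ι ''ᵁ ⊤) (f.appLE V (U.ι ''ᵁ ⊤) hle).hom
    haveI := flat_sections_preimage f M (h _ (hn.trans (Nat.le_mul_of_pos_left n (Nat.succ_pos k)))) hV
      (U.ι ''ᵁ ⊤) (Scheme.Opens.ι_image_top U) hle
    let l : Γ(P, ⊤) →ₗ[Γ(Y, V)] Γ(M, U.ι ''ᵁ ⊤) :=
      { toFun := fun z => (show Γ(M, U.ι ''ᵁ ⊤) from i.hom.app ⊤ z)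
        map_add' := fun z w => map_add _ z w
        map_smul' := fun r z => by
          refine (Scheme.Modules.Hom.app_smul i.hom (φ r) z).trans ?_
          change ((U.ι.appIso ⊤).inv.hom (φ r)) • (show Γ(M, U.ι ''ᵁ ⊤) from i.hom.app ⊤ z) =
            (show Γ(X, U.ι ''ᵁ ⊤) from φ r) • (show Γ(M, U.ι ''ᵁ ⊤) from i.hom.app ⊤ z)
          rw [Scheme.Opens.ι_appIso]
          rfl }
    exact Module.Flat.of_linearEquiv
      (LinearEquiv.ofBijective l (ConcreteCategory.bijective_of_isIso (i.hom.app ⊤)))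
  have hG' : IsAffineOpen (U.ι ''ᵁ G) := hG.image_of_isOpenImmersion U.ι
  have hle' : U.ι ''ᵁ G ≤ f ⁻¹ᵁ V := (U.ι_image_le G)
  refine (FlatModB.flat_sections_iff f F hF hG' hV hle').1 ?_ x ⟨⟨x, hxV⟩, hxG, rfl⟩
  letI := FlatModB.secModule f F (U.ι ''ᵁ G) V hle'
  letI := Module.compHom Γ(F', G) ((U.toScheme.presheaf.map (homOfLE (le_top : G ≤ ⊤)).op).hom.comp φ)
  haveI := hflat
  let l : Γ(F', G) →ₗ[Γ(Y, V)] Γ(F, U.ι ''ᵁ G) :=
    { toFun := fun z => (show Γ(F, U.ι ''ᵁ G) from z)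
      map_add' := fun _ _ => rfl
      map_smul' := fun r z => by
        change ((U.ι.appIso G).inv.hom ((U.toScheme.presheaf.map (homOfLE (le_top : G ≤ ⊤)).op).hom (φ r))) •
            (show Γ(F, U.ι ''ᵁ G) from z) =
          (f.appLE V (U.ι ''ᵁ G) hle').hom r • (show Γ(F, U.ι ''ᵁ G) from z)
        rw [Scheme.Opens.ι_appIso, Scheme.Opens.toScheme_presheaf_map]
        congr 1
        exact congr($(Scheme.Hom.appLE_map f hle _).hom r) }
  exact Module.Flat.of_linearEquiv (LinearEquiv.ofBijective l Function.bijective_id).symm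

/-- Flatness and the direct images of the large twists. -/
theorem isFlatOver_iff_push_twists (r : ℕ) {Y : Scheme.{u}} [IsNoetherian Y] (i : X ⟶ CohB1.ProjSpaceOver r Y)
    [IsClosedImmersion i] (F : X.Modules) (hF : Coh.IsCoh F) :
    FlatMod.IsFlatOver (i ≫ CohB1.ProjSpaceOver.toBase r Y) F ↔
      ∃ n₀ : ℤ, ∀ n : ℤ, n₀ ≤ n → FlatMod.IsFinLocFree ((Coh.push (i ≫ CohB1.ProjSpaceOver.toBase r Y)).obj
        (CohB1.tensorMod F ((Scheme.Modules.pullback i).obj (Twist.twistOver r Y n)))) := by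
  refine ⟨exists_locFree_push_twist r i F hF, fun ⟨n₀, h⟩ => ?_⟩
  haveI : IsProper (CohB1.ProjSpaceOver.toBase r Y) := HQProj.isProper_toBase r Y
  refine isFlatOver_of_push_twists _ F ((Scheme.Modules.pullback i).obj (Twist.twistOver r Y 1)) hF.1
    (fun y => ?_) n₀.toNat fun n hn => ?_
  · obtain ⟨V, hV, hy, -⟩ := exists_isAffineOpen_mem_and_subset (X := Y) (x := y) (U := ⊤) trivial
    exact ⟨V, hV, hy, isAmple_restrict_twist r i hV⟩
  obtain ⟨e⟩ := nonempty_twistOver_pow r Y n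
  obtain ⟨e'⟩ := TMul.nonempty_pullPowIso i (Twist.twistOver r Y 1) n
  exact isFinLocFree_of_iso ((Coh.push _).mapIso (PicGrp.tensorModIso (Iso.refl F)
    ((Scheme.Modules.pullback i).mapIso e ≪≫ e'.symm))) (h n (by omega))

end Groth.Agent.W7Hull
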