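import Groth.Agent.W7Hull.Tilde
import Groth.Agent.QC.Closure

/-!
On a locally Noetherian scheme injective hulls of quasi-coherent modules are quasi-coherent.
-/

set_option autoImplicit false
set_option backward.isDefEq.respectTransparency false
set_option linter.style.haveILetI false

universe u

open CategoryTheory CategoryTheory.Limits AlgebraicGeometry TopologicalSpace Opposite

noncomputable section

namespace Groth.Agent.W7Hull

variable {X : Scheme.{u}}

lemma isQCoh_of_retract {M N : X.Modules} (h : Coh.IsQCoh N) (l : M ⟶ N) (r : N ⟶ M)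
    (e : l ≫ r = 𝟙 M) : Coh.IsQCoh M := by
  refine QC.isQCoh_of_iso ?_ (QC.isQCoh_kernel h h (𝟙 N - r ≫ l))
  exact
    { hom := kernel.ι _ ≫ r
      inv := kernel.lift _ l (by rw [Preadditive.comp_sub, Category.comp_id, ← Category.assoc, e,
        Category.id_comp, sub_self])
      hom_inv_id := by
        have h0 := kernel.condition (𝟙 N - r ≫ l)
        rw [Preadditive.comp_sub, Category.comp_id, sub_eq_zero] at h0
        rw [← cancel_mono (kernel.ι (𝟙 N - r ≫ l)), Category.assoc, kernel.lift_ι, Category.assoc, ← h0,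
          Category.id_comp]
      inv_hom_id := by rw [← Category.assoc, kernel.lift_ι, e] }

/-- An essential injective extension of a quasi-coherent module is quasi-coherent. -/
theorem isQCoh_of_essential [IsLocallyNoetherian X] {M A : X.Modules} (hM : Coh.IsQCoh M)
    [Injective A] (j : M ⟶ A) [Mono j] (hj : Essential j) : Coh.IsQCoh A := by
  classical
  refine QC.isQCoh_of_affine fun U => ?_
  let f := U.2.fromSpec
  haveI : IsNoetherianRing Γ(X, U.1) := IsLocallyNoetherian.component_noetherian U
  haveI : (M.restrict f).IsQuasicoherent := QC.isQCoh_restrict f hM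
  let N₀ : ModuleCat.{u} Γ(X, U.1) := (modulesSpecToSheaf.obj (M.restrict f)).presheaf.obj (op ⊤)
  let E := Injective.under N₀
  haveI : Injective (ModuleCat.of Γ(X, U.1) E) := inferInstanceAs (Injective E)
  haveI : Module.Injective Γ(X, U.1) E := Module.injective_module_of_injective_object Γ(X, U.1) E
  haveI hEi : Injective (tilde E) := injective_tilde E
  let g : M.restrict f ⟶ tilde E := (QC.isoTildeΓ (M.restrict f)).inv ≫ (tilde.functor _).map (Injective.ι N₀)
  haveI : Mono g := @mono_comp _ _ _ _ _ _ inferInstance _ (Functor.map_mono (tilde.functor _) (Injective.ι N₀))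
  let F := (Scheme.Modules.pushforward f).obj (tilde E)
  haveI : Injective F := Injective.injective_of_adjoint (Scheme.Modules.restrictAdjunction f) _
  let φ : M ⟶ F := (Scheme.Modules.restrictAdjunction f).unit.app M ≫ (Scheme.Modules.pushforward f).map g
  have hrange : f.opensRange = U.1 := U.2.opensRange_fromSpec
  -- sections near a point of `U`
  have hnear : ∀ {P : X.Modules} (x : X), x ∈ U.1 → ∀ z : P.presheaf.stalk x,
      ∃ (W : X.Opens) (hxW : x ∈ W) (s : Γ(P, W)), W ≤ U.1 ∧ P.presheaf.germ W x hxW s = z := by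
    intro P x hx z
    obtain ⟨W, hW, s, rfl⟩ := TopCat.Presheaf.exists_germ_eq P.presheaf z
    exact ⟨W ⊓ U.1, ⟨hW, hx⟩, P.presheaf.map (homOfLE inf_le_left).op s, inf_le_right,
      TopCat.Presheaf.germ_res_apply _ _ _ _ _⟩
  have hφinj : ∀ x ∈ U.1, Function.Injective (st φ x) := by
    intro x hx
    refine (injective_iff_map_eq_zero _).2 fun z hz => ?_
    obtain ⟨W, hxW, s, hWU, rfl⟩ := hnear x hx z
    rw [st_germ] at hz
    obtain ⟨V, hxV, i₁, i₂, e⟩ := TopCat.Presheaf.germ_eq F.presheaf x hxW hxW (φ.app W s) 0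
      (hz.trans (map_zero _).symm)
    have hVU : V ≤ f.opensRange := by rw [hrange]; exact i₁.le.trans hWU
    have himg : f ''ᵁ (f ⁻¹ᵁ V) = V := by
      rw [f.image_preimage_eq_opensRange_inf, inf_eq_right.2 hVU]
    have e0 : φ.app V (M.presheaf.map i₁.op s) = 0 :=
      (NatTrans.naturality_apply φ.mapPresheaf i₁.op s).trans (e.trans (map_zero _))
    have e1 : g.app (f ⁻¹ᵁ V) (M.presheaf.map (homOfLE (f.image_preimage_le V)).op
        (M.presheaf.map i₁.op s)) = 0 := e0
    have e2 : M.presheaf.map (homOfLE (f.image_preimage_le V)).op (M.presheaf.map i₁.op s) = 0 :=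
      QC.app_injective_of_mono g _ (e1.trans (map_zero _).symm)
    have h3 := congrArg (M.presheaf.germ (f ''ᵁ (f ⁻¹ᵁ V)) x (himg.symm ▸ hxV)) e2
    rw [map_zero, TopCat.Presheaf.germ_res_apply, TopCat.Presheaf.germ_res_apply] at h3
    exact h3
  let l : A ⟶ F := Injective.factorThru φ j
  have hl : j ≫ l = φ := Injective.comp_factorThru _ _
  have hlinj : ∀ x ∈ U.1, Function.Injective (st l x) := by
    intro x hx
    refine (injective_iff_map_eq_zero _).2 fun z hz => ?_
    let N : ∀ y : X, Submodule (X.presheaf.stalk y) (A.presheaf.stalk y) := fun y =>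
      if y ∈ U.1 then LinearMap.ker (st l y) else ⊥
    have hB : subObj N = ⊥ := hj _ fun y w hw ⟨m, hm⟩ => by
      have hwN := stImg_subObj_le N y hw
      by_cases hy : y ∈ U.1
      · simp only [N, if_pos hy, LinearMap.mem_ker] at hwN
        rw [← hm, ← st_comp, hl] at hwN
        rw [← hm, hφinj y hy (hwN.trans (map_zero _).symm), map_zero]
      · simpa [N, if_neg hy] using hwN
    obtain ⟨W, hxW, s, hWU, rfl⟩ := hnear x hx z
    rw [st_germ] at hz
    obtain ⟨V, hxV, i₁, i₂, e⟩ := TopCat.Presheaf.germ_eq F.presheaf x hxW hxW (l.app W s) 0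
      (hz.trans (map_zero _).symm)
    have e0 : l.app V (A.presheaf.map i₁.op s) = 0 :=
      (NatTrans.naturality_apply l.mapPresheaf i₁.op s).trans (e.trans (map_zero _))
    have hm := germ_mem_subObj N (A.presheaf.map i₁.op s) (fun y hy => by
      simp only [N, if_pos (hWU (i₁.le hy)), LinearMap.mem_ker]
      rw [st_germ, e0, map_zero]) x hxV
    rw [hB, stImg_bot, Submodule.mem_bot, TopCat.Presheaf.germ_res_apply] at hm
    exact hm
  let N : ∀ y : X, Submodule (X.presheaf.stalk y) (A.presheaf.stalk y) := fun y =>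
    if y ∈ U.1 then ⊤ else ⊥
  let i : (subObj N : X.Modules) ⟶ A := (subObj N).arrow
  haveI : Mono (i ≫ l) := mono_of_stalk fun y => (injective_iff_map_eq_zero _).2 fun z hz => by
    by_cases hy : y ∈ U.1
    · rw [st_comp] at hz
      exact st_injective i y ((hlinj y hy (hz.trans (map_zero _).symm)).trans (map_zero _).symm)
    · have h0 := stImg_subObj_le N y ⟨z, rfl⟩
      simp only [N, if_neg hy, Submodule.mem_bot] at h0
      exact st_injective i y (h0.trans (map_zero _).symm)
  let r : F ⟶ A := Injective.factorThru i (i ≫ l)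
  have hr : (i ≫ l) ≫ r = i := Injective.comp_factorThru _ _
  have hid : (Scheme.Modules.restrictFunctor f).map l ≫ (Scheme.Modules.restrictFunctor f).map r = 𝟙 _ := by
    rw [← Functor.map_comp]
    refine Scheme.Modules.hom_ext _ _ fun W => ?_
    ext (s : Γ(A, f ''ᵁ W))
    change (l ≫ r).app (f ''ᵁ W) s = s
    refine section_ext _ _ fun y hy => ?_
    have hyU : y ∈ U.1 := hrange ▸ f.image_le_opensRange W hy
    obtain ⟨V, hyV, t, hVU, ht⟩ := hnear y hyU (A.presheaf.germ (f ''ᵁ W) y hy s)
    obtain ⟨z, hz⟩ := germ_mem_subObj N t (fun y' hy' => by simp [N, if_pos (hVU hy')]) y hyV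
    rw [← st_germ, ← ht, ← hz, ← st_comp, show (subObj N).arrow ≫ l ≫ r = i from
      (Category.assoc _ _ _).symm.trans hr]
  exact isQCoh_of_retract (QC.isQCoh_of_iso
    (asIso ((Scheme.Modules.restrictAdjunction f).counit.app (tilde E))).symm (QC.isQCoh_tilde E))
    _ _ hid

/-- Quasi-coherent modules on a locally Noetherian scheme embed into quasi-coherent injective modules. -/
theorem exists_qcoh_injective [IsLocallyNoetherian X] (M : X.Modules) (hM : Coh.IsQCoh M) :
    ∃ (A : X.Modules) (j : M ⟶ A), Injective A ∧ Mono j ∧ Coh.IsQCoh A := by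
  obtain ⟨A, j, hA, hjm, hj⟩ := exists_hull M
  haveI := hA; haveI := hjm
  exact ⟨A, j, hA, hjm, isQCoh_of_essential hM j hj⟩

/-- Injective quasi-coherent modules are injective modules. -/
theorem injective_of_injective_qcoh [IsLocallyNoetherian X]
    (J : ObjectProperty.FullSubcategory (fun M : X.Modules => Coh.IsQCoh M)) [Injective J] :
    Injective J.obj := by
  obtain ⟨A, j, hA, hjm, hq⟩ := exists_qcoh_injective J.obj J.property
  haveI := hA; haveI := hjm
  let j' : J ⟶ ⟨A, hq⟩ := ObjectProperty.homMk j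
  haveI : Mono j' := (ObjectProperty.ι _).mono_of_mono_map (show Mono ((ObjectProperty.ι _).map j') from hjm)
  have h : j' ≫ Injective.factorThru (𝟙 J) j' = 𝟙 J := Injective.comp_factorThru _ _
  exact Retract.injective ⟨j, (Injective.factorThru (𝟙 J) j').hom,
    congrArg (fun t : J ⟶ J => t.hom) h⟩

end Groth.Agent.W7Hull
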