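import Groth.Agent.W7Hull.Noeth
import Groth.Agent.W7Hull.QCoh
import Groth.Agent.W7Baer.Local
import Groth.Agent.W7InjStalk.Basic
import Groth.Agent.QC.Extend
import Groth.Agent.S0927
import Groth.Agent.RDerLib.LES
import Groth.Agent.TMul.Assoc
import Groth.Prelude.Def_DCoh4

/-!
Quasi-coherent modules with vanishing sheaf `Ext¹` against coherent modules are injective.
-/

set_option autoImplicit false
set_option backward.isDefEq.respectTransparency false
set_option linter.style.haveILetI false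

universe u

open CategoryTheory CategoryTheory.Limits AlgebraicGeometry TopologicalSpace Opposite MonoidalCategory

noncomputable section

namespace Groth.Agent.W7Hull

variable {X : Scheme.{u}}

open Groth.Agent.QC (res res_res)

lemma bi_map_tm (M : X.Modules) {N N' : X.Modules} (f : N ⟶ N') {U : X.Opens} (a : Γ(M, U)) (b : Γ(N, U)) :
    (((DCoh.tensorBi (X := X)).obj M).map f).app U (TMul.tm a b) = TMul.tm a (f.app U b) := by
  let adj := PresheafOfModules.sheafificationAdjunction.{u, u, u, u} (J := Opens.grothendieckTopology X) (𝟙 X.ringCatSheaf.obj)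
  let g := CohB1.toPMod M ◁ DCoh.toP.map f
  exact (congr(($(adj.unit.naturality g)).app (op U) (a ⊗ₜ[Γ(X, U)] b))).symm

/-- the section of `j_! O_U` corresponding to the identity -/
def eOne (V : X.Opens) : Γ(CxOX.extZeroUnit V.ι, V) :=
  (W7ExtZero.extZeroUnitCorep V).homEquiv (𝟙 _)

lemma app_eOne {V : X.Opens} {N : X.Modules} (f : CxOX.extZeroUnit V.ι ⟶ N) :
    f.app V (eOne V) = (W7ExtZero.extZeroUnitCorep V).homEquiv f := by
  have h := (W7ExtZero.extZeroUnitCorep V).homEquiv_comp f (𝟙 _)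
  rw [Category.id_comp] at h
  exact h.symm

lemma stalk_gen_eOne (V : X.Opens) (y : X) (z : (CxOX.extZeroUnit V.ι).presheaf.stalk y) :
    z ∈ ⨆ hy : y ∈ V, Submodule.span (X.presheaf.stalk y) {(CxOX.extZeroUnit V.ι).presheaf.germ V y hy (eOne V)} := by
  let M := CxOX.extZeroUnit V.ι
  let N : ∀ y : X, Submodule (X.presheaf.stalk y) (M.presheaf.stalk y) := fun y =>
    ⨆ hy : y ∈ V, Submodule.span _ {M.presheaf.germ V y hy (eOne V)}
  have hπ : cokernel.π (subObj N).arrow = 0 := by
    refine (W7ExtZero.extZeroUnitCorep V).homEquiv.injective ?_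
    rw [← app_eOne, ← app_eOne]
    refine section_ext _ _ fun x hx => ?_
    obtain ⟨w, hw⟩ := germ_mem_subObj N (eOne V)
      (fun x hx => Submodule.mem_iSup_of_mem hx (Submodule.mem_span_singleton_self _)) x hx
    rw [← st_germ, ← hw, ← st_comp, cokernel.condition, st_zero]
    exact (map_zero _).symm
  exact stImg_subObj_le N y (st_exact_cokernel _ y z (by rw [hπ, st_zero]))

/-- Stalkwise lifting of elements killed by an ideal, from the vanishing of sheaf `Ext¹`. -/
theorem exists_lift_killed [IsLocallyNoetherian X] [HasInjectiveResolutions X.Modules] (F : X.Modules)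
    (h : ∀ (G : X.Modules) [DCoh.HasSheafHom G] [(DCoh.sheafHom G).Additive],
      Coh.IsCoh G → IsZero (((DCoh.sheafHom G).rightDerived 1).obj F))
    {A : X.Modules} (j : F ⟶ A) [Mono j] (x : X) (I : Ideal (X.presheaf.stalk x))
    (z : (cokernel j).presheaf.stalk x) (hz : ∀ r ∈ I, r • z = 0) :
    ∃ a : A.presheaf.stalk x, st (cokernel.π j) x a = z ∧ ∀ r ∈ I, r • a = 0 := by
  classical
  let Q := cokernel j
  obtain ⟨U, hU, hxU, -⟩ := exists_isAffineOpen_mem_and_subset (Opens.mem_top x)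
  haveI : IsNoetherianRing Γ(X, U) := IsLocallyNoetherian.component_noetherian ⟨U, hU⟩
  letI := TopCat.Presheaf.algebra_section_stalk X.presheaf (U := U) ⟨x, hxU⟩
  have hloc : IsLocalization (hU.primeIdealOf ⟨x, hxU⟩).asIdeal.primeCompl (X.presheaf.stalk x) :=
    hU.isLocalization_stalk ⟨x, hxU⟩
  let aR : Ideal Γ(X, U) := I.comap (algebraMap Γ(X, U) (X.presheaf.stalk x))
  obtain ⟨n, c, hc⟩ := Submodule.fg_iff_exists_fin_generating_family.mp (IsNoetherian.noetherian aR)
  have hcI : ∀ i, X.presheaf.germ U x hxU (c i) ∈ I := fun i =>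
    (hc ▸ Submodule.subset_span ⟨i, rfl⟩ : c i ∈ aR)
  -- the coherent module
  let O := Coh.structureModule X
  haveI hOq : O.IsQuasicoherent := QC.isQCoh_unit X
  let cO : Fin n → Γ(O, U) := c
  have hgen : QC.GenOn (QC.genSub (Set.range cO)) U (Set.range cO) := by
    refine ⟨fun t ht y hy _ => ⟨U, le_rfl, le_rfl, hy, Submodule.subset_span ⟨t, ht, rfl⟩⟩, fun _ _ => le_rfl⟩
  obtain ⟨S', hS', hS'U⟩ := QC.exists_extend (F := O) (fun y => by
      obtain ⟨V, hV, hyV, -⟩ := exists_isAffineOpen_mem_and_subset (Opens.mem_top y)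
      haveI : IsNoetherianRing Γ(X, V) := IsLocallyNoetherian.component_noetherian ⟨V, hV⟩
      exact ⟨V, hyV, noetherianSpace_of_isAffineOpen V hV⟩)
    (QC.genSub (Set.range cO)) (W := U) (fun y hy => ⟨U, hU, hy, le_rfl, (Set.finite_range cO).toFinset,
      by rw [Set.Finite.coe_toFinset]; exact hgen⟩)
  obtain ⟨hJq, hJft⟩ := QC.Sub.isCoh_toModules hS'
  let G := cokernel S'.ι
  have hG : Coh.IsCoh G := ⟨QC.isQCoh_cokernel hJq (QC.isQCoh_unit X) _,
    QC.isFT_of_epi (cokernel.π S'.ι) (TMul.isFT_structureModule X)⟩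
  let π : O ⟶ G := cokernel.π S'.ι
  haveI : DCoh.HasSheafHom G := by
    haveI : PreservesColimitsOfSize.{u, u} ((DCoh.tensorBi (X := X)).obj G) :=
      ModSiteTensor.preservesColimits_tensorBi_obj X.sheaf G
    haveI : WellPowered.{u} (X.Modules)ᵒᵖ := CategoryTheory.Abelian.wellPowered_opposite
    exact isLeftAdjoint_of_preservesColimits_of_isSeparating (isSeparator_separator X.Modules) _
  let T := DCoh.sheafHom G
  let adj := DCoh.sheafHomAdj G
  haveI : T.Additive := adj.right_adjoint_additive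
  haveI : PreservesFiniteLimits T :=
    haveI : PreservesLimitsOfSize.{0, 0} T := adj.rightAdjoint_preservesLimits
    inferInstance
  -- surjectivity of sheaf Hom
  haveI hTp : Epi (T.map (cokernel.π j)) := by
    let S := ShortComplex.mk j (cokernel.π j) (cokernel.condition j)
    have hS : S.ShortExact := ShortComplex.ShortExact.mk' (ShortComplex.exact_of_g_is_cokernel S (cokernelIsCokernel j))
      inferInstance inferInstance
    let R := RDerLib.res hS
    have hδ : R.delta T 0 1 rfl = 0 := (h G hG).eq_of_tgt _ _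
    haveI h0 : Epi ((T.rightDerived 0).map S.g) :=
      (ShortComplex.exact_iff_epi _ hδ).1 (RDerLib.exact₃ T R 0 1 rfl)
    exact ((MorphismProperty.epimorphisms _).arrow_mk_iso_iff
      (Arrow.isoMk (T.rightDerivedZeroIsoSelf.app A) (T.rightDerivedZeroIsoSelf.app (cokernel j))
        (T.rightDerivedZeroIsoSelf.hom.naturality (cokernel.π j)).symm)).1 h0
  -- a representative of `z`
  obtain ⟨W₁, hxW₁, s₁, rfl⟩ := TopCat.Presheaf.exists_germ_eq Q.presheaf z
  have hann : ∀ i, ∃ V : X.Opens, x ∈ V ∧ ∀ y ∈ V, ∀ (h₁ : y ∈ W₁) (h₂ : y ∈ U),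
      X.presheaf.germ U y h₂ (c i) • Q.presheaf.germ W₁ y h₁ s₁ = 0 := by
    intro i
    let V₀ := W₁ ⊓ U
    let t : Γ(Q, V₀) := X.presheaf.map (homOfLE (inf_le_right : V₀ ≤ U)).op (c i) •
      Q.presheaf.map (homOfLE (inf_le_left : V₀ ≤ W₁)).op s₁
    have hgy : ∀ y (hy : y ∈ V₀), Q.presheaf.germ V₀ y hy t =
        X.presheaf.germ U y hy.2 (c i) • Q.presheaf.germ W₁ y hy.1 s₁ := fun y hy => by
      rw [Mero.germ_smul Q V₀ y hy, TopCat.Presheaf.germ_res_apply, TopCat.Presheaf.germ_res_apply]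
    obtain ⟨V, hxV, i₁, i₂, e⟩ := TopCat.Presheaf.germ_eq Q.presheaf x
      (show x ∈ V₀ from ⟨hxW₁, hxU⟩) (show x ∈ V₀ from ⟨hxW₁, hxU⟩) t 0
      (by rw [hgy, map_zero]; exact hz _ (hcI i))
    refine ⟨V, hxV, fun y hy h₁ h₂ => ?_⟩
    rw [← hgy y ⟨h₁, h₂⟩, ← TopCat.Presheaf.germ_res_apply Q.presheaf i₁ y hy, e, map_zero, map_zero]
  choose V hxV hV using hann
  let W : X.Opens := (W₁ ⊓ U) ⊓ ⟨_, isOpen_iInter_of_finite fun i => (V i).2⟩
  have hxW : x ∈ W := ⟨⟨hxW₁, hxU⟩, Set.mem_iInter.2 hxV⟩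
  have hWU : W ≤ U := inf_le_left.trans inf_le_right
  let s : Γ(Q, W) := Q.presheaf.map (homOfLE (inf_le_left.trans inf_le_left : W ≤ W₁)).op s₁
  have hs : ∀ y (hy : y ∈ W), Q.presheaf.germ W y hy s = Q.presheaf.germ W₁ y hy.1.1 s₁ := fun y hy =>
    TopCat.Presheaf.germ_res_apply _ _ y hy _
  -- germs of the ideal kill `s`
  have hJs : ∀ {O' : X.Opens} (y : X) (hy : y ∈ O') (hyW : y ∈ W) (b : Γ(O, O')), b ∈ S'.obj O' →
      X.presheaf.germ O' y hy b • Q.presheaf.germ W y hyW s = 0 := by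
    intro O' y hy hyW b hb
    have hb' : res O (inf_le_left : O' ⊓ U ≤ O') b ∈ S'.obj (O' ⊓ U) := S'.res_mem _ hb
    rw [hS'U _ inf_le_right] at hb'
    obtain ⟨W', g, g', hyW', hspan⟩ := hb' y ⟨hy, hWU hyW⟩ (hWU hyW)
    let K : Submodule Γ(X, W') Γ(O, W') :=
      { carrier := {w | X.presheaf.germ W' y hyW' (show Γ(X, W') from w) • Q.presheaf.germ W y hyW s = 0}
        add_mem' := fun {u v} hu hv => by
          change X.presheaf.germ W' y hyW' ((show Γ(X, W') from u) + (show Γ(X, W') from v)) •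
            Q.presheaf.germ W y hyW s = 0
          rw [map_add, add_smul, hu, hv, add_zero]
        zero_mem' := by
          change X.presheaf.germ W' y hyW' (0 : Γ(X, W')) • Q.presheaf.germ W y hyW s = 0
          rw [map_zero, zero_smul]
        smul_mem' := fun r u hu => by
          change X.presheaf.germ W' y hyW' (r * (show Γ(X, W') from u)) • Q.presheaf.germ W y hyW s = 0
          rw [map_mul, mul_smul, hu, smul_zero] }
    have hle : Submodule.span Γ(X, W') (res O g' '' Set.range cO) ≤ K := by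
      rw [Submodule.span_le]
      rintro _ ⟨_, ⟨i, rfl⟩, rfl⟩
      change X.presheaf.germ W' y hyW' (X.presheaf.map (homOfLE g').op (c i)) • Q.presheaf.germ W y hyW s = 0
      rw [TopCat.Presheaf.germ_res_apply, hs]
      exact hV i y (Set.mem_iInter.1 hyW.2 i) _ _
    have hfin : X.presheaf.germ W' y hyW' (X.presheaf.map (homOfLE g).op
        (X.presheaf.map (homOfLE (inf_le_left : O' ⊓ U ≤ O')).op b)) • Q.presheaf.germ W y hyW s = 0 := hle hspan
    rwa [TopCat.Presheaf.germ_res_apply, TopCat.Presheaf.germ_res_apply] at hfin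
  -- the map `G ⊗ j_! O_W ⟶ Q`
  let P := CxOX.extZeroUnit W.ι
  let ζ : P ⟶ Q := (W7ExtZero.extZeroUnitCorep W).homEquiv.symm s
  have hζ : ζ.app W (eOne W) = s := (app_eOne ζ).trans (Equiv.apply_symm_apply _ _)
  let L := (DCoh.tensorBi (X := X)).obj P
  haveI : PreservesColimitsOfSize.{u, u} L := ModSiteTensor.preservesColimits_tensorBi_obj X.sheaf P
  haveI : PreservesColimitsOfSize.{0, 0} L := preservesSmallestColimits_of_preservesColimits _
  let ψ : L.obj O ⟶ Q := (SecTwist.unitorR P).hom ≫ ζ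
  have hψtm : ∀ (O' : X.Opens) (b : Γ(P, O')) (r : Γ(O, O')),
      ψ.app O' (TMul.tm b r) = ζ.app O' ((show Γ(X, O') from r) • b) := fun O' b r =>
    congrArg (ζ.app O') (SecTwist.unitorR_tmul P O' b r)
  have hψ0 : L.map S'.ι ≫ ψ = 0 := TMul.hom_ext fun O' b t => by
    change ψ.app O' ((L.map S'.ι).app O' (TMul.tm b t)) = 0
    rw [bi_map_tm, hψtm]
    refine section_ext _ _ fun y hy => ?_
    have hb := stalk_gen_eOne W y (P.presheaf.germ O' y hy b)
    rw [Scheme.Modules.Hom.app_smul, Mero.germ_smul Q O' y hy, ← st_germ, map_zero]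
    by_cases hyW : y ∈ W
    · rw [iSup_pos hyW] at hb
      obtain ⟨d, hd⟩ := Submodule.mem_span_singleton.1 hb
      rw [← hd, map_smul, st_germ, hζ, smul_comm, hJs y hy hyW _ ((S'.range_ι_app O' _).1 ⟨t, rfl⟩), smul_zero]
    · rw [iSup_neg hyW, Submodule.mem_bot] at hb
      rw [hb, map_zero, smul_zero]
  have hL : IsColimit (CokernelCofork.map (CokernelCofork.ofπ (cokernel.π S'.ι) (cokernel.condition S'.ι)) L) :=
    CokernelCofork.mapIsColimit _ (cokernelIsCokernel S'.ι) L
  obtain ⟨φ, hφ⟩ := CokernelCofork.IsColimit.desc' hL ψ hψ0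
  have hφ' : L.map π ≫ φ = ψ := hφ
  let φ₁ : ((DCoh.tensorBi (X := X)).obj G).obj P ⟶ Q := (TMul.commIso G P).hom ≫ φ
  let f : P ⟶ T.obj Q := adj.homEquiv _ _ φ₁
  obtain ⟨w, hw⟩ := (ModuleCat.epi_iff_surjective _).1 (Functor.map_epi (DerSch.stalkFunctor X x) (T.map (cokernel.π j)))
    ((T.obj Q).presheaf.germ W x hxW (f.app W (eOne W)))
  obtain ⟨B, hxB, t, rfl⟩ := TopCat.Presheaf.exists_germ_eq (T.obj A).presheaf w
  obtain ⟨W', hxW', i₁, i₂, he⟩ := TopCat.Presheaf.germ_eq (T.obj Q).presheaf x hxB hxW _ _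
    ((st_germ (T.map (cokernel.π j)) hxB t).symm.trans hw)
  let P' := CxOX.extZeroUnit (Scheme.Opens.ι W')
  let f' : P' ⟶ T.obj A := (W7ExtZero.extZeroUnitCorep W').homEquiv.symm ((T.obj A).presheaf.map i₁.op t)
  let ι' : P' ⟶ P := (W7ExtZero.extZeroUnitCorep W').homEquiv.symm (P.presheaf.map i₂.op (eOne W))
  have hι' : ι'.app W' (eOne W') = P.presheaf.map i₂.op (eOne W) :=
    (app_eOne ι').trans (Equiv.apply_symm_apply _ _)
  have hcomm : f' ≫ T.map (cokernel.π j) = ι' ≫ f := by
    refine (W7ExtZero.extZeroUnitCorep W').homEquiv.injective ?_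
    rw [← app_eOne, ← app_eOne]
    change (T.map (cokernel.π j)).app W' (f'.app W' (eOne W')) = f.app W' (ι'.app W' (eOne W'))
    rw [show f'.app W' (eOne W') = (T.obj A).presheaf.map i₁.op t from
      (app_eOne f').trans (Equiv.apply_symm_apply _ _), hι']
    exact ((NatTrans.naturality_apply (T.map (cokernel.π j)).mapPresheaf i₁.op t).trans he).trans
      (NatTrans.naturality_apply f.mapPresheaf i₂.op (eOne W)).symm
  let φ' : ((DCoh.tensorBi (X := X)).obj G).obj P' ⟶ A := (adj.homEquiv _ _).symm f'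
  have hφ'p : φ' ≫ cokernel.π j = ((DCoh.tensorBi (X := X)).obj G).map ι' ≫ φ₁ := by
    rw [← adj.homEquiv_naturality_right_symm, hcomm, adj.homEquiv_naturality_left_symm,
      Equiv.symm_apply_apply]
  let one' : Γ(O, W') := (1 : Γ(X, W'))
  let g₁ : Γ(G, W') := π.app W' one'
  refine ⟨A.presheaf.germ W' x hxW' (φ'.app W' (TMul.tm g₁ (eOne W'))), ?_, ?_⟩
  · rw [st_germ]
    have h1 : (cokernel.π j).app W' (φ'.app W' (TMul.tm g₁ (eOne W'))) = Q.presheaf.map i₂.op s := by
      refine (congr(($hφ'p).app W' (TMul.tm g₁ (eOne W')))).trans ?_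
      change φ.app W' ((TMul.commIso G P).hom.app W'
        ((((DCoh.tensorBi (X := X)).obj G).map ι').app W' (TMul.tm g₁ (eOne W')))) = _
      rw [bi_map_tm, hι',
        show (TMul.commIso G P).hom.app W' (TMul.tm g₁ (P.presheaf.map i₂.op (eOne W))) =
          TMul.tm (P.presheaf.map i₂.op (eOne W)) g₁ from TMul.commHom_tm _ _,
        show TMul.tm (P.presheaf.map i₂.op (eOne W)) g₁ = (L.map π).app W' (TMul.tm (P.presheaf.map i₂.op (eOne W)) one') from
          (bi_map_tm P π _ _).symm]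
      refine (congr(($hφ').app W' (TMul.tm (P.presheaf.map i₂.op (eOne W)) one'))).trans ?_
      rw [hψtm, show (show Γ(X, W') from one') = 1 from rfl, one_smul]
      exact (NatTrans.naturality_apply ζ.mapPresheaf i₂.op (eOne W)).trans (congrArg _ hζ)
    rw [h1, TopCat.Presheaf.germ_res_apply, hs]
  · intro r hr
    let z' := A.presheaf.germ W' x hxW' (φ'.app W' (TMul.tm g₁ (eOne W')))
    have hci : ∀ i, X.presheaf.germ U x hxU (c i) • z' = 0 := fun i => by
      have hW'U : W' ≤ U := i₂.le.trans hWU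
      let ci : Γ(X, W') := X.presheaf.map (homOfLE hW'U).op (c i)
      have hmem : (show Γ(O, W') from ci) ∈ S'.obj W' := by
        rw [hS'U _ hW'U]
        exact fun y hy _ => ⟨W', le_rfl, hW'U, hy, Submodule.subset_span ⟨cO i, ⟨i, rfl⟩, (QC.res_self O le_rfl (show Γ(O, W') from ci)).symm⟩⟩
      obtain ⟨t', ht'⟩ := (S'.range_ι_app W' _).2 hmem
      have h0 : ci • g₁ = 0 := by
        change ci • π.app W' one' = 0
        rw [← Scheme.Modules.Hom.app_smul,
          show ci • one' = (show Γ(O, W') from ci) from mul_one ci, ← ht']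
        exact congr(($(cokernel.condition S'.ι)).app W' t')
      rw [← TopCat.Presheaf.germ_res_apply X.presheaf (homOfLE hW'U) x hxW' (c i),
        ← Mero.germ_smul A W' x hxW', ← Scheme.Modules.Hom.app_smul, ← TMul.smul_tm, h0, TMul.zero_tm,
        map_zero, map_zero]
    obtain ⟨⟨b, u⟩, hbu⟩ := @IsLocalization.surj _ _ _ _ _ _ hloc r
    have hb : b ∈ aR := by
      change algebraMap Γ(X, U) (X.presheaf.stalk x) b ∈ I
      rw [show algebraMap Γ(X, U) (X.presheaf.stalk x) b = r * algebraMap _ _ u.1 from hbu.symm]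
      exact I.mul_mem_right _ hr
    obtain ⟨v, hv⟩ := (Submodule.mem_span_range_iff_exists_fun _).1 (hc.symm.le hb)
    apply (@IsLocalization.map_units _ _ _ (X.presheaf.stalk x) _ _ hloc u).smul_left_cancel.1
    rw [smul_zero, smul_smul, mul_comm, hbu]
    change algebraMap Γ(X, U) (X.presheaf.stalk x) b • z' = 0
    rw [← hv, map_sum, Finset.sum_smul]
    refine Finset.sum_eq_zero fun i _ => ?_
    rw [smul_eq_mul, map_mul, mul_smul]
    exact (congrArg _ (hci i)).trans (smul_zero _)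

/-- A quasi-coherent module with injective stalks on a locally Noetherian scheme is injective. -/
theorem injective_of_stalk [IsLocallyNoetherian X] (F : X.Modules) (hF : Coh.IsQCoh F)
    (h : ∀ x, Module.Injective (X.presheaf.stalk x) (F.presheaf.stalk x)) : Injective F := by
  refine W7Baer.injective_of_locally F fun x => ?_
  obtain ⟨U, hU, hxU, -⟩ := exists_isAffineOpen_mem_and_subset (Opens.mem_top x)
  refine ⟨U, hxU, ?_⟩
  haveI : IsNoetherianRing Γ(X, U) := IsLocallyNoetherian.component_noetherian ⟨U, hU⟩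
  haveI := hF
  have hl := QC.isLoc_of_isQCoh hU (M := F)
  haveI hN : Module.Injective Γ(X, U) Γ(F, U) := by
    refine Module.Baer.injective fun a ψ => ?_
    obtain ⟨n, c, hc⟩ := Submodule.fg_iff_exists_fin_generating_family.mp (IsNoetherian.noetherian a)
    have hmem : ∀ i, c i ∈ a := fun i => hc ▸ Submodule.subset_span ⟨i, rfl⟩
    let K : Ideal Γ(X, U) :=
      { carrier := {r | ∃ e : Γ(F, U), ∀ (y : Γ(X, U)) (hy : y ∈ a), r • ψ ⟨y, hy⟩ = y • e}
        add_mem' := fun {r r'} ⟨e, he⟩ ⟨e', he'⟩ => ⟨e + e', fun y hy => by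
          rw [add_smul, he y hy, he' y hy, smul_add]⟩
        zero_mem' := ⟨0, fun y hy => by rw [zero_smul, smul_zero]⟩
        smul_mem' := fun q r ⟨e, he⟩ => ⟨q • e, fun y hy => by
          rw [smul_eq_mul, mul_smul, he y hy, smul_comm]⟩ }
    suffices hK : K = ⊤ by
      obtain ⟨e, he⟩ := (Ideal.eq_top_iff_one K).1 hK
      exact ⟨LinearMap.toSpanSingleton _ _ e, fun y hy => by
        rw [LinearMap.toSpanSingleton_apply, ← he y hy, one_smul]⟩
    by_contra hK
    obtain ⟨m, hm, hKm⟩ := Ideal.exists_le_maximal K hK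
    let p : PrimeSpectrum Γ(X, U) := ⟨m, hm.isPrime⟩
    let y : X := hU.fromSpec p
    have hyU : y ∈ U := SetLike.mem_coe.1 (hU.range_fromSpec.subset (Set.mem_range_self p))
    have hpy : ∀ f : Γ(X, U), y ∈ X.basicOpen f ↔ f ∉ m := fun f => by
      change p ∈ hU.fromSpec ⁻¹ᵁ X.basicOpen f ↔ _
      rw [hU.fromSpec_preimage_basicOpen]
      exact Iff.rfl
    let g : Γ(X, U) →+* X.presheaf.stalk y := (X.presheaf.germ U y hyU).hom
    let gF : Γ(F, U) →+ F.presheaf.stalk y := (F.presheaf.germ U y hyU).hom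
    have hg : ∀ (r : Γ(X, U)) (v : Γ(F, U)), gF (r • v) = g r • gF v := fun r v => Mero.germ_smul F U y hyU r v
    letI := TopCat.Presheaf.algebra_section_stalk X.presheaf (U := U) ⟨y, hyU⟩
    have hloc : IsLocalization (hU.primeIdealOf ⟨y, hyU⟩).asIdeal.primeCompl (X.presheaf.stalk y) :=
      hU.isLocalization_stalk ⟨y, hyU⟩
    have hnear : ∀ v : Γ(F, U), gF v = 0 → ∃ f, f ∉ m ∧ f • v = 0 := fun v hv => by
      obtain ⟨B, hyB, i₁, i₂, e⟩ := TopCat.Presheaf.germ_eq F.presheaf y hyU hyU v 0 (hv.trans (map_zero _).symm)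
      obtain ⟨f, hfB, hyf⟩ := hU.exists_basicOpen_le (V := B) ⟨y, hyB⟩ hyU
      obtain ⟨k, hk⟩ := hl.exists_pow_smul_eq_zero f v (by
        have := congrArg (F.presheaf.map (homOfLE hfB).op) e
        rw [map_zero, map_zero, ← ConcreteCategory.comp_apply, ← Functor.map_comp] at this
        exact this)
      exact ⟨f ^ k, fun hfk => (hpy f).1 hyf (hm.isPrime.mem_of_pow_mem k hfk), hk⟩
    have hfrac : ∀ v : F.presheaf.stalk y, ∃ (f : Γ(X, U)) (w : Γ(F, U)), f ∉ m ∧ g f • v = gF w := fun v => by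
      obtain ⟨B, hyB, b, rfl⟩ := TopCat.Presheaf.exists_germ_eq F.presheaf v
      obtain ⟨f, hfB, hyf⟩ := hU.exists_basicOpen_le (V := B) ⟨y, hyB⟩ hyU
      obtain ⟨k, w, hw⟩ := hl.exists_extend f (F.presheaf.map (homOfLE hfB).op b)
      refine ⟨f ^ k, w, fun hfk => (hpy f).1 hyf (hm.isPrime.mem_of_pow_mem k hfk), ?_⟩
      have := congrArg (F.presheaf.germ (X.basicOpen f) y hyf) hw
      rw [Mero.germ_smul F (X.basicOpen f) y hyf, map_pow] at this
      have h1 : X.presheaf.germ (X.basicOpen f) y hyf (QC.resO X (X.basicOpen_le f) f) = g f :=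
        TopCat.Presheaf.germ_res_apply X.presheaf (homOfLE (X.basicOpen_le f)) y hyf f
      have h2 : F.presheaf.germ (X.basicOpen f) y hyf (res F (X.basicOpen_le f) w) = gF w :=
        TopCat.Presheaf.germ_res_apply F.presheaf (homOfLE (X.basicOpen_le f)) y hyf w
      have h3 := TopCat.Presheaf.germ_res_apply F.presheaf (homOfLE hfB) y hyf b
      rw [h1, h2, h3] at this
      rw [map_pow]
      exact this.symm
    have hunit : ∀ f, f ∉ m → IsUnit (g f) := fun f hf =>
      (X.mem_basicOpen f y hyU).1 ((hpy f).2 hf)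
    -- the extension on the stalk
    haveI := h y
    have hval : ∀ i, g (c i) ∈ Ideal.map g a := fun i => Ideal.mem_map_of_mem g (hmem i)
    let P : (Fin n → X.presheaf.stalk y) →ₗ[X.presheaf.stalk y] X.presheaf.stalk y :=
      Fintype.linearCombination _ (fun i => g (c i))
    let q : (Fin n → X.presheaf.stalk y) →ₗ[X.presheaf.stalk y] F.presheaf.stalk y :=
      Fintype.linearCombination _ (fun i => gF (ψ ⟨c i, hmem i⟩))
    have hker : LinearMap.ker P ≤ LinearMap.ker q := by
      intro v hv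
      obtain ⟨⟨t, ht⟩, hint⟩ := @IsLocalization.exist_integer_multiples_of_finite _ _
        (hU.primeIdealOf ⟨y, hyU⟩).asIdeal.primeCompl (X.presheaf.stalk y) _ _ hloc _ _ v
      choose u hu using hint
      have hzero : g (∑ i, u i * c i) = 0 := by
        simp only [map_sum, map_mul]
        have hP := LinearMap.mem_ker.1 hv
        simp only [P, Fintype.linearCombination_apply, smul_eq_mul] at hP
        calc ∑ i, g (u i) * g (c i) = ∑ i, g t * (v i * g (c i)) := Finset.sum_congr rfl fun i _ => by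
              rw [show g (u i) = g t * v i from (hu i).trans (Algebra.smul_def _ _), mul_assoc]
          _ = 0 := by rw [← Finset.mul_sum, hP, mul_zero]
      obtain ⟨B, hyB, i₁, i₂, e⟩ := TopCat.Presheaf.germ_eq X.presheaf y hyU hyU (∑ i, u i * c i) 0
        (hzero.trans (map_zero _).symm)
      obtain ⟨f, hfB, hyf⟩ := hU.exists_basicOpen_le (V := B) ⟨y, hyB⟩ hyU
      haveI := hU.isLocalization_basicOpen f
      obtain ⟨⟨_, k, rfl⟩, hk⟩ := (IsLocalization.map_eq_zero_iff (Submonoid.powers f) Γ(X, X.basicOpen f)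
        (∑ i, u i * c i)).1 (by
          have := congrArg (X.presheaf.map (homOfLE hfB).op) e
          rw [map_zero, map_zero, ← ConcreteCategory.comp_apply, ← Functor.map_comp] at this
          exact this)
      have hψ0 : f ^ k • ∑ i, u i • ψ ⟨c i, hmem i⟩ = 0 := by
        rw [← map_zero ψ]
        simp only [← map_smul, ← map_sum]
        congr 1
        ext
        simpa using hk
      have h2 := congrArg gF hψ0
      simp only [map_zero, hg, map_sum] at h2
      have h3 : ∑ i, g (u i) • gF (ψ ⟨c i, hmem i⟩) = 0 :=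
        (hunit _ fun hfk => (hpy f).1 hyf (hm.isPrime.mem_of_pow_mem k hfk)).smul_left_cancel.1
          (h2.trans (smul_zero _).symm)
      simp only [LinearMap.mem_ker, q, Fintype.linearCombination_apply]
      refine (@IsLocalization.map_units _ _ _ (X.presheaf.stalk y) _ _ hloc ⟨t, ht⟩).smul_left_cancel.1 ?_
      rw [smul_zero, Finset.smul_sum, ← h3]
      refine Finset.sum_congr rfl fun i _ => ?_
      rw [show g (u i) = g t * v i from (hu i).trans (Algebra.smul_def _ _), mul_smul]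
      rfl
    obtain ⟨G, hG⟩ := Module.Injective.out (R := X.presheaf.stalk y) ((LinearMap.ker P).liftQ P le_rfl)
      (LinearMap.ker_eq_bot.1 (Submodule.ker_liftQ_eq_bot' _ _ rfl)) ((LinearMap.ker P).liftQ q hker)
    have hGc : ∀ i, g (c i) • G 1 = gF (ψ ⟨c i, hmem i⟩) := fun i => by
      classical
      have h1 := hG (Submodule.Quotient.mk (Pi.single i 1))
      simp only [Submodule.liftQ_apply, P, q, Fintype.linearCombination_apply_single, one_smul] at h1
      rw [← h1, ← map_smul, smul_eq_mul, mul_one]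
    obtain ⟨f, w, hf, hfw⟩ := hfrac (G 1)
    have hk : ∀ i, ∃ r, r ∉ m ∧ r • (f • ψ ⟨c i, hmem i⟩ - c i • w) = 0 := fun i => hnear _ (by
      rw [map_sub, hg, hg, ← hfw, ← hGc, smul_comm, sub_self])
    choose r hr hr0 using hk
    refine (fun hh => (hm.isPrime.mem_or_mem hh).elim
      (fun hp => by obtain ⟨i, -, hi⟩ := hm.isPrime.prod_mem_iff.1 hp; exact hr i hi) hf) (hKm (?_ : (∏ i, r i) * f ∈ K))
    refine ⟨(∏ i, r i) • w, fun b hb => ?_⟩
    obtain ⟨v, rfl⟩ := (Submodule.mem_span_range_iff_exists_fun _).1 (hc.symm.le hb)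
    have e : (⟨_, hb⟩ : a) = ∑ i, v i • (⟨c i, hmem i⟩ : a) := Subtype.ext (by simp)
    rw [e, map_sum, Finset.smul_sum, Finset.sum_smul]
    refine Finset.sum_congr rfl fun i _ => ?_
    rw [map_smul, smul_eq_mul, mul_smul, smul_comm f, smul_comm (∏ i, r i) (v i), mul_smul]
    congr 1
    obtain ⟨d, hd⟩ : r i ∣ ∏ i, r i := Finset.dvd_prod_of_mem r (Finset.mem_univ i)
    rw [smul_comm (c i), ← sub_eq_zero, ← smul_sub, hd, mul_comm, mul_smul, hr0, smul_zero]
  haveI : (F.restrict hU.fromSpec).IsQuasicoherent := QC.isQCoh_restrict _ hF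
  let M₀ : ModuleCat.{u} Γ(X, U) := (modulesSpecToSheaf.obj (F.restrict hU.fromSpec)).presheaf.obj (op ⊤)
  haveI : Module.Injective Γ(X, U) M₀ :=
    Module.Baer.injective (Module.Baer.of_equiv (QC.topEquiv hU F).symm (Module.Baer.of_injective hN))
  haveI : Injective (F.restrict hU.fromSpec) :=
    Injective.of_iso (QC.isoTildeΓ (F.restrict hU.fromSpec)) (injective_tilde M₀)
  haveI : Injective ((Scheme.Modules.pushforward hU.isoSpec.inv).obj (F.restrict hU.fromSpec)) :=
    Injective.injective_of_adjoint (Scheme.Modules.restrictAdjunction hU.isoSpec.inv) _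
  refine Injective.of_iso ?_ this
  exact (Scheme.Modules.pushforward hU.isoSpec.inv).mapIso
      ((Scheme.Modules.restrictFunctorComp hU.isoSpec.inv U.ι).app F) ≪≫
    (@asIso _ _ _ _ ((Scheme.Modules.restrictAdjunction hU.isoSpec.inv).unit.app (F.restrict U.ι)) (by
      rw [Scheme.Modules.Hom.isIso_iff_isIso_app]
      intro V
      rw [Scheme.Modules.restrictAdjunction_unit_app_app]
      have e : hU.isoSpec.inv ''ᵁ (hU.isoSpec.inv ⁻¹ᵁ V) = V := by
        rw [Scheme.Hom.image_preimage_eq_opensRange_inf, Scheme.Hom.opensRange_of_isIso, top_inf_eq]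
      haveI : IsIso (homOfLE (hU.isoSpec.inv.image_preimage_le V)) := ⟨homOfLE e.ge, rfl, rfl⟩
      infer_instance)).symm

end Groth.Agent.W7Hull
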