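import Mathlib
import Groth.Agent.S4790
import Groth.Agent.ModDesc.Iso

/-!
`X ×_Y Spec O_{Y,y}` is the limit of the preimages of the affine neighbourhoods of `y`.
-/

set_option autoImplicit false
set_option backward.isDefEq.respectTransparency false
set_option backward.isDefEq.respectTransparency.types false
set_option linter.style.haveILetI false

universe u

open CategoryTheory CategoryTheory.Limits AlgebraicGeometry TopologicalSpace Opposite

noncomputable section

namespace Groth.Agent.W7Hull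

namespace NearLimit

variable {X Y : Scheme.{u}} (f : X ⟶ Y) (y : Y)

/-- affine neighbourhoods -/
abbrev Idx : Type u := {V : Y.Opens // IsAffineOpen V ∧ y ∈ V}

lemma exists_idx_le (U : Y.Opens) (hU : y ∈ U) : ∃ V : Idx y, V.1 ≤ U := by
  obtain ⟨V, hV, hyV, hVU⟩ := exists_isAffineOpen_mem_and_subset (U := U) hU
  exact ⟨⟨V, hV, hyV⟩, hVU⟩

instance : Nonempty (Idx y) := ⟨(exists_idx_le y ⊤ trivial).choose⟩

instance : IsCofiltered (Idx y) :=
  haveI : IsCodirectedOrder (Idx y) := ⟨fun a b => by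
    obtain ⟨V, hV⟩ := exists_idx_le y (a.1 ⊓ b.1) ⟨a.2.2, b.2.2⟩
    exact ⟨V, hV.trans inf_le_left, hV.trans inf_le_right⟩⟩
  isCofiltered_of_directed_ge_nonempty _

/-- the inclusion in all neighbourhoods -/
def incl : Idx y ⥤ OpenNhds y :=
  (show Monotone (fun V : Idx y => (⟨V.1, V.2.2⟩ : OpenNhds y)) from fun _ _ h => h).functor

instance : (incl y).Initial := by
  refine Functor.initial_of_exists_of_isCofiltered _ (fun U => ?_) fun {d c} s s' => ⟨c, 𝟙 _, Subsingleton.elim _ _⟩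
  obtain ⟨V, hV⟩ := exists_idx_le y U.1 U.2
  exact ⟨V, ⟨homOfLE hV⟩⟩

/-- the diagram of preimages -/
def diag : Idx y ⥤ Scheme.{u} where
  obj V := ↑(f ⁻¹ᵁ V.1)
  map h := X.homOfLE (f.preimage_mono (leOfHom h))
  map_id V := X.homOfLE_rfl _
  map_comp h h' := (X.homOfLE_homOfLE _ _).symm

lemma range_fst_subset (V : Idx y) :
    Set.range (pullback.fst f (Y.fromSpecStalk y)) ⊆ Set.range (f ⁻¹ᵁ V.1).ι := by
  rintro _ ⟨z, rfl⟩
  rw [Scheme.Opens.range_ι]
  change (pullback.fst f (Y.fromSpecStalk y) ≫ f) z ∈ V.1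
  rw [pullback.condition, Scheme.Hom.comp_apply]
  have h : Y.fromSpecStalk y (pullback.snd f (Y.fromSpecStalk y) z) ∈ Set.range (Y.fromSpecStalk y) := ⟨_, rfl⟩
  rw [Scheme.range_fromSpecStalk] at h
  exact h.mem_open V.1.2 V.2.2

/-- the cone -/
def cone : Cone (diag f y) where
  pt := pullback f (Y.fromSpecStalk y)
  π :=
    { app := fun V => IsOpenImmersion.lift (f ⁻¹ᵁ V.1).ι (pullback.fst f (Y.fromSpecStalk y)) (range_fst_subset f y V)
      naturality := fun V W h => by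
        rw [← cancel_mono (f ⁻¹ᵁ W.1).ι]
        simp [diag, IsOpenImmersion.lift_fac] }

lemma cone_fac (V : Idx y) : (cone f y).π.app V ≫ (f ⁻¹ᵁ V.1).ι = pullback.fst f (Y.fromSpecStalk y) :=
  IsOpenImmersion.lift_fac _ _ _

/-- the rings of the affine neighbourhoods -/
abbrev rings : (Idx y)ᵒᵖ ⥤ CommRingCat.{u} :=
  (incl y).op ⋙ (OpenNhds.inclusion y).op ⋙ Y.presheaf

/-- the stalk cocone -/
def ringsCocone : Cocone (rings y) :=
  (colimit.cocone ((OpenNhds.inclusion y).op ⋙ Y.presheaf)).whisker (incl y).op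

def ringsColimit : IsColimit (ringsCocone y) :=
  (Functor.Final.isColimitWhiskerEquiv (incl y).op _).symm (colimit.isColimit _)

/-- `Spec O_{Y,y}` is the limit of the spectra of the affine neighbourhoods -/
theorem exists_specStalk_lift {T : Scheme.{u}} (g : ∀ V : Idx y, T ⟶ Spec Γ(Y, V.1))
    (hg : ∀ (V W : Idx y) (h : V ≤ W), g V ≫ Spec.map (Y.presheaf.map (homOfLE (show V.1 ≤ W.1 from h)).op) = g W) :
    ∃ a : T ⟶ Spec (Y.presheaf.stalk y), ∀ V : Idx y, a ≫ Spec.map (Y.presheaf.germ V.1 y V.2.2) = g V := by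
  let hl := isLimitOfPreserves Scheme.Spec (ringsColimit y).op
  let s : Cone ((rings y).op ⋙ Scheme.Spec) :=
    { pt := T
      π :=
        { app := fun j => g j.unop.unop
          naturality := fun j k h => by
            refine (Category.id_comp _).trans ?_
            exact (hg _ _ (leOfHom h.unop.unop)).symm } }
  exact ⟨hl.lift s, fun V => hl.fac s (op (op V))⟩

theorem specStalk_hom_ext {T : Scheme.{u}} (a b : T ⟶ Spec (Y.presheaf.stalk y))
    (h : ∀ V : Idx y, a ≫ Spec.map (Y.presheaf.germ V.1 y V.2.2) = b ≫ Spec.map (Y.presheaf.germ V.1 y V.2.2)) :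
    a = b :=
  (isLimitOfPreserves Scheme.Spec (ringsColimit y).op).hom_ext fun j => h j.unop.unop

lemma fromSpecStalk_eq (V : Idx y) :
    Y.fromSpecStalk y = Spec.map (Y.presheaf.germ V.1 y V.2.2) ≫ V.2.1.fromSpec :=
  (V.2.1.fromSpecStalk_eq_fromSpecStalk V.2.2).symm

/-- the cone is a limit -/
def isLimit : IsLimit (cone f y) := by
  refine Classical.choice ?_
  have hb : ∀ (s : Cone (diag f y)) (V W : Idx y), s.π.app V ≫ (f ⁻¹ᵁ V.1).ι = s.π.app W ≫ (f ⁻¹ᵁ W.1).ι := by
    intro s V W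
    obtain ⟨Z, hZ⟩ := exists_idx_le y (V.1 ⊓ W.1) ⟨V.2.2, W.2.2⟩
    rw [← s.w (homOfLE (show Z ≤ V from hZ.trans inf_le_left)),
      ← s.w (homOfLE (show Z ≤ W from hZ.trans inf_le_right))]
    simp [diag]
  have ha : ∀ s : Cone (diag f y), ∃ a : s.pt ⟶ Spec (Y.presheaf.stalk y), ∀ V : Idx y,
      a ≫ Y.fromSpecStalk y = (s.π.app V ≫ (f ⁻¹ᵁ V.1).ι) ≫ f := by
    intro s
    let g : ∀ V : Idx y, s.pt ⟶ Spec Γ(Y, V.1) := fun V => s.π.app V ≫ (f ∣_ V.1) ≫ V.2.1.isoSpec.hom
    have hgV : ∀ V : Idx y, g V ≫ V.2.1.fromSpec = (s.π.app V ≫ (f ⁻¹ᵁ V.1).ι) ≫ f := fun V => by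
      simp only [g, Category.assoc]
      rw [IsAffineOpen.isoSpec_hom_fromSpec, morphismRestrict_ι]
    obtain ⟨a, ha⟩ := exists_specStalk_lift y g fun V W h => by
      rw [← cancel_mono W.2.1.fromSpec, Category.assoc, W.2.1.map_fromSpec V.2.1 _, hgV, hgV, hb s V W]
    refine ⟨a, fun V => ?_⟩
    rw [fromSpecStalk_eq y V, ← Category.assoc, ha V, hgV V]
  let V₀ : Idx y := Classical.arbitrary _
  exact ⟨
    { lift := fun s => pullback.lift (s.π.app V₀ ≫ (f ⁻¹ᵁ V₀.1).ι) (ha s).choose ((ha s).choose_spec V₀).symm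
      fac := fun s V => by
        rw [← cancel_mono (f ⁻¹ᵁ V.1).ι, Category.assoc, cone_fac, pullback.lift_fst]
        exact hb s V₀ V
      uniq := fun s m hm => by
        refine pullback.hom_ext ?_ ?_
        · rw [pullback.lift_fst, ← hm V₀, Category.assoc, cone_fac]
        · rw [pullback.lift_snd]
          refine specStalk_hom_ext y _ _ fun V => ?_
          rw [← cancel_mono V.2.1.fromSpec, Category.assoc _ _ V.2.1.fromSpec, Category.assoc _ _ V.2.1.fromSpec,
            ← fromSpecStalk_eq y V, (ha s).choose_spec V, Category.assoc, ← pullback.condition, ← hm V,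
            Category.assoc, Category.assoc, ← cone_fac f y V, Category.assoc] }⟩

instance isAffineHom_map {V W : Idx y} (h : V ⟶ W) : IsAffineHom ((diag f y).map h) := by
  haveI : IsAffine (V.1 : Scheme.{u}) := V.2.1
  haveI : IsAffine (W.1 : Scheme.{u}) := W.2.1
  have hVW : V.1 ≤ W.1 := leOfHom h
  have sq : IsPullback (X.homOfLE (f.preimage_mono hVW)) (f ∣_ V.1) (f ∣_ W.1) (Y.homOfLE hVW) := by
    refine IsPullback.of_right ?_ ?_ (isPullback_morphismRestrict f W.1).flip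
    · rw [X.homOfLE_ι, Y.homOfLE_ι]
      exact (isPullback_morphismRestrict f V.1).flip
    · rw [← cancel_mono W.1.ι, Category.assoc, Category.assoc, morphismRestrict_ι, Y.homOfLE_ι,
        Scheme.homOfLE_ι_assoc, morphismRestrict_ι]
  exact MorphismProperty.of_isPullback (P := @IsAffineHom) sq.flip inferInstance

end NearLimit

variable {X Y : Scheme.{u}}

/-- modules of finite presentation isomorphic over the local scheme are isomorphic near the point -/
theorem exists_iso_nhd_of_stalk_iso (f : X ⟶ Y) [QuasiCompact f] [QuasiSeparated f] (y : Y) (F G : X.Modules)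
    (hF : Coh.IsQCoh F) (hFp : CohB1.IsFP F) (hG : Coh.IsQCoh G) (hGp : CohB1.IsFP G)
    (e : (Scheme.Modules.pullback (pullback.fst f (Y.fromSpecStalk y))).obj F ≅
      (Scheme.Modules.pullback (pullback.fst f (Y.fromSpecStalk y))).obj G) :
    ∃ U : Y.Opens, y ∈ U ∧ Nonempty (F.restrict (f ⁻¹ᵁ U).ι ≅ G.restrict (f ⁻¹ᵁ U).ι) := by
  let V₀ : NearLimit.Idx y := Classical.arbitrary _
  let j₀ := (f ⁻¹ᵁ V₀.1).ι
  haveI : CompactSpace ↑((NearLimit.diag f y).obj V₀) :=
    isCompact_iff_compactSpace.1 (f.isCompact_preimage V₀.2.1.isCompact)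
  haveI : QuasiSeparatedSpace ↑((NearLimit.diag f y).obj V₀) := by
    haveI : IsAffine (V₀.1 : Scheme.{u}) := V₀.2.1
    exact quasiSeparatedSpace_of_quasiSeparated (f ∣_ V₀.1)
  haveI := hF
  haveI := hG
  let F₀ : ((NearLimit.diag f y).obj V₀).Modules := (Scheme.Modules.pullback j₀).obj F
  let G₀ : ((NearLimit.diag f y).obj V₀).Modules := (Scheme.Modules.pullback j₀).obj G
  haveI : Coh.IsQCoh F₀ := QC.isQCoh_pullback j₀ hF
  haveI : Coh.IsQCoh G₀ := QC.isQCoh_pullback j₀ hG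
  let κ := Scheme.Modules.pullbackComp ((NearLimit.cone f y).π.app V₀) j₀ ≪≫
    Scheme.Modules.pullbackCongr (NearLimit.cone_fac f y V₀)
  obtain ⟨V, φ, ⟨i⟩⟩ := (S4790.result (NearLimit.diag f y) (NearLimit.cone f y) (NearLimit.isLimit f y) V₀ F₀ G₀
    (ModDesc.isFP_pullback j₀ hF hFp) (ModDesc.isFP_pullback j₀ hG hGp)).1 ⟨κ.app F ≪≫ e ≪≫ (κ.app G).symm⟩
  let κ' := Scheme.Modules.pullbackComp ((NearLimit.diag f y).map φ) j₀ ≪≫
    Scheme.Modules.pullbackCongr (X.homOfLE_ι (f.preimage_mono (leOfHom φ))) ≪≫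
    (Scheme.Modules.restrictFunctorIsoPullback (f ⁻¹ᵁ V.1).ι).symm
  exact ⟨V.1, V.2.2, ⟨(κ'.app F).symm ≪≫ i ≪≫ κ'.app G⟩⟩

end Groth.Agent.W7Hull
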