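import Groth.Agent.W7Hull.Tilde
import Groth.Agent.W7InjStalk.Basic
import Groth.Agent.TorQC.Main
import Groth.Agent.KFlat.Pullback
import Groth.Agent.QC.Localisation
import Groth.Agent.InjHull.Matlis

/-!
Direct images of injective hulls of residue fields.
-/

set_option autoImplicit false
set_option backward.isDefEq.respectTransparency false
set_option linter.style.haveILetI false

universe u

open CategoryTheory CategoryTheory.Limits AlgebraicGeometry TopologicalSpace Opposite

noncomputable section

namespace Groth.Agent.W7Hull

/-- On the spectrum of a Noetherian local ring, the module of a torsion module sits in the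
skyscraper at the closed point. -/
theorem mono_toSky {R : CommRingCat.{u}} [IsLocalRing R] [IsNoetherianRing R] (E : ModuleCat.{u} R)
    [Module.Injective R E]
    (htors : ∀ x : E, ∃ n : ℕ, ∀ a ∈ IsLocalRing.maximalIdeal R ^ n, a • x = 0) :
    Mono ((KFlat.skyAdjunction (IsLocalRing.closedPoint R : Spec R)).unit.app (tilde E)) := by
  refine mono_of_stalk fun q => (injective_iff_map_eq_zero _).2 fun z hz => ?_
  let c : Spec R := IsLocalRing.closedPoint R
  by_cases hq : q = c
  · subst hq
    have h := (KFlat.skyAdjunction c).left_triangle_components (tilde E)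
    have hh := congrArg (fun (φ : (DerSch.stalkFunctor (Spec R) c).obj (tilde E) ⟶
      (DerSch.stalkFunctor (Spec R) c).obj (tilde E)) => φ.hom z) h
    refine hh.symm.trans ?_
    exact (congrArg ((KFlat.skyAdjunction c).counit.app _).hom hz).trans (map_zero _)
  · obtain ⟨y, rfl⟩ := gl_surjective q z
    obtain ⟨n, hn⟩ := htors y
    obtain ⟨b, hbm, hbq⟩ : ∃ b ∈ IsLocalRing.maximalIdeal R, b ∉ q.asIdeal := by
      by_contra! hle
      exact hq (PrimeSpectrum.ext (le_antisymm (IsLocalRing.le_maximalIdeal q.isPrime.ne_top) hle))
    exact (isUnit_toSt (p := q) fun h => hbq (q.isPrime.mem_of_pow_mem n h)).smul_left_cancel.1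
      (by rw [← gl_smul, hn (b ^ n) (Ideal.pow_mem_pow hbm n), gl_zero, smul_zero])

theorem injective_pushforward_hull {X : Scheme.{u}} [IsLocallyNoetherian X] (x : X)
    (E : ModuleCat.{u} (X.presheaf.stalk x)) [Module.Injective (X.presheaf.stalk x) E]
    (htors : ∀ y : E, ∃ n : ℕ, ∀ a ∈ IsLocalRing.maximalIdeal (X.presheaf.stalk x) ^ n, a • y = 0) :
    Injective ((Scheme.Modules.pushforward (X.fromSpecStalk x)).obj (tilde E)) := by
  let s := X.fromSpecStalk x
  let c : Spec (X.presheaf.stalk x) := IsLocalRing.closedPoint (X.presheaf.stalk x)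
  haveI : Injective (tilde E) := injective_tilde E
  haveI := mono_toSky E htors
  let N := (DerSch.stalkFunctor (Spec (X.presheaf.stalk x)) c).obj (tilde E)
  haveI : Module.Injective ((Spec (X.presheaf.stalk x)).presheaf.stalk c) N :=
    W7InjStalk.injective_stalk (tilde E) c
  haveI : Injective N := Module.injective_object_of_injective_module ((Spec (X.presheaf.stalk x)).presheaf.stalk c) N
  let η := (KFlat.skyAdjunction c).unit.app (tilde E)
  have hs : Injective ((Scheme.Modules.pushforward s).obj ((KFlat.sky c).obj N)) := by
    haveI := TorQC.isIso_stalkMap_fromSpecStalk x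
    haveI := ModuleCat.restrictScalars_isEquivalence_of_ringEquiv (asIso (s.stalkMap c)).commRingCatIsoToRingEquiv
    haveI : Injective ((ModuleCat.restrictScalars (s.stalkMap c).hom).obj N) :=
      Injective.injective_of_adjoint
        (ModuleCat.restrictScalars (asIso (s.stalkMap c)).commRingCatIsoToRingEquiv.toRingHom).asEquivalence.symm.toAdjunction N
    exact Injective.of_iso (KFlat.skyPushIso s c N)
      (Injective.injective_of_adjoint (KFlat.skyAdjunction (s.base c)) _)
  haveI := hs
  let r : Retract ((Scheme.Modules.pushforward s).obj (tilde E))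
      ((Scheme.Modules.pushforward s).obj ((KFlat.sky c).obj N)) := ⟨(Scheme.Modules.pushforward s).map η,
    (Scheme.Modules.pushforward s).map (Injective.factorThru (𝟙 (tilde E)) η), by
      rw [← Functor.map_comp, Injective.comp_factorThru, CategoryTheory.Functor.map_id]⟩
  exact Retract.injective r

end Groth.Agent.W7Hull
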