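import Groth.Agent.W7Hull.Noeth
import Groth.Agent.W7Baer.Local

/-!
Direct sums of injective modules on a locally Noetherian scheme are injective.
-/

set_option autoImplicit false
set_option backward.isDefEq.respectTransparency false
set_option linter.style.haveILetI false

universe u

open CategoryTheory CategoryTheory.Limits AlgebraicGeometry TopologicalSpace Opposite

noncomputable section

namespace Groth.Agent.W7Hull

variable {X : Scheme.{u}}

/-- Extensions by zero from affine opens detect isomorphisms. -/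
lemma detects_affine : W7Baer.Detects (fun V : X.affineOpens => CxOX.extZeroUnit V.1.ι) := by
  intro M N p _ hp
  have hsec : ∀ V : X.affineOpens, Function.Surjective (p.app V.1) := fun V t => by
    let co := W7ExtZero.extZeroUnitCorep V.1
    obtain ⟨f, hf⟩ := (co.homEquiv (Y := N)).surjective t
    obtain ⟨a, ha⟩ := hp V f
    exact ⟨co.homEquiv a, ((co.homEquiv_comp p a).symm.trans (congrArg co.homEquiv ha)).trans hf⟩
  haveI : Epi p := epi_of_stalk fun x z => by
    obtain ⟨W, hW, t, rfl⟩ := TopCat.Presheaf.exists_germ_eq N.presheaf z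
    obtain ⟨V, hV, hxV, hVW⟩ := exists_isAffineOpen_mem_and_subset hW
    obtain ⟨a, ha⟩ := hsec ⟨V, hV⟩ (N.presheaf.map (homOfLE hVW).op t)
    refine ⟨M.presheaf.germ V x hxV a, ?_⟩
    rw [st_germ, ha]
    exact TopCat.Presheaf.germ_res_apply N.presheaf _ x hxV t
  exact isIso_of_mono_of_epi p

variable {ι : Type u} (I : ι → X.Modules)

open scoped Classical in
/-- kills the summands in `F` -/
def killFin (F : Finset ι) : (∐ I) ⟶ ∐ I := Sigma.desc fun i => if i ∈ F then 0 else Sigma.ι I i

open scoped Classical in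
lemma ι_killFin (F : Finset ι) (i : ι) :
    Sigma.ι I i ≫ killFin I F = if i ∈ F then 0 else Sigma.ι I i := Sigma.ι_desc _ _

lemma killFin_comp {F F' : Finset ι} (h : F ⊆ F') : killFin I F ≫ killFin I F' = killFin I F' := by
  refine Sigma.hom_ext _ _ fun i => ?_
  rw [← Category.assoc, ι_killFin]
  by_cases hi : i ∈ F
  · rw [if_pos hi, zero_comp, ι_killFin, if_pos (h hi)]
  · rw [if_neg hi]

open scoped Classical in
/-- projection to a summand -/
def projTo (i : ι) : (∐ I) ⟶ I i :=
  Sigma.desc fun k => if h : k = i then eqToHom (congrArg I h) else 0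

open scoped Classical in
lemma id_eq (F : Finset ι) : killFin I F + ∑ i ∈ F, projTo I i ≫ Sigma.ι I i = 𝟙 (∐ I) := by
  refine Sigma.hom_ext _ _ fun k => ?_
  rw [Preadditive.comp_add, Preadditive.comp_sum, ι_killFin, Category.comp_id]
  have h : ∀ i, Sigma.ι I k ≫ projTo I i ≫ Sigma.ι I i = if k = i then Sigma.ι I k else 0 := fun i => by
    rw [← Category.assoc, projTo, Sigma.ι_desc]
    by_cases h : k = i
    · subst h
      simp
    · rw [dif_neg h, if_neg h, zero_comp]
  simp only [h, Finset.sum_ite_eq]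
  by_cases hk : k ∈ F <;> simp [hk]

/-- Every element of the stalk of a direct sum comes from finitely many summands. -/
lemma exists_killFin_eq_zero (x : X) (z : (∐ I : X.Modules).presheaf.stalk x) :
    ∃ F : Finset ι, st (killFin I F) x z = 0 := by
  classical
  let P : Submodule (X.presheaf.stalk x) ((∐ I : X.Modules).presheaf.stalk x) :=
    ⨆ F : Finset ι, LinearMap.ker (st (killFin I F) x)
  have hmono : Monotone fun F : Finset ι => LinearMap.ker (st (killFin I F) x) := fun F F' h w hw => by
    rw [LinearMap.mem_ker] at hw ⊢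
    rw [← killFin_comp I h, st_comp, hw, map_zero]
  have h0 : ModuleCat.ofHom P.mkQ = (0 : (DerSch.stalkFunctor X x).obj (∐ I) ⟶ ModuleCat.of _ (_ ⧸ P)) := by
    refine (isColimitOfHasCoproductOfPreservesColimit (DerSch.stalkFunctor X x) I).hom_ext fun ⟨i⟩ => ?_
    simp only [Cofan.mk_pt, Cofan.mk_ι_app, comp_zero]
    ext v
    refine (Submodule.Quotient.mk_eq_zero P).2 (Submodule.mem_iSup_of_mem {i} ?_)
    change st (killFin I {i}) x (st (Sigma.ι I i) x v) = 0
    rw [← st_comp, ι_killFin, if_pos (Finset.mem_singleton_self i), st_zero]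
  exact (Submodule.mem_iSup_of_directed _ hmono.directed_le).1
    ((Submodule.Quotient.mk_eq_zero P).1 (LinearMap.congr_fun (congrArg ModuleCat.Hom.hom h0) z))

/-- Morphisms from a subobject of a Noetherian object land in finitely many summands. -/
lemma exists_finite_factor {L : X.Modules}
    (hL : ∀ c : ℕ →o Subobject L, ∃ n : ℕ, ∀ m : ℕ, n ≤ m → c n = c m) (S : Subobject L)
    (g : (S : X.Modules) ⟶ ∐ I) : ∃ F : Finset ι, g ≫ killFin I F = 0 := by
  classical
  haveI : WellFoundedGT (Subobject L) := wellFoundedGT_iff_monotone_chain_condition.2 hL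
  let K : Finset ι → Subobject L := fun F => Subobject.mk (kernel.ι (g ≫ killFin I F) ≫ S.arrow)
  obtain ⟨_, ⟨F, rfl⟩, hF⟩ := (wellFounded_gt (α := Subobject L)).has_min (Set.range K)
    (Set.range_nonempty K)
  refine ⟨F, eq_zero_of_stalk fun x z => ?_⟩
  obtain ⟨F', hF'⟩ := exists_killFin_eq_zero I x (st g x z)
  have hle : K F ≤ K (F ∪ F') := Subobject.mk_le_mk_of_comm
    (kernel.lift _ (kernel.ι (g ≫ killFin I F)) (by
      rw [← killFin_comp I (Finset.subset_union_left : F ⊆ F ∪ F'), ← Category.assoc g,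
        kernel.condition_assoc, zero_comp]))
    (by rw [← Category.assoc, kernel.lift_ι])
  have heq : K (F ∪ F') = K F := (hle.lt_or_eq.resolve_left (hF _ ⟨_, rfl⟩)).symm
  have hz : st (g ≫ killFin I (F ∪ F')) x z = 0 := by
    rw [← killFin_comp I (Finset.subset_union_right : F' ⊆ F ∪ F'), st_comp, st_comp, hF', map_zero]
  obtain ⟨w, rfl⟩ := st_exact_kernel _ x z hz
  have hm : st S.arrow x (st (kernel.ι (g ≫ killFin I (F ∪ F'))) x w) ∈ stImg (K F) x := by
    rw [← heq]
    change _ ∈ stImg (Subobject.mk (kernel.ι (g ≫ killFin I (F ∪ F')) ≫ S.arrow)) x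
    rw [stImg_mk]
    exact ⟨w, st_comp _ _ x w⟩
  rw [stImg_mk] at hm
  obtain ⟨v, hv⟩ := hm
  rw [st_comp] at hv
  rw [← st_injective S.arrow x hv, ← st_comp, kernel.condition, st_zero]

/-- Coproducts of injective modules on a locally Noetherian scheme are injective. -/
theorem injective_coprod [IsLocallyNoetherian X] (hI : ∀ j, Injective (I j)) : Injective (∐ I) := by
  classical
  haveI := hI
  rcases isEmpty_or_nonempty X with hX | hX
  · have hz : IsZero (∐ I) := W7Baer.isZero_of_stalks _ fun x => hX.elim x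
    exact ⟨fun g f _ => ⟨0, hz.eq_of_tgt _ _⟩⟩
  obtain ⟨x⟩ := hX
  obtain ⟨V, hV, -, -⟩ := exists_isAffineOpen_mem_and_subset (Opens.mem_top x)
  haveI : Nonempty X.affineOpens := ⟨⟨V, hV⟩⟩
  refine W7Baer.injective_of_family detects_affine (∐ I) fun V S g => ?_
  haveI : IsAffine V.1.toScheme := V.2
  obtain ⟨F, hF⟩ := exists_finite_factor I (acc_extZeroUnit V.1.ι) S g
  refine ⟨∑ i ∈ F, Injective.factorThru (g ≫ projTo I i) S.arrow ≫ Sigma.ι I i, ?_⟩
  rw [Preadditive.comp_sum]
  simp only [← Category.assoc, Injective.comp_factorThru]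
  have h := congrArg (fun t => g ≫ t) (id_eq I F)
  simp only [Preadditive.comp_add, hF, zero_add, Preadditive.comp_sum, Category.comp_id,
    ← Category.assoc] at h
  exact h

end Groth.Agent.W7Hull
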