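import Groth.Agent.W7Hull.Sub
import Groth.Prelude.Def_CxOX

/-!
Extensions by zero of structure modules of affine opens are Noetherian objects.
-/

set_option autoImplicit false
set_option backward.isDefEq.respectTransparency false
set_option linter.style.haveILetI false

universe u

open CategoryTheory CategoryTheory.Limits AlgebraicGeometry TopologicalSpace Opposite

noncomputable section

namespace Groth.Agent.W7Hull

section Gen

variable {U X : Scheme.{u}} (j : U ⟶ X) [IsOpenImmersion j]

/-- the tautological section of `j_! O_U` -/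
def oneSec : Γ(CxOX.extZeroUnit j, j ''ᵁ ⊤) :=
  ((SheafOfModules.unitHomEquiv ((Scheme.Modules.restrictFunctor j).obj (CxOX.extZeroUnit j)))
    ((CxOX.extZeroAdj j).unit.app (Coh.structureModule U))).val (op ⊤)

/-- A map out of `j_! O_U` killing the tautological section is zero. -/
lemma eq_zero_of_oneSec {N : X.Modules} (π : CxOX.extZeroUnit j ⟶ N)
    (h : π.app (j ''ᵁ ⊤) (oneSec j) = 0) : π = 0 := by
  apply ((CxOX.extZeroAdj j).homEquiv _ _).injective
  apply (SheafOfModules.unitHomEquiv ((Scheme.Modules.restrictFunctor j).obj N)).injective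
  refine Subtype.ext (funext fun W => ?_)
  have hW : ∀ φ : Coh.structureModule U ⟶ (Scheme.Modules.restrictFunctor j).obj N,
      ((SheafOfModules.unitHomEquiv ((Scheme.Modules.restrictFunctor j).obj N)) φ).val W =
        ((Scheme.Modules.restrictFunctor j).obj N).presheaf.map (homOfLE (le_top : W.unop ≤ ⊤)).op
          (((SheafOfModules.unitHomEquiv ((Scheme.Modules.restrictFunctor j).obj N)) φ).val (op ⊤)) := fun φ =>
    (((SheafOfModules.unitHomEquiv ((Scheme.Modules.restrictFunctor j).obj N)) φ).property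
      (homOfLE (le_top : W.unop ≤ ⊤)).op).symm
  rw [hW, hW]
  refine congrArg _ ?_
  rw [Adjunction.homEquiv_unit, Adjunction.homEquiv_unit, Functor.map_zero, comp_zero]
  exact h.trans rfl

/-- Stalks of `j_! O_U` are generated by the tautological section. -/
lemma stalk_gen (y : X) (z : (CxOX.extZeroUnit j).presheaf.stalk y) :
    z ∈ ⨆ hy : y ∈ j ''ᵁ ⊤, Submodule.span (X.presheaf.stalk y)
      {(CxOX.extZeroUnit j).presheaf.germ (j ''ᵁ ⊤) y hy (oneSec j)} := by
  let N : ∀ y : X, Submodule (X.presheaf.stalk y) ((CxOX.extZeroUnit j).presheaf.stalk y) := fun y =>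
    ⨆ hy : y ∈ j ''ᵁ ⊤, Submodule.span _ {(CxOX.extZeroUnit j).presheaf.germ (j ''ᵁ ⊤) y hy (oneSec j)}
  have hπ : cokernel.π (subObj N).arrow = 0 := eq_zero_of_oneSec j _ (section_ext _ _ fun x hx => by
    obtain ⟨w, hw⟩ := germ_mem_subObj N (oneSec j)
      (fun x hx => Submodule.mem_iSup_of_mem hx (Submodule.mem_span_singleton_self _)) x hx
    rw [← st_germ, ← hw, ← st_comp, cokernel.condition, st_zero, map_zero])
  exact stImg_subObj_le N y (st_exact_cokernel _ y z (by rw [hπ, st_zero]))

end Gen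

variable {X : Scheme.{u}}

/-- Ascending chain condition for submodules of a module generated by one section over an affine open. -/
theorem acc_of_generated {V : X.Opens} (hV : IsAffineOpen V) [IsNoetherianRing Γ(X, V)] {M : X.Modules}
    (e : Γ(M, V))
    (hgen : ∀ y z, z ∈ ⨆ hy : y ∈ V, Submodule.span (X.presheaf.stalk y) {M.presheaf.germ V y hy e})
    (c : ℕ →o Subobject M) : ∃ n : ℕ, ∀ m : ℕ, n ≤ m → c n = c m := by
  -- the ideal of a subobject at a point
  let I : Subobject M → ∀ y : X, y ∈ V → Ideal Γ(X, V) := fun S y hy =>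
    { carrier := {a | X.presheaf.germ V y hy a • M.presheaf.germ V y hy e ∈ stImg S y}
      add_mem' := fun {a b} ha hb => by
        change X.presheaf.germ V y hy (a + b) • M.presheaf.germ V y hy e ∈ stImg S y
        rw [map_add, add_smul]; exact add_mem ha hb
      zero_mem' := by
        change X.presheaf.germ V y hy 0 • M.presheaf.germ V y hy e ∈ stImg S y
        rw [map_zero, zero_smul]; exact zero_mem _
      smul_mem' := fun r a ha => by
        change X.presheaf.germ V y hy (r * a) • M.presheaf.germ V y hy e ∈ stImg S y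
        rw [map_mul, mul_smul]; exact Submodule.smul_mem _ _ ha }
  have Imono : ∀ {S T : Subobject M}, S ≤ T → ∀ y hy, I S y hy ≤ I T y hy :=
    fun h y hy a ha => stImg_mono h y ha
  -- elements of the ideal spread to a neighbourhood
  have hspread : ∀ (S : Subobject M) (y : X) (hy : y ∈ V) (a : Γ(X, V)), a ∈ I S y hy →
      ∃ W : X.Opens, y ∈ W ∧ ∃ hW : W ≤ V, ∀ (q : X) (hq : q ∈ W), a ∈ I S q (hW hq) := by
    rintro S y hy a ⟨w, hw⟩
    rw [← Mero.germ_smul M V y hy] at hw
    obtain ⟨B, hyB, b, rfl⟩ := TopCat.Presheaf.exists_germ_eq (S : X.Modules).presheaf w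
    rw [st_germ] at hw
    obtain ⟨W, hyW, i₁, i₂, h⟩ := TopCat.Presheaf.germ_eq M.presheaf y hyB hy _ _ hw
    refine ⟨W, hyW, i₂.le, fun q hq => ⟨(S : X.Modules).presheaf.germ B q (i₁.le hq) b, ?_⟩⟩
    rw [st_germ, ← Mero.germ_smul M V q (i₂.le hq), ← TopCat.Presheaf.germ_res_apply M.presheaf i₁ q hq,
      ← TopCat.Presheaf.germ_res_apply M.presheaf i₂ q hq, h]
  -- uniform bound on a closed subset
  have key : ∀ J : Ideal Γ(X, V), ∃ n : ℕ, ∀ (y : X) (hy : y ∈ V), (∀ a ∈ J, y ∉ X.basicOpen a) →
      ∀ m, n ≤ m → I (c m) y hy ≤ I (c n) y hy := by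
    intro J
    induction J using WellFoundedGT.induction with
    | ind J ih =>
      by_cases hJ : J = ⊤
      · exact ⟨0, fun y hy h => absurd (by rw [X.basicOpen_of_isUnit isUnit_one]; exact hy)
          (h 1 (hJ ▸ trivial))⟩
      by_cases hp : J.IsPrime
      · let p : PrimeSpectrum Γ(X, V) := ⟨J, hp⟩
        let xp : X := hV.fromSpec p
        have hmem : ∀ (q : PrimeSpectrum Γ(X, V)) (a : Γ(X, V)),
            hV.fromSpec q ∈ X.basicOpen a ↔ a ∉ q.asIdeal := fun q a => by
          change q ∈ hV.fromSpec ⁻¹ᵁ X.basicOpen a ↔ _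
          rw [hV.fromSpec_preimage_basicOpen]
          exact Iff.rfl
        have hxp : xp ∈ V := SetLike.mem_coe.1 (hV.range_fromSpec.subset (Set.mem_range_self p))
        obtain ⟨n, hn⟩ := monotone_stabilizes_iff_noetherian.2
          (inferInstance : IsNoetherian Γ(X, V) Γ(X, V))
          ⟨fun m => I (c m) xp hxp, fun m m' h => Imono (c.monotone h) xp hxp⟩
        obtain ⟨k, g, hg⟩ := Submodule.fg_iff_exists_fin_generating_family.mp
          (IsNoetherian.noetherian (I (c n) xp hxp))
        choose W hxW hWV hW using fun i => hspread (c n) xp hxp (g i)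
          (hg ▸ Submodule.subset_span ⟨i, rfl⟩)
        let W₀ : X.Opens := V ⊓ ⟨_, isOpen_iInter_of_finite fun i => (W i).2⟩
        obtain ⟨f, hfW, hpf⟩ := hV.exists_basicOpen_le (V := W₀) ⟨xp, hxp, Set.mem_iInter.2 hxW⟩ hxp
        have hfJ : f ∉ J := (hmem p f).1 hpf
        obtain ⟨n', hn'⟩ := ih (J ⊔ Ideal.span {f}) (lt_of_le_of_ne le_sup_left fun h =>
          hfJ (h ▸ Ideal.mem_sup_right (Ideal.mem_span_singleton_self f)))
        refine ⟨max n n', fun y hy hyJ m hm => ?_⟩
        by_cases hyf : y ∈ X.basicOpen f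
        · refine le_trans ?_ (Imono (c.monotone (le_max_left n n')) y hy)
          obtain ⟨q, rfl⟩ : y ∈ Set.range hV.fromSpec := hV.range_fromSpec.symm ▸ hy
          have hJq : J ≤ q.asIdeal := fun a ha => by_contra fun h => hyJ a ha ((hmem q a).2 h)
          have hs : xp ⤳ hV.fromSpec q :=
            ((PrimeSpectrum.le_iff_specializes p q).1 hJq).map hV.fromSpec.continuous
          intro a ha
          have h1 : a ∈ I (c m) xp hxp := by
            obtain ⟨W', hqW', hW'V, hW'⟩ := hspread (c m) _ hy a ha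
            exact hW' xp (hs.mem_open W'.2 hqW')
          rw [show I (c m) xp hxp = I (c n) xp hxp from (hn m ((le_max_left n n').trans hm)).symm] at h1
          rw [← hg] at h1
          refine (Submodule.span_le.2 ?_ : Submodule.span _ (Set.range g) ≤ I (c n) _ hy) h1
          rintro _ ⟨i, rfl⟩
          exact hW i _ (Set.mem_iInter.1 (hfW hyf).2 i)
        · refine le_trans (hn' y hy ?_ m ((le_max_right n n').trans hm))
            (Imono (c.monotone (le_max_right n n')) y hy)
          intro a ha hya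
          obtain ⟨b, hb, d, hd, rfl⟩ := Submodule.mem_sup.1 ha
          obtain ⟨r, rfl⟩ := Ideal.mem_span_singleton'.1 hd
          have := (X.basicOpen_add_le b (r * f)) hya
          rcases this with h | h
          · exact hyJ b hb h
          · rw [X.basicOpen_mul] at h
            exact hyf h.2
      · obtain ⟨a, b, hab, ha, hb⟩ : ∃ a b, a * b ∈ J ∧ a ∉ J ∧ b ∉ J := by
          simp only [Ideal.isPrime_iff, hJ, ne_eq, not_false_eq_true, true_and, not_forall, not_or] at hp
          obtain ⟨a, b, hab, ha, hb⟩ := hp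
          exact ⟨a, b, hab, ha, hb⟩
        obtain ⟨n₁, h₁⟩ := ih (J ⊔ Ideal.span {a}) (lt_of_le_of_ne le_sup_left fun h =>
          ha (h ▸ Ideal.mem_sup_right (Ideal.mem_span_singleton_self a)))
        obtain ⟨n₂, h₂⟩ := ih (J ⊔ Ideal.span {b}) (lt_of_le_of_ne le_sup_left fun h =>
          hb (h ▸ Ideal.mem_sup_right (Ideal.mem_span_singleton_self b)))
        refine ⟨max n₁ n₂, fun y hy hyJ m hm => ?_⟩
        have hcl : ∀ d : Γ(X, V), y ∉ X.basicOpen d → ∀ x ∈ J ⊔ Ideal.span {d}, y ∉ X.basicOpen x := by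
          intro d hyd x hx hyx
          obtain ⟨b', hb', d', hd', rfl⟩ := Submodule.mem_sup.1 hx
          obtain ⟨r, rfl⟩ := Ideal.mem_span_singleton'.1 hd'
          rcases (X.basicOpen_add_le b' (r * d)) hyx with h | h
          · exact hyJ b' hb' h
          · rw [X.basicOpen_mul] at h
            exact hyd h.2
        by_cases hya : y ∈ X.basicOpen a
        · refine le_trans (h₂ y hy (hcl b fun hyb => hyJ _ hab (by rw [X.basicOpen_mul]; exact ⟨hya, hyb⟩))
            m ((le_max_right _ _).trans hm)) (Imono (c.monotone (le_max_right _ _)) y hy)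
        · exact le_trans (h₁ y hy (hcl a hya) m ((le_max_left _ _).trans hm))
            (Imono (c.monotone (le_max_left _ _)) y hy)
  obtain ⟨n, hn⟩ := key ⊥
  refine ⟨n, fun m hm => le_antisymm (c.monotone hm) (le_of_stImg fun y z hz => ?_)⟩
  have hzg := hgen y z
  by_cases hy : y ∈ V
  · rw [iSup_pos hy] at hzg
    obtain ⟨d, rfl⟩ := Submodule.mem_span_singleton.1 hzg
    letI := TopCat.Presheaf.algebra_section_stalk X.presheaf (U := V) ⟨y, hy⟩
    have hloc : IsLocalization (hV.primeIdealOf ⟨y, hy⟩).asIdeal.primeCompl (X.presheaf.stalk y) :=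
      hV.isLocalization_stalk ⟨y, hy⟩
    obtain ⟨⟨a, t⟩, hat⟩ := @IsLocalization.surj _ _ _ _ _ _ hloc d
    have ha : a ∈ I (c m) y hy := by
      change X.presheaf.germ V y hy a • M.presheaf.germ V y hy e ∈ stImg (c m) y
      rw [show X.presheaf.germ V y hy a = algebraMap Γ(X, V) (X.presheaf.stalk y) t * d from
        hat.symm.trans (mul_comm _ _), mul_smul]
      exact Submodule.smul_mem _ _ hz
    have h0 := hn y hy (fun x hx => by
      rw [(Submodule.mem_bot _).1 hx, X.basicOpen_zero]; exact id) m hm ha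
    change X.presheaf.germ V y hy a • M.presheaf.germ V y hy e ∈ stImg (c n) y at h0
    rw [show X.presheaf.germ V y hy a = algebraMap Γ(X, V) (X.presheaf.stalk y) t * d from
      hat.symm.trans (mul_comm _ _), mul_smul] at h0
    obtain ⟨u, hu⟩ := @IsLocalization.map_units _ _ _ (X.presheaf.stalk y) _ _ hloc t
    rw [← hu] at h0
    simpa [smul_smul] using Submodule.smul_mem _ (↑u⁻¹ : X.presheaf.stalk y) h0
  · rw [iSup_neg hy, Submodule.mem_bot] at hzg
    rw [hzg]
    exact zero_mem _

/-- `j_! O_U` is Noetherian for affine `U`. -/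
theorem acc_extZeroUnit {U : Scheme.{u}} [IsLocallyNoetherian X] [IsAffine U] (j : U ⟶ X)
    [IsOpenImmersion j] (c : ℕ →o Subobject (CxOX.extZeroUnit j)) :
    ∃ n : ℕ, ∀ m : ℕ, n ≤ m → c n = c m := by
  have hV : IsAffineOpen (j ''ᵁ ⊤) := (isAffineOpen_top U).image_of_isOpenImmersion j
  haveI : IsNoetherianRing Γ(X, j ''ᵁ ⊤) := IsLocallyNoetherian.component_noetherian ⟨_, hV⟩
  exact acc_of_generated hV (oneSec j) (stalk_gen j) c

end Groth.Agent.W7Hull
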