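import Groth.Agent.W7Hull.Hull
import Groth.Agent.W7Hull.Coprod

/-!
Injective modules on a locally Noetherian scheme decompose into indecomposables.
-/

set_option autoImplicit false
set_option backward.isDefEq.respectTransparency false
set_option linter.style.haveILetI false

universe u

open CategoryTheory CategoryTheory.Limits AlgebraicGeometry TopologicalSpace Opposite

noncomputable section

namespace Groth.Agent.W7Hull

variable {X : Scheme.{u}}

/-- No two nonzero subobjects are disjoint. -/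
def Uniform {M : X.Modules} (C : Subobject M) : Prop :=
  C ≠ ⊥ ∧ ∀ C₁ C₂ : Subobject M, C₁ ≤ C → C₂ ≤ C → C₁ ⊓ C₂ = ⊥ → C₁ = ⊥ ∨ C₂ = ⊥

lemma stImg_sup {M : X.Modules} (S T : Subobject M) (x : X) :
    stImg (S ⊔ T) x = stImg S x ⊔ stImg T x := by
  refine le_antisymm ?_ (sup_le (stImg_mono le_sup_left x) (stImg_mono le_sup_right x))
  let f : ULift.{u} Bool → Subobject M := fun b => bif b.down then S else T
  have h : S ⊔ T ≤ ⨆ b, f b := sup_le (le_iSup f ⟨true⟩) (le_iSup f ⟨false⟩)
  refine (stImg_mono h x).trans ?_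
  rw [stImg_iSup]
  exact iSup_le fun ⟨b⟩ => by cases b <;> simp [f]

lemma exists_uniform_subobject {M : X.Modules} [WellFoundedGT (Subobject M)] (hM : ¬ IsZero M) :
    ∃ C : Subobject M, Uniform C := by
  have hne : (⊥ : Subobject M) ≠ ⊤ := fun h => hM ((IsZero.iff_id_eq_zero M).2
    (eq_zero_of_stalk fun x z => by
      have hz : z ∈ stImg (⊤ : Subobject M) x := by
        rw [Subobject.top_eq_id, stImg_mk]; exact ⟨z, st_id x z⟩
      rw [← h, stImg_bot, Submodule.mem_bot] at hz
      rw [st_id, hz]))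
  let s : Set (Subobject M) := {B | ∃ C, C ≠ ⊥ ∧ B ⊓ C = ⊥}
  obtain ⟨B, ⟨C, hC0, hBC⟩, hB⟩ := (wellFounded_gt (α := Subobject M)).has_min s
    ⟨⊥, ⊤, hne.symm, bot_inf_eq _⟩
  refine ⟨C, hC0, fun C₁ C₂ h₁ h₂ h12 => ?_⟩
  by_contra! hne12
  have hmem : B ⊔ C₁ ∈ s := ⟨C₂, hne12.2, eq_bot_of_stImg fun x z hz => by
    rw [stImg_inf, stImg_sup] at hz
    obtain ⟨b, hb, c, hc, rfl⟩ := Submodule.mem_sup.1 hz.1
    have hbC : b ∈ stImg (B ⊓ C) x := by
      rw [stImg_inf]
      refine ⟨hb, ?_⟩
      have := Submodule.sub_mem _ (stImg_mono h₂ x hz.2) (stImg_mono h₁ x hc)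
      simpa using this
    rw [hBC, stImg_bot, Submodule.mem_bot] at hbC
    subst hbC
    rw [zero_add] at hz ⊢
    have hm : c ∈ stImg (C₁ ⊓ C₂) x := (stImg_inf C₁ C₂ x).symm ▸ ⟨hc, hz.2⟩
    rwa [h12, stImg_bot] at hm⟩
  refine hB _ hmem (lt_of_le_not_ge le_sup_left fun hle => hne12.1 (eq_bot_of_stImg fun x z hz => ?_))
  have hm : z ∈ stImg (B ⊓ C) x := (stImg_inf B C x).symm ▸
    ⟨stImg_mono (le_sup_right.trans hle) x hz, stImg_mono h₁ x hz⟩
  rwa [hBC, stImg_bot] at hm

/-- indecomposable injective -/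
def IndecInj (J : X.Modules) : Prop :=
  Injective J ∧ ¬ IsZero J ∧ ∀ A B : X.Modules, Nonempty (J ≅ A ⊞ B) → IsZero A ∨ IsZero B

/-- A nonzero injective module on a locally Noetherian scheme has an indecomposable injective
submodule. -/
lemma exists_indecInj [IsLocallyNoetherian X] (K : X.Modules) [Injective K] (hK : ¬ IsZero K) :
    ∃ (J : X.Modules) (f : J ⟶ K), Mono f ∧ IndecInj J := by
  obtain ⟨V, a, ha⟩ : ∃ (V : X.affineOpens) (a : CxOX.extZeroUnit V.1.ι ⟶ K), a ≠ 0 := by
    by_contra! h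
    obtain ⟨Z, hZ⟩ := HasZeroObject.zero (C := X.Modules)
    haveI := detects_affine (0 : Z ⟶ K) (hZ.mono _)
      (fun V f => ⟨0, by rw [h V f, comp_zero]⟩)
    exact hK (IsZero.of_iso hZ (asIso (0 : Z ⟶ K)).symm)
  haveI : IsAffine V.1.toScheme := V.2
  let L := CxOX.extZeroUnit V.1.ι
  let M := Abelian.image a
  haveI hwf : WellFoundedGT (Subobject L) :=
    wellFoundedGT_iff_monotone_chain_condition.2 (acc_extZeroUnit V.1.ι)
  let q := Abelian.factorThruImage a
  haveI : WellFoundedGT (Subobject M) := by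
    refine StrictMono.wellFoundedGT (f := fun S : Subobject M => kernelSubobject (q ≫ cokernel.π S.arrow)) ?_
    refine Monotone.strictMono_of_injective (fun S T h => ?_) (fun S T h => ?_)
    · refine le_kernelSubobject _ _ ?_
      have e : cokernel.π S.arrow ≫ cokernel.desc S.arrow (cokernel.π T.arrow)
          (by rw [← Subobject.ofLE_arrow h, Category.assoc, cokernel.condition, comp_zero]) =
          cokernel.π T.arrow := cokernel.π_desc _ _ _
      rw [← e, ← Category.assoc q, kernelSubobject_arrow_comp_assoc, zero_comp]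
    · have key : ∀ S T : Subobject M,
          kernelSubobject (q ≫ cokernel.π S.arrow) ≤ kernelSubobject (q ≫ cokernel.π T.arrow) → S ≤ T :=
        fun S T h => le_of_stImg fun x z hz => by
          obtain ⟨w, rfl⟩ := (ModuleCat.epi_iff_surjective _).1
            (Functor.map_epi (DerSch.stalkFunctor X x) q) z
          obtain ⟨v, hv⟩ := hz
          obtain ⟨k, hk⟩ := st_exact_kernel (q ≫ cokernel.π S.arrow) x w (by
            rw [st_comp, show st q x w = st S.arrow x v from hv.symm, ← st_comp, cokernel.condition, st_zero])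
          have hw : w ∈ stImg (kernelSubobject (q ≫ cokernel.π S.arrow)) x := by
            refine ⟨st (kernelSubobjectIso _).inv x k, ?_⟩
            rw [← st_comp, ← hk]
            simp
          obtain ⟨t, ht⟩ := stImg_mono h x hw
          refine st_exact_cokernel _ x _ ?_
          change st (cokernel.π T.arrow) x (st q x w) = 0
          rw [← st_comp, ← ht, ← st_comp, kernelSubobject_arrow_comp, st_zero]
      exact le_antisymm (key S T h.le) (key T S h.ge)
  obtain ⟨C, hC0, hC⟩ := exists_uniform_subobject (M := M) fun h =>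
    ha (by rw [← Abelian.image.fac a, h.eq_of_src (Abelian.image.ι a) 0, comp_zero])
  let c : (C : X.Modules) ⟶ K := C.arrow ≫ Abelian.image.ι a
  haveI : Mono c := mono_comp _ _
  obtain ⟨A, j, hj, hA, hess⟩ := exists_hull_aux c
  refine ⟨A, A.arrow, inferInstance, hA, fun h => hC0 ?_, fun P Q ⟨e⟩ => ?_⟩
  · refine eq_bot_of_stImg fun x z hz => ?_
    obtain ⟨w, rfl⟩ := hz
    have h0 : st c x w = 0 := by rw [← hj, h.eq_of_src A.arrow 0, comp_zero, st_zero]
    rw [st_injective c x (h0.trans (map_zero _).symm), map_zero]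
    exact Submodule.zero_mem _
  -- subobjects of a summand cannot be disjoint from the other
  have hpart : ∀ {P : X.Modules} (f : P ⟶ A) [Mono f], ¬ IsZero P → ∃ C₁ : Subobject M, C₁ ≤ C ∧ C₁ ≠ ⊥ ∧
      ∀ x, ∀ z ∈ stImg C₁ x, st (Abelian.image.ι a) x z ∈ LinearMap.range (st (f ≫ A.arrow) x) := by
    intro P f _ hP
    let B := Subobject.mk (f ≫ A.arrow)
    let g := c ≫ cokernel.π B.arrow
    let C₁ := Subobject.mk (kernel.ι g ≫ C.arrow)
    refine ⟨C₁, Subobject.mk_le_of_comm (kernel.ι g) rfl, fun h0 => hP ?_, fun x z hz => ?_⟩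
    · have hB : B = ⊥ := by
        refine hess B (Subobject.mk_le_of_comm f rfl) fun x z hz hzc => ?_
        obtain ⟨w, rfl⟩ := hzc
        obtain ⟨k, rfl⟩ := st_exact_kernel g x w (by
          obtain ⟨b, hb⟩ := hz
          rw [st_comp, ← hb, ← st_comp, cokernel.condition, st_zero])
        have hm : st C.arrow x (st (kernel.ι g) x k) ∈ stImg C₁ x := by
          change _ ∈ stImg (Subobject.mk (kernel.ι g ≫ C.arrow)) x
          rw [stImg_mk]
          exact ⟨k, st_comp _ _ x k⟩
        rw [h0, stImg_bot, Submodule.mem_bot] at hm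
        rw [st_comp, hm, map_zero]
      refine (IsZero.iff_id_eq_zero P).2 (eq_zero_of_stalk fun x z => ?_)
      have hm : st (f ≫ A.arrow) x z ∈ stImg B x := by
        change _ ∈ stImg (Subobject.mk (f ≫ A.arrow)) x
        rw [stImg_mk]
        exact ⟨z, rfl⟩
      rw [hB, stImg_bot, Submodule.mem_bot] at hm
      rw [st_id, st_injective (f ≫ A.arrow) x (hm.trans (map_zero _).symm)]
    · rw [stImg_mk] at hz
      obtain ⟨k, rfl⟩ := hz
      have h1 : st (cokernel.π B.arrow) x (st c x (st (kernel.ι g) x k)) = 0 := by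
        rw [← st_comp, ← st_comp, kernel.condition, st_zero]
      have h2 : st c x (st (kernel.ι g) x k) ∈ stImg B x := st_exact_cokernel _ x _ h1
      rw [stImg_mk] at h2
      have e : st (Abelian.image.ι a) x (st (kernel.ι g ≫ C.arrow) x k) =
          st c x (st (kernel.ι g) x k) := by rw [← st_comp, ← st_comp, Category.assoc]
      rw [e]
      exact h2
  by_contra! hPQ
  obtain ⟨C₁, h₁, h₁0, e₁⟩ := hpart (biprod.inl ≫ e.inv) hPQ.1
  obtain ⟨C₂, h₂, h₂0, e₂⟩ := hpart (biprod.inr ≫ e.inv) hPQ.2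
  refine (hC C₁ C₂ h₁ h₂ (eq_bot_of_stImg fun x z hz => ?_)).elim h₁0 h₂0
  rw [stImg_inf] at hz
  obtain ⟨p, hp⟩ := e₁ x z hz.1
  obtain ⟨r, hr⟩ := e₂ x z hz.2
  have hpr : st (biprod.inl ≫ e.inv) x p = st (biprod.inr ≫ e.inv) x r := by
    refine st_injective A.arrow x ?_
    rw [← st_comp, ← st_comp, hp, hr]
  have hp0 : p = 0 := by
    have := congrArg (st (e.hom ≫ biprod.fst) x) hpr
    rw [← st_comp, ← st_comp] at this
    simpa [st_id, st_zero] using this
  rw [hp0, map_zero] at hp
  exact (Submodule.mem_bot _).2 (st_injective (Abelian.image.ι a) x (hp.symm.trans (map_zero _).symm))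

/-- Injective modules on a locally Noetherian scheme are sums of indecomposable injectives. -/
theorem exists_decomp [IsLocallyNoetherian X] (I : X.Modules) [Injective I] :
    ∃ (ι : Type u) (J : ι → X.Modules), (∀ i, IndecInj (J i)) ∧ Nonempty (I ≅ ∐ J) := by
  classical
  let P : Set (Subobject I) → Prop := fun s =>
    (∀ A ∈ s, IndecInj (A : X.Modules)) ∧ ∀ A ∈ s, ∀ t : Finset (Subobject I), ↑t ⊆ s → A ∉ t →
      ∀ x, stImg A x ⊓ (⨆ B ∈ t, stImg B x) = ⊥
  obtain ⟨s, hs⟩ := zorn_subset {s | P s} (fun c hc hchain => by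
    rcases c.eq_empty_or_nonempty with rfl | hne
    · exact ⟨∅, ⟨fun A h => h.elim, fun A h => h.elim⟩, fun z hz => hz.elim⟩
    · refine ⟨⋃₀ c, ⟨fun A ⟨s, hs, hA⟩ => (hc hs).1 A hA, fun A hA t ht hAt => ?_⟩,
        fun z hz => Set.subset_sUnion_of_mem hz⟩
      obtain ⟨s, hs, hsub⟩ := DirectedOn.exists_mem_subset_of_finite_of_subset_sUnion hne hchain.directedOn
        (s := ((insert A t : Finset (Subobject I)) : Set (Subobject I))) (Finset.finite_toSet _)
        (by rw [Finset.coe_insert]; exact Set.insert_subset hA ht)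
      exact (hc hs).2 A (hsub (Finset.mem_insert_self _ _)) t
        (fun B hB => hsub (Finset.mem_insert_of_mem hB)) hAt)
  obtain ⟨hind, hindep⟩ := hs.prop
  let ι : Type u := Shrink.{u} s
  let e : ι ≃ s := (equivShrink s).symm
  let J : ι → X.Modules := fun i => ((e i).1 : X.Modules)
  haveI hJi : Injective (∐ J) := injective_coprod J fun i => (hind _ (e i).2).1
  let d : (∐ J) ⟶ I := Sigma.desc fun i => (e i).1.arrow
  haveI : Mono d := mono_of_stalk fun x => (injective_iff_map_eq_zero _).2 fun z hz => by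
    obtain ⟨F, hF⟩ := exists_killFin_eq_zero J x z
    let a : ∀ i, (J i).presheaf.stalk x := fun i => st (projTo J i) x z
    have hdec : z = ∑ i ∈ F, st (Sigma.ι J i) x (a i) := by
      have h := congrArg (fun φ => ((DerSch.stalkFunctor X x).map φ).hom z) (id_eq J F)
      simp only [Functor.map_add, Functor.map_sum, ModuleCat.hom_add, LinearMap.add_apply,
        ModuleCat.hom_sum, LinearMap.sum_apply] at h
      change st (killFin J F) x z + ∑ i ∈ F, st (projTo J i ≫ Sigma.ι J i) x z = st (𝟙 _) x z at h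
      rw [hF, zero_add, st_id] at h
      exact h.symm.trans (Finset.sum_congr rfl fun i _ => st_comp _ _ x z)
    have hsum : ∑ i ∈ F, st (e i).1.arrow x (a i) = 0 := by
      rw [← hz]
      conv_rhs => rw [hdec, map_sum]
      refine Finset.sum_congr rfl fun i _ => ?_
      rw [← st_comp (Sigma.ι J i) d x (a i), Sigma.ι_desc]
    rw [hdec]
    refine Finset.sum_eq_zero fun i hi => ?_
    rw [← Finset.add_sum_erase F _ hi, add_eq_zero_iff_eq_neg] at hsum
    have hmem : st (e i).1.arrow x (a i) ∈ ⨆ B ∈ (F.erase i).image (fun k => (e k).1), stImg B x := by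
      rw [hsum]
      refine Submodule.neg_mem _ (Submodule.sum_mem _ fun k hk => ?_)
      exact Submodule.mem_iSup_of_mem _ (Submodule.mem_iSup_of_mem (Finset.mem_image_of_mem _ hk) ⟨_, rfl⟩)
    have h0 := hindep _ (e i).2 ((F.erase i).image (fun k => (e k).1)) (fun B hB => by
        obtain ⟨k, -, rfl⟩ := Finset.mem_image.1 (Finset.mem_coe.1 hB)
        exact (e k).2) (fun hm => by
        obtain ⟨k, hk, hki⟩ := Finset.mem_image.1 hm
        exact (Finset.mem_erase.1 hk).1 (e.injective (Subtype.ext hki))) x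
    have ha : st (e i).1.arrow x (a i) = 0 := (Submodule.mem_bot _).1 (h0.le ⟨⟨_, rfl⟩, hmem⟩)
    rw [st_injective (e i).1.arrow x (ha.trans (map_zero _).symm), map_zero]
  refine ⟨ι, J, fun i => hind _ (e i).2, ?_⟩
  let r : I ⟶ ∐ J := Injective.factorThru (𝟙 _) d
  have hr : d ≫ r = 𝟙 _ := Injective.comp_factorThru _ _
  by_cases hK : IsZero (kernel r)
  · haveI : Mono r := Preadditive.mono_of_isZero_kernel r hK
    haveI : Epi r := (IsSplitEpi.mk' ⟨d, hr⟩).epi
    haveI : IsIso r := isIso_of_mono_of_epi r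
    exact ⟨asIso r⟩
  exfalso
  haveI : Injective (kernel r) := Retract.injective
    (⟨kernel.ι r, kernel.lift r (𝟙 I - r ≫ d) (by rw [Preadditive.sub_comp, Category.assoc, hr,
      Category.id_comp, Category.comp_id, sub_self]), by
      rw [← cancel_mono (kernel.ι r), Category.assoc, kernel.lift_ι, Preadditive.comp_sub,
        kernel.condition_assoc, zero_comp, sub_zero, Category.comp_id, Category.id_comp]⟩ :
      Retract (kernel r) I)
  obtain ⟨J', f, hf, hJ'⟩ := exists_indecInj (kernel r) hK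
  haveI := hf
  let A' := Subobject.mk (f ≫ kernel.ι r)
  have hdisj : ∀ x z, z ∈ stImg A' x → ∀ (t : Finset (Subobject I)), ↑t ⊆ s →
      z ∈ (⨆ B ∈ t, stImg B x) → z = 0 := by
    intro x z hz t ht hzt
    rw [stImg_mk] at hz
    obtain ⟨w, hw⟩ := hz
    have hle : (⨆ B ∈ t, stImg B x) ≤ LinearMap.range (st d x) := iSup₂_le fun B hB => by
      rintro _ ⟨v, rfl⟩
      obtain ⟨i, hi⟩ := e.surjective ⟨B, ht hB⟩
      obtain rfl : (e i).1 = B := congrArg Subtype.val hi
      exact ⟨st (Sigma.ι J i) x v, by rw [← st_comp, Sigma.ι_desc]⟩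
    obtain ⟨u, hu⟩ := hle hzt
    have hu0 : u = 0 := by
      have h := st_comp d r x u
      rw [hr, st_id, hu, ← hw, ← st_comp, Category.assoc, kernel.condition, comp_zero, st_zero] at h
      exact h
    rw [← hu, hu0, map_zero]
  have hA's : A' ∉ s := fun h => by
    have h0 : A' = ⊥ := eq_bot_of_stImg fun x z hz => (Submodule.mem_bot _).2
      (hdisj x z hz {A'} (by simpa using h) (Submodule.mem_iSup_of_mem A'
        (Submodule.mem_iSup_of_mem (Finset.mem_singleton_self A') hz)))
    refine hJ'.2.1 ((IsZero.iff_id_eq_zero J').2 (eq_zero_of_stalk fun x z => ?_))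
    have hm : st (f ≫ kernel.ι r) x z ∈ stImg A' x := by
      change _ ∈ stImg (Subobject.mk (f ≫ kernel.ι r)) x
      rw [stImg_mk]
      exact ⟨z, rfl⟩
    rw [h0, stImg_bot, Submodule.mem_bot] at hm
    rw [st_id, st_injective (f ≫ kernel.ι r) x (hm.trans (map_zero _).symm)]
  refine hA's ((hs.eq_of_ge (y := insert A' s) ⟨fun A hA => ?_, fun A hA t ht hAt x => ?_⟩
    (Set.subset_insert _ _)) ▸ Set.mem_insert A' s)
  · rcases hA with rfl | hA
    · let φ : (A' : X.Modules) ≅ J' := Subobject.underlyingIso _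
      exact ⟨Injective.of_iso φ.symm hJ'.1, fun h => hJ'.2.1 (h.of_iso φ.symm),
        fun P Q ⟨g⟩ => hJ'.2.2 P Q ⟨φ.symm ≪≫ g⟩⟩
    · exact hind A hA
  · rw [eq_bot_iff]
    rintro z ⟨hz, hzt⟩
    rcases hA with rfl | hA
    · exact (Submodule.mem_bot _).2 (hdisj x z hz t (fun B hB => (ht hB).resolve_left fun h => hAt (h ▸ hB)) hzt)
    · have hle : (⨆ B ∈ t, stImg B x) ≤ stImg A' x ⊔ ⨆ B ∈ t.erase A', stImg B x := iSup₂_le fun B hB => by
        by_cases hB' : B = A'
        · exact hB' ▸ le_sup_left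
        · exact le_sup_of_le_right (le_iSup₂_of_le B (Finset.mem_erase.2 ⟨hB', hB⟩) le_rfl)
      obtain ⟨a', ha', u, hu, rfl⟩ := Submodule.mem_sup.1 (hle hzt)
      have hts : ↑(t.erase A') ⊆ s := fun B hB => by
        obtain ⟨h1, h2⟩ := Finset.mem_erase.1 hB
        exact (ht h2).resolve_left h1
      have ha0 : a' = 0 := hdisj x a' ha' (insert A (t.erase A')) (by
          rw [Finset.coe_insert]; exact Set.insert_subset hA hts) (by
        have h1 : a' + u ∈ ⨆ B ∈ insert A (t.erase A'), stImg B x :=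
          Submodule.mem_iSup_of_mem A (Submodule.mem_iSup_of_mem (Finset.mem_insert_self _ _) hz)
        have h2 : u ∈ ⨆ B ∈ insert A (t.erase A'), stImg B x :=
          (biSup_mono (f := fun B => stImg B x) fun B (hB : B ∈ t.erase A') => Finset.mem_insert_of_mem hB : (⨆ B ∈ t.erase A', stImg B x) ≤ ⨆ B ∈ insert A (t.erase A'), stImg B x) hu
        simpa using Submodule.sub_mem _ h1 h2)
      subst ha0
      rw [zero_add] at hz ⊢
      exact (hindep A hA (t.erase A') hts (fun hm => hAt (Finset.mem_of_mem_erase hm)) x).le ⟨hz, hu⟩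

end Groth.Agent.W7Hull
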