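import Groth.Agent.LCZ.AcycExt
import Mathlib

/-!
Ext groups through an exact functor sending injectives to acyclics.
-/

set_option autoImplicit false
set_option backward.isDefEq.respectTransparency false

universe w w' v v' u u'

open CategoryTheory CategoryTheory.Limits CategoryTheory.Abelian

namespace Groth.Agent.W7Hull

variable {C : Type u} [Category.{v} C] [Abelian C] [HasExt.{w} C] [HasInjectiveResolutions C]
  {D : Type u'} [Category.{v'} D] [Abelian D] [HasExt.{w'} D]

theorem nonempty_ext_addEquiv (T : C ⥤ D) [T.Additive] [PreservesFiniteLimits T] [PreservesFiniteColimits T]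
    (P : D) (Q : C) (e : ∀ N : C, (P ⟶ T.obj N) ≃+ (Q ⟶ N))
    (he : ∀ {N N' : C} (g : N ⟶ N') (φ : P ⟶ T.obj N), e N' (φ ≫ T.map g) = e N φ ≫ g)
    (hT : ∀ I : C, Injective I → ∀ q : ℕ, Subsingleton (Ext P (T.obj I) (q + 1)))
    (X : C) (n : ℕ) : Nonempty (Ext P (T.obj X) n ≃+ Ext Q X n) := by
  haveI : T.PreservesHomology := Functor.preservesHomologyOfExact T
  let R := injectiveResolution X
  let K₀ := R.cocomplex
  let K := (T.mapHomologicalComplex (ComplexShape.up ℕ)).obj K₀
  have hex₀ : ∀ k, K₀.ExactAt (k + 1) := fun k => R.cocomplex_exactAt_succ k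
  have hex : ∀ k, K.ExactAt (k + 1) := fun k => by
    have h := hex₀ k
    rw [HomologicalComplex.exactAt_iff] at h ⊢
    exact h.map T
  have hK : ∀ a m : ℕ, Subsingleton (Ext P (K.X a) (m + 1)) := fun a m => hT _ (R.injective a) m
  have hK₀ : ∀ a m : ℕ, Subsingleton (Ext Q (K₀.X a) (m + 1)) := fun a m => by
    haveI := R.injective a
    exact subsingleton_of_forall_eq 0 fun x => Ext.eq_zero_of_injective x
  let t : LCZ.homCyc K P n →+ LCZ.homCyc K₀ Q n :=
    { toFun := fun f => LCZ.mkCyc K₀ Q n (e _ f.1) (by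
        rw [← he]
        exact (congrArg (e _) f.2).trans (map_zero _))
      map_zero' := Subtype.ext (map_zero _)
      map_add' := fun a b => Subtype.ext (map_add _ _ _) }
  have ht : Function.Bijective t := by
    refine ⟨fun a b h => Subtype.ext ((e _).injective (congrArg Subtype.val h)), fun g => ?_⟩
    refine ⟨LCZ.mkCyc K P n ((e _).symm g.1) ((e _).injective ?_), Subtype.ext ((e _).apply_symm_apply _)⟩
    rw [map_zero]
    refine (he _ _).trans ?_
    rw [AddEquiv.apply_symm_apply]
    exact g.2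
  let a := LCZ.homCls K hex P n
  let b := (LCZ.homCls K₀ hex₀ Q n).comp t
  have ha : Function.Surjective a := LCZ.homCls_surjective K hex P hK n
  have hb : Function.Surjective b := (LCZ.homCls_surjective K₀ hex₀ Q hK₀ n).comp ht.2
  have hker : a.ker = b.ker := by
    ext f
    rw [AddMonoidHom.mem_ker, AddMonoidHom.mem_ker]
    change LCZ.homCls K hex P n f = 0 ↔ LCZ.homCls K₀ hex₀ Q n (t f) = 0
    rcases n with _ | n
    · rw [LCZ.homCls_zero_eq_zero_iff, LCZ.homCls_zero_eq_zero_iff]
      exact ((e _).map_eq_zero_iff).symm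
    · rw [LCZ.homCls_succ_eq_zero_iff K hex P hK, LCZ.homCls_succ_eq_zero_iff K₀ hex₀ Q hK₀]
      constructor
      · rintro ⟨g, hg⟩
        exact ⟨e _ g, (he _ g).symm.trans (congrArg (e _) hg)⟩
      · rintro ⟨g, hg⟩
        refine ⟨(e _).symm g, (e _).injective ((he _ _).trans ?_)⟩
        rw [AddEquiv.apply_symm_apply]
        exact hg
  let ab : Ext P (K.cycles 0) n ≃+ Ext Q (K₀.cycles 0) n :=
    ((QuotientAddGroup.quotientKerEquivOfSurjective a ha).symm.trans
      (QuotientAddGroup.quotientAddEquivOfEq hker)).trans (QuotientAddGroup.quotientKerEquivOfSurjective b hb)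
  let c₀ : K₀.cycles 0 ≅ X := IsLimit.conePointUniqueUpToIso (K₀.cyclesIsKernel 0 1 (by simp)) R.isLimitKernelFork
  let c : K.cycles 0 ≅ T.obj X :=
    IsLimit.conePointUniqueUpToIso (K.cyclesIsKernel 0 1 (by simp))
      (KernelFork.mapIsLimit _ R.isLimitKernelFork T)
  exact ⟨((((extFunctorObj P n).mapIso c).symm.addCommGroupIsoToAddEquiv).trans ab).trans
    (((extFunctorObj Q n).mapIso c₀).addCommGroupIsoToAddEquiv)⟩

end Groth.Agent.W7Hull
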