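import Groth.Agent.W7Cech.GlobSec
import Groth.Agent.W7Cech.FibreAffine
import Groth.Agent.FlatCx.Local
import Groth.Agent.ThickProp.Square

/-!
Lifting sections of the reduction modulo the maximal ideal when the functions of the closed fibre lift.
-/

set_option autoImplicit false
set_option backward.isDefEq.respectTransparency false
set_option backward.isDefEq.respectTransparency.types false
set_option linter.style.haveILetI false
set_option maxHeartbeats 2000000

universe u

open CategoryTheory CategoryTheory.Limits AlgebraicGeometry TopologicalSpace Opposite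
open Groth.Agent.QC (res resO res_res res_smul app_res)
open scoped TensorProduct

noncomputable section

namespace Groth.Agent.W7Hull

variable (A : Type u) [CommRing A] [IsLocalRing A] {X : Scheme.{u}} [X.Over (Spec (CommRingCat.of A))]
  (y : Spec (CommRingCat.of A)) (hy : (y : PrimeSpectrum A).asIdeal = IsLocalRing.maximalIdeal A)

local notation "ff" => (X ↘ Spec (CommRingCat.of A))
local notation "gg" => Spec.map (W7Cech.resMap A y)

include hy in
lemma surjective_resMap : Function.Surjective (W7Cech.resMap A y).hom := fun b => by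
  obtain ⟨a, s, hs, hb⟩ := W7Cech.resMap_frac A y b
  have : IsUnit s := IsLocalRing.notMem_maximalIdeal.1 fun h => hs (by
    rw [← hy, ← W7Cech.resMap_ker A y] at h
    exact RingHom.mem_ker.1 h)
  obtain ⟨v, rfl⟩ := this
  refine ⟨↑v⁻¹ * a, ?_⟩
  rw [map_mul, ← hb, ← mul_assoc, ← map_mul, Units.inv_mul, map_one, one_mul]

include hy in
lemma ker_fiberι_app {V : X.Opens} (hV : IsAffineOpen V) :
    RingHom.ker ((X ↘ Spec (CommRingCat.of A)).fiberι y |>.app V).hom =
      (IsLocalRing.maximalIdeal A).map (W7Cech.secRing A V) := by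
  have sq : IsPullback ((ff).fiberι y) ((ff).fiberToSpecResidueField y) ff gg := by
    rw [W7Cech.SpecMap_resMap]
    exact IsPullback.of_hasPullback _ _
  haveI : IsClosedImmersion gg := IsClosedImmersion.spec_of_surjective _ (surjective_resMap A y hy)
  have h := ThickProp.ker_app_eq_map sq ⟨⊤, isAffineOpen_top _⟩ ⟨V, hV⟩ le_top
  rw [h]
  have h1 : RingHom.ker (Spec.map (W7Cech.resMap A y)).appTop.hom =
      (IsLocalRing.maximalIdeal A).map (Scheme.ΓSpecIso (CommRingCat.of A)).inv.hom := by
    let φ := (Scheme.ΓSpecIso (CommRingCat.of A)).inv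
    have hφ : Function.Bijective φ.hom := ConcreteCategory.bijective_of_isIso φ
    have hn : φ ≫ (Spec.map (W7Cech.resMap A y)).appTop =
        W7Cech.resMap A y ≫ (Scheme.ΓSpecIso _).inv := (Scheme.ΓSpecIso_inv_naturality _).symm
    have hk : RingHom.ker (φ ≫ (Spec.map (W7Cech.resMap A y)).appTop).hom = IsLocalRing.maximalIdeal A := by
      rw [hn, ← hy, ← W7Cech.resMap_ker A y, CommRingCat.hom_comp]
      exact RingHom.ker_comp_of_injective _ (ConcreteCategory.bijective_of_isIso (Scheme.ΓSpecIso _).inv).1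
    rw [← hk, CommRingCat.hom_comp, ← RingHom.comap_ker]
    exact (Ideal.map_comap_of_surjective _ hφ.2 _).symm
  change ((RingHom.ker (Spec.map (W7Cech.resMap A y)).appTop.hom).map _ : Ideal Γ(X, V)) = _
  rw [h1, Ideal.map_map]
  rfl

local notation "κA" => ModuleCat.of A (IsLocalRing.ResidueField A)
local notation "OX" => Coh.structureModule X

include hy in
/-- a section of the reduction vanishes iff it vanishes on the fibre -/
lemma tm_eq_zero_iff {V : X.Opens} (hV : IsAffineOpen V) (d : Γ(X, V)) :
    TMul.tm (W7Cech.unitSec A V κA (IsLocalRing.residue A 1)) (show Γ(OX, V) from d) = 0 ↔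
      ((ff).fiberι y |>.app V).hom d = 0 := by
  rw [← RingHom.mem_ker, ker_fiberι_app A y hy hV, ← W7Cech.pairing_tmul A V κA (show Γ(OX, V) from d)]
  let P : ModuleCat.{u} A := (W7Cech.secA A V).obj OX
  let e := TensorProduct.tensorQuotEquivQuotSMul (P : Type u) (IsLocalRing.maximalIdeal A)
  let d' : P := d
  have hd : e (d' ⊗ₜ[A] IsLocalRing.residue A 1) = Submodule.Quotient.mk d' := by
    refine (TensorProduct.tensorQuotEquivQuotSMul_tmul_mk _ d' (1 : A)).trans ?_
    rw [one_smul]
  have hinj := (W7Cech.pairing_bijective A (F := OX) V hV (QC.isQCoh_unit X) κA).1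
  have hmem : ∀ z : P, z ∈ (IsLocalRing.maximalIdeal A) • (⊤ : Submodule A P) ↔
      (show Γ(X, V) from z) ∈ (IsLocalRing.maximalIdeal A).map (W7Cech.secRing A V) := by
    intro z
    refine ⟨fun hz => ?_, fun hz => ?_⟩
    · exact Submodule.smul_induction_on (p := fun w : P =>
        (show Γ(X, V) from w) ∈ (IsLocalRing.maximalIdeal A).map (W7Cech.secRing A V)) hz
        (fun a ha x _ => Ideal.mul_mem_right _ _ (Ideal.mem_map_of_mem _ ha)) fun a b ha hb => add_mem ha hb
    · suffices ∀ x ∈ (IsLocalRing.maximalIdeal A).map (W7Cech.secRing A V), ∀ r : Γ(X, V),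
          (show P from r * x) ∈ (IsLocalRing.maximalIdeal A) • (⊤ : Submodule A P) by
        have := this _ hz 1
        rwa [one_mul] at this
      intro x hx
      induction hx using Submodule.span_induction with
      | mem x hx =>
        obtain ⟨a, ha, rfl⟩ := hx
        intro r
        have := Submodule.smul_mem_smul ha (Submodule.mem_top (x := (show P from r)))
        convert this using 1
        exact mul_comm r (W7Cech.secRing A V a)
      | zero => intro r; rw [mul_zero]; exact zero_mem _
      | add a b _ _ ha hb => intro r; rw [mul_add]; exact add_mem (ha r) (hb r)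
      | smul c x _ hx => intro r; rw [smul_eq_mul, ← mul_assoc]; exact hx _
  refine Iff.trans ?_ (hmem d')
  rw [← Submodule.Quotient.mk_eq_zero, ← hd, LinearEquiv.map_eq_zero_iff]
  exact ⟨fun h => hinj (h.trans (map_zero _).symm), fun h => (congrArg _ h).trans (map_zero _)⟩

include hy in
/-- functions of the fibre lifting, sections of the reduction lift -/
theorem surjective_map_toResidue [IsProper ff]
    (hS : Function.Surjective ((ff).fiberι y).appTop.hom) :
    Function.Surjective ((CohIII.globalSectionsA A).map ((CohIII.tensorAFunctor A OX).map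
      (FlatCx.toResidue A))).hom := by
  haveI : X.IsSeparated := by
    constructor
    rw [← terminal.comp_from ff]
    infer_instance
  let ι := (ff).fiberι y
  let T := (CohIII.tensorAFunctor A OX).obj κA
  let u : ∀ V : X.Opens, Γ(X, V) →+ Γ(T, V) := fun V => AddMonoidHom.mk'
    (fun d => TMul.tm (W7Cech.unitSec A V κA (IsLocalRing.residue A 1)) (show Γ(OX, V) from d))
    (fun a b => TMul.add_tm _ _ _)
  have hu : ∀ {V W : X.Opens} (h : W ≤ V) (d : Γ(X, V)), res T h (u V d) = u W (resO X h d) := fun h d =>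
    (TMul.res_tm h _ _).trans (congrArg (fun t => TMul.tm t _) (W7Cech.res_unitSec A h κA _))
  intro s'
  let s : Γ(T, ⊤) := s'
  have hex : ∀ V : X.affineOpens, ∃ d : Γ(X, V.1), res T le_top s = u V.1 d := by
    intro V
    obtain ⟨z, hz⟩ := (W7Cech.pairing_bijective A (F := OX) V.1 V.2 (QC.isQCoh_unit X) κA).2 (res T le_top s)
    obtain ⟨z', rfl⟩ := LinearMap.lTensor_surjective _ (g := Algebra.linearMap A (IsLocalRing.ResidueField A))
      Ideal.Quotient.mk_surjective z
    obtain ⟨d, rfl⟩ := (TensorProduct.rid A ((W7Cech.secA A V.1).obj OX : Type u)).symm.surjective z'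
    refine ⟨d, hz.symm.trans ?_⟩
    rw [TensorProduct.rid_symm_apply, LinearMap.lTensor_tmul, Algebra.linearMap_apply]
    exact W7Cech.pairing_tmul A V.1 κA _ _
  choose d hd using hex
  have hcomp : TopCat.Presheaf.IsCompatible (((ff).fiber y).sheaf.1) (fun V : X.affineOpens => ι ⁻¹ᵁ V.1)
      (fun V => (ι.app V.1).hom (d V)) := by
    intro V W
    have hVW : IsAffineOpen (V.1 ⊓ W.1) := V.2.inf W.2
    have h1 : u (V.1 ⊓ W.1) (resO X inf_le_left (d V) - resO X inf_le_right (d W)) = 0 := by
      rw [map_sub, ← hu, ← hu, ← hd, ← hd, res_res, res_res, sub_self]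
    have h2 := (tm_eq_zero_iff A y hy hVW _).1 h1
    rw [map_sub, sub_eq_zero] at h2
    exact ((ConcreteCategory.congr_hom (ι.naturality (homOfLE inf_le_left).op) (d V)).symm.trans h2).trans
      (ConcreteCategory.congr_hom (ι.naturality (homOfLE inf_le_right).op) (d W))
  obtain ⟨c, hc, -⟩ := ((ff).fiber y).sheaf.existsUnique_gluing' (fun V : X.affineOpens => ι ⁻¹ᵁ V.1) ⊤
    (fun _ => homOfLE le_top) (fun x _ => by
      obtain ⟨V, hV, hxV, -⟩ := exists_isAffineOpen_mem_and_subset (x := ι x) (U := ⊤) trivial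
      exact Opens.mem_iSup.2 ⟨⟨V, hV⟩, hxV⟩) _ hcomp
  obtain ⟨e, he⟩ := hS c
  refine ⟨(TMul.tm (W7Cech.unitSec A ⊤ (ModuleCat.of A A) (1 : A)) (show Γ(OX, ⊤) from e) :
    Γ((CohIII.tensorAFunctor A OX).obj (ModuleCat.of A A), ⊤)), ?_⟩
  change ((CohIII.tensorAFunctor A OX).map (FlatCx.toResidue A)).app ⊤ _ = s
  rw [show ((CohIII.tensorAFunctor A OX).map (FlatCx.toResidue A)).app ⊤
      (TMul.tm (W7Cech.unitSec A ⊤ (ModuleCat.of A A) (1 : A)) (show Γ(OX, ⊤) from e)) = u ⊤ e from
    (W7Cech.map_tm _ _ _ _).trans (congrArg (fun t => TMul.tm t _) (W7Cech.map_unitSec A ⊤ _ _))]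
  refine TopCat.Sheaf.eq_of_locally_eq' (QC.abSheaf T) (fun V : X.affineOpens => V.1) ⊤
    (fun _ => homOfLE le_top) (fun x _ => by
      obtain ⟨V, hV, hxV, -⟩ := exists_isAffineOpen_mem_and_subset (x := x) (U := ⊤) trivial
      exact Opens.mem_iSup.2 ⟨⟨V, hV⟩, hxV⟩) _ _ fun V => ?_
  change res T le_top (u ⊤ e) = res T le_top s
  rw [hd, hu, ← sub_eq_zero, ← map_sub]
  refine (tm_eq_zero_iff A y hy V.2 _).2 ?_
  rw [map_sub, sub_eq_zero]
  refine Eq.trans ?_ (hc V)
  rw [← he]
  exact ConcreteCategory.congr_hom (ι.naturality (homOfLE le_top).op) e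

end Groth.Agent.W7Hull
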