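import Groth.Agent.W7Hull.Avoid
import Groth.Agent.Devissage.Power
import Groth.Agent.Devissage.Apply2
import Groth.Agent.RedKer.Basic
import Groth.Agent.SupportLib.Ann

/-!
Coherent modules killed by the maximal ideal at a point agree near it with a power of an ideal
sheaf on the closure of that point.
-/

set_option autoImplicit false
set_option backward.isDefEq.respectTransparency false
set_option linter.style.haveILetI false

universe u

open CategoryTheory CategoryTheory.Limits AlgebraicGeometry TopologicalSpace Opposite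

noncomputable section

namespace Groth.Agent.W7Hull

open Groth.Agent.QC Groth.Agent.WeakAssLib Groth.Agent.Devissage

attribute [local instance] Abelian.hasFiniteBiproducts

variable {X : Scheme.{u}}

/-- Near a point where a coherent module is killed by the maximal ideal, its support lies in the closure. -/
theorem exists_nhd_support [IsLocallyNoetherian X] (F : X.Modules) (hF : Coh.IsCoh F) (ξ : X)
    (hk : ∀ a ∈ IsLocalRing.maximalIdeal (X.presheaf.stalk ξ), ∀ m : F.presheaf.stalk ξ, a • m = 0) :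
    ∃ U : X.Opens, ξ ∈ U ∧ CohB1.support F ∩ U ⊆ closure {ξ} := by
  classical
  obtain ⟨W, hW, hξW, -⟩ := exists_isAffineOpen_mem_and_subset (X := X) (U := ⊤) (trivial : ξ ∈ (⊤ : X.Opens))
  haveI : IsNoetherianRing Γ(X, W) := IsLocallyNoetherian.component_noetherian ⟨W, hW⟩
  haveI := (isCoh_iff_finite_sections.1 hF).2 ⟨W, hW⟩
  have hloc := isLoc_of_isQCoh hW (hM := hF.1)
  set p := hW.primeIdealOf ⟨ξ, hξW⟩
  obtain ⟨G, hG⟩ := (IsNoetherian.noetherian p.asIdeal : p.asIdeal.FG)
  obtain ⟨T, hT⟩ := Module.Finite.fg_top (R := Γ(X, W)) (M := Γ(F, W))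
  have hc : ∀ (a : G) (t : T), ∃ c : Γ(X, W), c ∉ p.asIdeal ∧ c • (a.1 • t.1) = 0 := fun a t => by
    refine (germ_eq_zero_iff hW hloc hξW _).1 ?_
    rw [mgerm_smul]
    refine hk _ ((IsLocalRing.mem_maximalIdeal _).2 fun hu => ?_) _
    exact (mem_primeIdealOf hW hξW a.1).1 ((X.mem_basicOpen a.1 ξ hξW).2 hu)
      (hG ▸ Ideal.subset_span a.2 : a.1 ∈ p.asIdeal)
  choose c hcp hc0 using hc
  let d : Γ(X, W) := ∏ a, ∏ t, c a t
  have hdp : d ∉ p.asIdeal := fun h => by
    obtain ⟨a, -, ha⟩ := (Ideal.IsPrime.prod_mem_iff).1 h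
    obtain ⟨k, -, hk'⟩ := (Ideal.IsPrime.prod_mem_iff).1 ha
    exact hcp a k hk'
  have hd0 : ∀ b ∈ p.asIdeal, d * b ∈ SupportLib.annAt F W := fun b hb => by
    rw [← hG] at hb
    induction hb using Submodule.span_induction with
    | mem x hx =>
      rw [SupportLib.annAt, ← Submodule.annihilator_top, ← hT, Submodule.mem_annihilator_span]
      rintro ⟨t, ht⟩
      have hdvd : c ⟨x, hx⟩ ⟨t, ht⟩ ∣ d :=
        dvd_trans (Finset.dvd_prod_of_mem _ (Finset.mem_univ (⟨t, ht⟩ : T)))
          (Finset.dvd_prod_of_mem (fun a => ∏ t, c a t) (Finset.mem_univ (⟨x, hx⟩ : G)))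
      obtain ⟨e, he⟩ := hdvd
      rw [mul_smul, he, mul_comm, mul_smul]
      exact (congrArg (e • ·) (hc0 ⟨x, hx⟩ ⟨t, ht⟩)).trans (smul_zero _)
    | zero => rw [mul_zero]; exact zero_mem _
    | add x y _ _ hx hy => rw [mul_add]; exact add_mem hx hy
    | smul e x _ hx => rw [smul_eq_mul, mul_left_comm]; exact Ideal.mul_mem_left _ _ hx
  refine ⟨X.basicOpen d, (mem_primeIdealOf hW hξW d).2 hdp, fun x ⟨hx, hxd⟩ => ?_⟩
  have hxW : x ∈ W := X.basicOpen_le d hxd
  haveI := hF.1
  have hz := (SupportLib.mem_support_iff F hF.2 hW hxW).1 hx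
  rw [mem_closure_iff]
  intro O hO hxO
  obtain ⟨f, hfO, hxf⟩ := hW.exists_basicOpen_le (V := ⟨O, hO⟩) ⟨x, hxO⟩ hxW
  have hfp : f ∉ p.asIdeal := fun hf => by
    have h1 := (X.mem_zeroLocus_iff _ _).1 hz (d * f) (hd0 f hf)
    refine h1 ?_
    rw [Scheme.basicOpen_mul]
    exact ⟨hxd, hxf⟩
  exact ⟨ξ, hfO ((mem_primeIdealOf hW hξW f).2 hfp), rfl⟩

lemma surjective_π_of_biproduct {n : ℕ} {P Q : X.Modules} (f : Fin n → (P ⟶ Q)) (x : X)
    (h : ∀ k, Function.Surjective (stalkHom (f k) x)) :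
    Function.Surjective (stalkHom (biproduct.map f) x) := fun y => by
  choose w hw using fun k => h k (stalkHom (biproduct.π (fun _ : Fin n => Q) k) x y)
  refine ⟨∑ k, stalkHom (biproduct.ι (fun _ : Fin n => P) k) x (w k), ?_⟩
  calc stalkHom (biproduct.map f) x (∑ k, stalkHom (biproduct.ι (fun _ : Fin n => P) k) x (w k))
      = ∑ k, stalkHom (biproduct.π (fun _ : Fin n => Q) k ≫ biproduct.ι (fun _ : Fin n => Q) k) x y := by
        rw [map_sum]
        refine Finset.sum_congr rfl fun k _ => ?_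
        rw [← stalkHom_comp, biproduct.ι_map, stalkHom_comp, hw, ← stalkHom_comp]
    _ = y := by rw [← stalkHom_sum, biproduct.total, stalkHom_id]

/-- A sum of pieces injects into the module, surjectively on the stalk at the generic point. -/
theorem exists_piece_power_mono [IsNoetherian X] (ξ : X) (H : X.Modules) (hH : Coh.IsCoh H)
    (hsupp : CohB1.support H ⊆ closure {ξ})
    (hk : ∀ a ∈ IsLocalRing.maximalIdeal (X.presheaf.stalk ξ), ∀ m : H.presheaf.stalk ξ, a • m = 0) :
    ∃ (r : ℕ) (J : X.Modules) (ψ : (⨁ fun _ : Fin r => J) ⟶ H), IsPiece ξ J ∧ Mono ψ ∧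
      Function.Surjective (stalkHom ψ ξ) := by
  by_cases hmem : ξ ∈ CohB1.support H
  · obtain ⟨r, P', a, b, -, ha, hb, hP', hsa, hsb⟩ := exists_power H hH hsupp hmem hk (piece_A ξ)
    haveI := ha
    haveI := hb
    have hA := piece_A ξ
    let C := cokernel b
    let m : A ξ ⟶ ⨁ fun _ : Fin r => C :=
      biproduct.lift fun k => biproduct.ι (fun _ : Fin r => A ξ) k ≫ cokernel.π b
    have hC : Coh.IsCoh C :=
      QC.isCoh_cokernel hP'.1 (isCoh_biproduct _ fun _ => hA.coh) b
    let J := kernel m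
    have hJ : Coh.IsCoh J :=
      QC.isCoh_of_mono (kernel.ι m) hA.coh (QC.isQCoh_kernel hA.coh.1 (isQCoh_biproduct _ fun _ => hC.1) m)
    have hm0 : ∀ z, stalkHom m ξ z = 0 := fun z => by
      have e : stalkHom m ξ z = stalkHom (∑ k, biproduct.π (fun _ : Fin r => C) k ≫
          biproduct.ι (fun _ : Fin r => C) k) ξ (stalkHom m ξ z) := by
        rw [biproduct.total, stalkHom_id]
      rw [e, stalkHom_sum]
      refine Finset.sum_eq_zero fun k _ => ?_
      rw [stalkHom_comp, @Subsingleton.elim _ (not_not.1 hsb.2)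
        (stalkHom (biproduct.π (fun _ : Fin r => C) k) ξ (stalkHom m ξ z)) 0, map_zero]
    have hκ : Function.Surjective (stalkHom (kernel.ι m) ξ) := fun z =>
      LinearMap.mem_range.1 (st_exact_kernel m ξ z (hm0 z))
    have hJp : IsPiece ξ J := ⟨hJ, ⟨kernel.ι m, inferInstance⟩, fun hs => hA.mem
      (@Function.Surjective.subsingleton _ _ _ hs hκ)⟩
    let κ : (⨁ fun _ : Fin r => J) ⟶ ⨁ fun _ : Fin r => A ξ := biproduct.map fun _ => kernel.ι m
    have h0 : κ ≫ cokernel.π b = 0 := biproduct.hom_ext' _ _ fun k => by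
      have h1 : kernel.ι m ≫ biproduct.ι (fun _ : Fin r => A ξ) k ≫ cokernel.π b = 0 := by
        have e : m ≫ biproduct.π (fun _ : Fin r => C) k =
            biproduct.ι (fun _ : Fin r => A ξ) k ≫ cokernel.π b := biproduct.lift_π _ _
        rw [← e, ← Category.assoc, kernel.condition, zero_comp]
      rw [comp_zero, ← Category.assoc, biproduct.ι_map, Category.assoc]
      exact h1
    let T := ShortComplex.mk b (cokernel.π b) (cokernel.condition b)
    have hT : T.Exact := ShortComplex.exact_of_g_is_cokernel T (cokernelIsCokernel b)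
    let l := hT.lift κ h0
    have hl : l ≫ b = κ := hT.lift_f κ h0
    haveI : Mono (l ≫ b) := hl ▸ inferInstanceAs (Mono (biproduct.map fun _ => kernel.ι m))
    haveI : Mono l := mono_of_mono l b
    refine ⟨r, J, l ≫ a, hJp, mono_comp _ _, fun z => ?_⟩
    obtain ⟨p, rfl⟩ := stalk_surjective_of_isSmall a hsa z
    obtain ⟨w, hw⟩ := surjective_π_of_biproduct (fun _ : Fin r => kernel.ι m) ξ (fun _ => hκ)
      (stalkHom b ξ p)
    refine ⟨w, (stalkHom_comp l a ξ w).trans (congrArg _ (WeakAssLib.stalkHom_injective b ξ ?_))⟩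
    rw [← stalkHom_comp, hl]
    exact hw
  · have hs : Subsingleton (H.presheaf.stalk ξ) := not_not.1 hmem
    have hz : IsZero (⨁ fun _ : Fin 0 => A ξ) :=
      (IsZero.iff_id_eq_zero _).2 (biproduct.hom_ext _ _ fun k => k.elim0)
    exact ⟨0, A ξ, 0, piece_A ξ, hz.mono _, fun z => ⟨0, @Subsingleton.elim _ hs _ _⟩⟩

/-- Two reduced closed subschemes with the same range are isomorphic over the ambient scheme. -/
theorem exists_iso_of_range_eq {Y Y' : Scheme.{u}} (i : Y ⟶ X) (j : Y' ⟶ X) [IsClosedImmersion i]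
    [IsClosedImmersion j] [IsReduced Y] [IsReduced Y'] (h : Set.range i = Set.range j) :
    ∃ e : Y ≅ Y', e.hom ≫ j = i := by
  have key : ∀ {Y : Scheme.{u}} (i : Y ⟶ X) [IsClosedImmersion i] [IsReduced Y],
      i.ker = Scheme.IdealSheafData.vanishingIdeal ⟨Set.range i, i.isClosedEmbedding.isClosed_range⟩ := by
    intro Y i _ _
    refine le_antisymm ?_ (RedKer.vanishingIdeal_le_ker i _ (subset_refl _))
    rw [← Scheme.IdealSheafData.le_support_iff_le_vanishingIdeal]
    exact fun z hz => Scheme.Hom.range_subset_ker_support i hz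
  have hk : j.ker = i.ker := by
    rw [key i, key j]; congr 1; ext1; exact h.symm
  have : IsIso (IsClosedImmersion.lift j i hk.le) := IsClosedImmersion.isIso_lift j i hk
  exact ⟨asIso (IsClosedImmersion.lift j i hk.le), IsClosedImmersion.lift_fac _ _ _⟩

end Groth.Agent.W7Hull
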