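import Groth.Agent.W7Cech.BC0Epi
import Groth.Agent.RelTilde.Tensor
import Groth.Agent.W7Hull.SheafHomExact
import Groth.Prelude.Def_Formal

/-!
The restriction to the closed fibre over an affine base is the quotient by the maximal ideal.
-/

set_option autoImplicit false
set_option backward.isDefEq.respectTransparency false
set_option backward.isDefEq.respectTransparency.types false
set_option linter.style.haveILetI false
set_option maxHeartbeats 1000000

universe u

open CategoryTheory CategoryTheory.Limits AlgebraicGeometry TopologicalSpace Opposite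
open Groth.Agent.QC (res res_res res_smul app_res)
open scoped TensorProduct

noncomputable section

namespace Groth.Agent.W7Hull

/-- A surjective base change map: kernel and surjectivity. -/
lemma baseChange_of_surjective {A B : Type u} [CommRing A] [CommRing B] [Algebra A B]
    (hs : Function.Surjective (algebraMap A B)) {M N : Type u} [AddCommGroup M] [Module A M]
    [AddCommGroup N] [Module A N] [Module B N] [IsScalarTower A B N] (ζ : M →ₗ[A] N) (hζ : IsBaseChange B ζ) :
    Function.Surjective ζ ∧ ∀ m, ζ m = 0 → m ∈ (RingHom.ker (algebraMap A B)) • (⊤ : Submodule A M) := by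
  refine ⟨fun x => ?_, fun m hm => ?_⟩
  · obtain ⟨y, rfl⟩ := hζ.equiv.surjective x
    induction y using TensorProduct.induction_on with
    | zero => exact ⟨0, by rw [map_zero, map_zero]⟩
    | tmul b s =>
      obtain ⟨a, rfl⟩ := hs b
      exact ⟨a • s, by rw [map_smul, hζ.equiv_tmul, algebraMap_smul]⟩
    | add y z hy hz =>
      obtain ⟨p, hp⟩ := hy
      obtain ⟨q, hq⟩ := hz
      exact ⟨p + q, by rw [map_add, map_add, hp, hq]⟩
  · let I := RingHom.ker (algebraMap A B)
    let Q := M ⧸ I • (⊤ : Submodule A M)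
    have hI : ∀ a, algebraMap A B a = 0 → ∀ q : Q, a • q = 0 := fun a ha q => by
      obtain ⟨m, rfl⟩ := Submodule.mkQ_surjective _ q
      rw [← map_smul, Submodule.mkQ_apply, Submodule.Quotient.mk_eq_zero]
      exact Submodule.smul_mem_smul ha Submodule.mem_top
    choose σ hσ using hs
    have key : ∀ a (q : Q), σ (algebraMap A B a) • q = a • q := fun a q => by
      rw [← sub_eq_zero, ← sub_smul]
      exact hI _ (by rw [map_sub, hσ, sub_self]) q
    letI : SMul B Q := ⟨fun b q => σ b • q⟩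
    letI : Module B Q := Function.Surjective.moduleLeft (algebraMap A B) (fun b => ⟨σ b, hσ b⟩) key
    haveI : IsScalarTower A B Q := IsScalarTower.of_algebraMap_smul key
    have h := hζ.lift_eq (I • (⊤ : Submodule A M)).mkQ m
    rw [hm, map_zero] at h
    exact (Submodule.Quotient.mk_eq_zero _).1 h.symm

variable {A : Type u} [CommRing A] {X : Scheme.{u}} [X.Over (Spec (CommRingCat.of A))]

/-- `p` is the quotient by the multiplications by the `a i`. -/
def IsQuot {n : ℕ} (a : Fin n → A) {M Q : X.Modules} (p : M ⟶ Q) : Prop :=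
  (∀ i, Formal.smulMod A M (a i) ≫ p = 0) ∧ Epi p ∧
    ∀ {Z : X.Modules} (k : M ⟶ Z), (∀ i, Formal.smulMod A M (a i) ≫ k = 0) → ∃ d : Q ⟶ Z, p ≫ d = k

lemma IsQuot.exists_iso {n : ℕ} {a : Fin n → A} {M Q Q' : X.Modules} {p : M ⟶ Q} {p' : M ⟶ Q'}
    (h : IsQuot a p) (h' : IsQuot a p') : ∃ θ : Q ≅ Q', p ≫ θ.hom = p' := by
  obtain ⟨d, hd⟩ := h.2.2 p' h'.1
  obtain ⟨d', hd'⟩ := h'.2.2 p h.1
  haveI := h.2.1
  haveI := h'.2.1
  exact ⟨⟨d, d', by rw [← cancel_epi p, reassoc_of% hd, hd', Category.comp_id],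
    by rw [← cancel_epi p', reassoc_of% hd', hd, Category.comp_id]⟩, hd⟩

lemma smulMod_homMap {F G : X.Modules} (a : A) :
    RefFun.homMap F (Formal.smulMod A G a) = Formal.smulMod A (RefHull.homSh F G) a := by
  apply Scheme.Modules.hom_ext
  intro U
  ext g
  refine Subtype.ext (funext fun x => LinearMap.ext fun v => ?_)
  rw [RefFun.homMap_app_apply]
  obtain ⟨V, hxV, m, hm⟩ := TopCat.Presheaf.exists_germ_eq G.presheaf (g.1 x v)
  change RefHull.stalkMapₗ (Formal.smulMod A G a) x.1 (g.1 x v) =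
    X.presheaf.germ U x.1 x.2 (Coh.resTop X (op U) (Coh.toGlobal (X ↘ Spec (CommRingCat.of A)) a)) • g.1 x v
  rw [← hm, RefHull.stalkMapₗ_germ]
  change G.presheaf.germ V x.1 hxV
    ((show Γ(X, V) from Coh.resTop X (op V) (Coh.toGlobal (X ↘ Spec (CommRingCat.of A)) a)) • m) = _
  rw [Mero.germ_smul]
  exact congrArg (· • _) ((TopCat.Presheaf.germ_res_apply X.presheaf _ x.1 hxV _).trans
    (TopCat.Presheaf.germ_res_apply X.presheaf _ x.1 x.2 _).symm)

/-- The sheaf Hom out of a finite locally free module keeps quotients. -/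
theorem IsQuot.homMap {n : ℕ} {a : Fin n → A} {F M Q : X.Modules} (hF : FlatMod.IsFinLocFree F) {p : M ⟶ Q}
    (h : IsQuot a p) : IsQuot a (RefFun.homMap F p) := by
  haveI := h.2.1
  haveI : HasFiniteBiproducts X.Modules := HasFiniteBiproducts.of_hasFiniteProducts
  let T := RefFun.homFunctor F
  haveI := hasSheafHom_sch F
  haveI : PreservesFiniteColimits T :=
    haveI := preservesFiniteColimits_sheafHom F hF
    ⟨fun J _ _ => preservesColimitsOfShape_of_natIso (sheafHomIso F)⟩
  haveI : T.Additive := (homShAdj F).right_adjoint_additive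
  refine ⟨fun i => ?_, epi_homMap hF p, fun {Z} k hk => ?_⟩
  · rw [← smulMod_homMap]
    change T.map _ ≫ T.map p = 0
    rw [← T.map_comp, h.1 i, T.map_zero]
  · let σ : (⨁ fun _ : Fin n => M) ⟶ M := biproduct.desc fun i => Formal.smulMod A M (a i)
    have w : σ ≫ p = 0 := biproduct.hom_ext' _ _ fun i => by
      rw [biproduct.ι_desc_assoc, comp_zero, h.1 i]
    have hc : IsColimit (CokernelCofork.ofπ p w) :=
      CokernelCofork.IsColimit.ofπ' _ _ fun {W} g hg => by
        have := h.2.2 g fun i => by rw [← biproduct.ι_desc (f := fun _ : Fin n => M)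
          (fun i => Formal.smulMod A M (a i)) i, Category.assoc, hg, comp_zero]
        exact ⟨this.choose, this.choose_spec⟩
    have hk' : T.map σ ≫ k = 0 := by
      rw [show σ = ∑ i, biproduct.π (fun _ : Fin n => M) i ≫ Formal.smulMod A M (a i) from biproduct.desc_eq,
        T.map_sum, Preadditive.sum_comp]
      refine Finset.sum_eq_zero fun i _ => ?_
      rw [T.map_comp, Category.assoc, show T.map (Formal.smulMod A M (a i)) =
        Formal.smulMod A (RefHull.homSh F M) (a i) from smulMod_homMap (a i), hk i, comp_zero]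
    exact ⟨_, (CokernelCofork.IsColimit.desc' (CokernelCofork.mapIsColimit _ hc T) k hk').2⟩

section Fibre

variable [IsLocalRing A]

local notation "π₀" => (X ↘ Spec (CommRingCat.of A))
local notation "y₀" => IsLocalRing.closedPoint A
local notation "g₀" => Scheme.fromSpecResidueField (Spec (CommRingCat.of A)) y₀
local notation "ι₀" => Scheme.Hom.fiberι π₀ y₀

lemma appLE_point (c : Γ(Spec (CommRingCat.of A), ⊤)) (e : (⊤ : (Spec ((Spec (CommRingCat.of A)).residueField y₀)).Opens) ≤ g₀ ⁻¹ᵁ ⊤) :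
    (((g₀).appLE ⊤ ⊤ e).hom c = 0 ↔ (Scheme.ΓSpecIso (CommRingCat.of A)).hom.hom c ∈ IsLocalRing.maximalIdeal A) ∧
      Function.Surjective ((g₀).appLE ⊤ ⊤ e).hom := by
  have h := W7Cech.appLE_fromSpecResidueField (isAffineOpen_top (Spec (CommRingCat.of A))) y₀ trivial e
  let r := Scheme.ΓSpecIso ((Spec (CommRingCat.of A)).residueField y₀)
  have h' : ∀ d, r.hom.hom (((g₀).appLE ⊤ ⊤ e).hom d) = ((Spec (CommRingCat.of A)).evaluation ⊤ y₀ trivial).hom d :=
    fun d => congr(($h).hom d)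
  have hr : Function.Bijective r.hom.hom := ConcreteCategory.bijective_of_isIso r.hom
  refine ⟨?_, fun b => ?_⟩
  · rw [← hr.1.eq_iff, map_zero, h', Scheme.evaluation_eq_zero_iff_notMem_basicOpen]
    obtain ⟨a, rfl⟩ := (ConcreteCategory.bijective_of_isIso (Scheme.ΓSpecIso (CommRingCat.of A)).inv).2 c
    rw [show (Scheme.ΓSpecIso (CommRingCat.of A)).hom.hom ((Scheme.ΓSpecIso (CommRingCat.of A)).inv a) = a from
      congr(($((Scheme.ΓSpecIso (CommRingCat.of A)).inv_hom_id)).hom a)]
    rw [show (Spec (CommRingCat.of A)).basicOpen ((Scheme.ΓSpecIso (CommRingCat.of A)).inv a) =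
      PrimeSpectrum.basicOpen a from basicOpen_eq_of_affine _]
    exact not_not
  · obtain ⟨s, hs⟩ := (Spec (CommRingCat.of A)).residue_surjective y₀ (r.hom.hom b)
    haveI : IsIso ((Spec (CommRingCat.of A)).presheaf.germ ⊤ y₀ trivial) := by
      rw [show (Spec (CommRingCat.of A)).presheaf.germ ⊤ y₀ trivial =
        (Scheme.ΓSpecIso (CommRingCat.of A)).hom ≫ (stalkClosedPointIso (CommRingCat.of A)).inv from
        (Iso.eq_comp_inv _).2 (germ_stalkClosedPointIso_hom _)]
      infer_instance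
    obtain ⟨d, rfl⟩ := (ConcreteCategory.bijective_of_isIso ((Spec (CommRingCat.of A)).presheaf.germ ⊤ y₀ trivial)).2 s
    exact ⟨d, hr.1 ((h' d).trans hs)⟩

lemma secSmul_eq {O : X.Opens} (hO : O ≤ π₀ ⁻¹ᵁ ⊤) (a : A) :
    ((π₀).appLE ⊤ O hO).hom ((Scheme.ΓSpecIso (CommRingCat.of A)).inv a) =
      Coh.resTop X (op O) (Coh.toGlobal π₀ a) := by
  rw [Scheme.Hom.appLE]
  rfl

theorem isQuot_unit {n : ℕ} (a : Fin n → A) (ha : Ideal.span (Set.range a) = IsLocalRing.maximalIdeal A)
    [IsAffineHom ι₀] (M : X.Modules) (hM : Coh.IsQCoh M) :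
    IsQuot a ((Scheme.Modules.pullbackPushforwardAdjunction ι₀).unit.app M) := by
  haveI : M.IsQuasicoherent := hM
  haveI : HasFiniteBiproducts X.Modules := HasFiniteBiproducts.of_hasFiniteProducts
  let P := (Scheme.Modules.pullback ι₀).obj M
  let η : M ⟶ (Scheme.Modules.pushforward ι₀).obj P :=
    (Scheme.Modules.pullbackPushforwardAdjunction ι₀).unit.app M
  change IsQuot a η
  haveI hP : P.IsQuasicoherent := QC.isQCoh_pullback ι₀ hM
  have hN : Coh.IsQCoh ((Scheme.Modules.pushforward ι₀).obj P) := QC.isQCoh_pushforward ι₀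
  let e : (⊤ : (Spec ((Spec (CommRingCat.of A)).residueField y₀)).Opens) ≤ g₀ ⁻¹ᵁ ⊤ := le_top
  let Sr := Γ(Spec (CommRingCat.of A), ⊤)
  let cA : A → Sr := fun x => (Scheme.ΓSpecIso (CommRingCat.of A)).inv x
  have hzero : ∀ i, ((g₀).appLE ⊤ ⊤ e).hom (cA (a i)) = 0 := fun i => (appLE_point (cA (a i)) e).1.2 (by
    rw [show (Scheme.ΓSpecIso (CommRingCat.of A)).hom.hom (cA (a i)) = a i from
      congr(($((Scheme.ΓSpecIso (CommRingCat.of A)).inv_hom_id)).hom (a i))]
    exact ha ▸ Ideal.subset_span ⟨i, rfl⟩)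
  have hsm : ∀ i, Formal.smulMod A M (a i) ≫ η = 0 := fun i => by
    apply Scheme.Modules.hom_ext
    intro W
    ext s
    change η.app W ((show Γ(X, W) from Coh.resTop X (op W) (Coh.toGlobal π₀ (a i))) • (show Γ(M, W) from s)) = 0
    rw [← secSmul_eq (le_top : W ≤ π₀ ⁻¹ᵁ ⊤), Scheme.Modules.Hom.app_smul]
    change ((ι₀).app W).hom (((π₀).appLE ⊤ W le_top).hom (cA (a i))) • (show Γ(P, ι₀ ⁻¹ᵁ W) from η.app W s) = (0 : Γ(P, ι₀ ⁻¹ᵁ W))
    have h2 : (π₀).appLE ⊤ W le_top ≫ (ι₀).app W =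
        (g₀).appLE ⊤ ⊤ e ≫ (Scheme.Hom.fiberToSpecResidueField π₀ y₀).appLE ⊤ (ι₀ ⁻¹ᵁ W) le_top := by
      rw [(ι₀).app_eq_appLE, Scheme.Hom.appLE_comp_appLE, Scheme.Hom.appLE_comp_appLE]
      congr 1
      exact Scheme.Hom.fiber_fac _ _
    rw [show ((ι₀).app W).hom (((π₀).appLE ⊤ W le_top).hom (cA (a i))) =
      ((Scheme.Hom.fiberToSpecResidueField π₀ y₀).appLE ⊤ (ι₀ ⁻¹ᵁ W) le_top).hom (((g₀).appLE ⊤ ⊤ e).hom (cA (a i))) from
      congr(($h2).hom (cA (a i))), hzero, map_zero, zero_smul]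
  -- exactness on affine sections
  have hex : ∀ (O : X.Opens) (_ : IsAffineOpen O), Function.Surjective (η.app O) ∧
      ∀ s, η.app O s = 0 → ∃ t : Fin n → Γ(M, O), s = ∑ i, (Formal.smulMod A M (a i)).app O (t i) := by
    intro O hO
    have hOV : ∀ O : X.Opens, ι₀ ⁻¹ᵁ O ≤
        Scheme.Hom.fiberToSpecResidueField π₀ y₀ ⁻¹ᵁ (⊤ : (Spec ((Spec (CommRingCat.of A)).residueField y₀)).Opens) :=
      fun _ => le_top
    letI : Algebra Sr Γ(Spec ((Spec (CommRingCat.of A)).residueField y₀), ⊤) := ((g₀).appLE ⊤ ⊤ e).hom.toAlgebra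
    letI := Module.compHom (W7Cech.SM (Scheme.Hom.fiberToSpecResidueField π₀ y₀) P (ι₀ ⁻¹ᵁ O) (hOV O) : Type u)
      ((g₀).appLE ⊤ ⊤ e).hom
    haveI : IsScalarTower Sr Γ(Spec ((Spec (CommRingCat.of A)).residueField y₀), ⊤)
        (W7Cech.SM (Scheme.Hom.fiberToSpecResidueField π₀ y₀) P (ι₀ ⁻¹ᵁ O) (hOV O) : Type u) :=
      IsScalarTower.of_algebraMap_smul fun _ _ => rfl
    have sq : IsPullback ι₀ (Scheme.Hom.fiberToSpecResidueField π₀ y₀) π₀ g₀ := IsPullback.of_hasPullback π₀ g₀
    have hbc := W7Cech.isBaseChange_pullPiece (f := π₀) M e sq hM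
      (isAffineOpen_top _) (isAffineOpen_top _) (O := O) le_top hO (O' := ι₀ ⁻¹ᵁ O) (by simp)
    obtain ⟨h1, h2⟩ := baseChange_of_surjective (fun b => (appLE_point 0 e).2 b) _ hbc
    have hval : ∀ s : Γ(M, O), ModDesc.pullSectLE ι₀ M O (ι₀ ⁻¹ᵁ O) le_rfl s = η.app O s := fun s =>
      QC.res_self _ _ _
    refine ⟨fun t => ?_, fun s hs => ?_⟩
    · obtain ⟨s, hs⟩ := h1 (show (W7Cech.SM (Scheme.Hom.fiberToSpecResidueField π₀ y₀) P (ι₀ ⁻¹ᵁ O) (hOV O) : Type u) from t)
      exact ⟨(show Γ(M, O) from s), (hval _).symm.trans hs⟩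
    · have hm := h2 (show (W7Cech.SM π₀ M O le_top : Type u) from s) ((hval s).trans hs)
      have hker : RingHom.ker (algebraMap Sr Γ(Spec ((Spec (CommRingCat.of A)).residueField y₀), ⊤)) ≤
          Ideal.span (Set.range fun i => cA (a i)) := fun c hc => by
        have hc' := (appLE_point c e).1.1 hc
        rw [← ha] at hc'
        obtain ⟨d, rfl⟩ := (ConcreteCategory.bijective_of_isIso (Scheme.ΓSpecIso (CommRingCat.of A)).inv).2 c
        rw [show (Scheme.ΓSpecIso (CommRingCat.of A)).hom.hom ((Scheme.ΓSpecIso (CommRingCat.of A)).inv d) = d from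
          congr(($((Scheme.ΓSpecIso (CommRingCat.of A)).inv_hom_id)).hom d)] at hc'
        have := Ideal.mem_map_of_mem (Scheme.ΓSpecIso (CommRingCat.of A)).inv.hom hc'
        rw [Ideal.map_span, ← Set.range_comp] at this
        exact this
      suffices key : ∀ z ∈ Ideal.span (Set.range fun i => cA (a i)) •
          (⊤ : Submodule Sr (W7Cech.SM (U := ⊤) π₀ M O le_top : Type u)),
          ∃ t : Fin n → Γ(M, O), (show Γ(M, O) from z) = ∑ i, (Formal.smulMod A M (a i)).app O (t i) from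
        key _ (Submodule.smul_mono_left hker hm)
      intro w hw
      induction hw using Submodule.smul_induction_on' with
      | smul c hc z _ =>
        obtain ⟨d, hd⟩ := (Ideal.mem_span_range_iff_exists_fun).1 hc
        refine ⟨fun i => ((π₀).appLE ⊤ O le_top).hom (d i) • (show Γ(M, O) from z), ?_⟩
        rw [← hd]
        change ((π₀).appLE ⊤ O le_top).hom (∑ i, d i * cA (a i)) • (show Γ(M, O) from z) = _
        rw [map_sum, Finset.sum_smul]
        refine Finset.sum_congr rfl fun i _ => ?_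
        change _ = (show Γ(X, O) from Coh.resTop X (op O) (Coh.toGlobal π₀ (a i))) •
          (((π₀).appLE ⊤ O le_top).hom (d i) • (show Γ(M, O) from z))
        rw [← secSmul_eq (le_top : O ≤ π₀ ⁻¹ᵁ ⊤), map_mul, mul_comm, mul_smul]
      | add z _ z' _ hz hz' =>
        obtain ⟨t, ht⟩ := hz
        obtain ⟨t', ht'⟩ := hz'
        refine ⟨fun i => t i + t' i, ?_⟩
        simp only [map_add, Finset.sum_add_distrib]
        exact congrArg₂ (· + ·) ht ht'
  -- comparison with the cokernel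
  let σ : (⨁ fun _ : Fin n => M) ⟶ M := biproduct.desc fun i => Formal.smulMod A M (a i)
  have hσ : σ ≫ η = 0 := biproduct.hom_ext' _ _ fun i => by rw [biproduct.ι_desc_assoc, comp_zero, hsm i]
  have hB : Coh.IsQCoh (⨁ fun _ : Fin n => M) := by
    refine QC.isQCoh_of_iso (biproduct.isoCoproduct _).symm ?_
    exact QC.isQCoh_of_iso (HasColimit.isoOfEquivalence
      (F := Discrete.functor fun _ : ULift.{u} (Fin n) => M) (G := Discrete.functor fun _ : Fin n => M)
      (Discrete.equivalence Equiv.ulift) (Discrete.natIso fun _ => Iso.refl _))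
      (QC.isQCoh_colimit (Discrete.functor fun _ : ULift.{u} (Fin n) => M) fun _ => hM)
  have hQ : Coh.IsQCoh (cokernel σ) := QC.isQCoh_cokernel hB hM σ
  let d := cokernel.desc σ η hσ
  have hbij : ∀ (O : X.Opens) (_ : IsAffineOpen O), Function.Bijective (d.app O) := fun O hO => by
    have hπ := QC.app_surjective_of_epi hO hM hQ (cokernel.π σ)
    have hd : ∀ s, d.app O ((cokernel.π σ).app O s) = η.app O s := fun s =>
      congr(($(cokernel.π_desc σ η hσ)).app O s)
    refine ⟨(injective_iff_map_eq_zero _).2 fun q hq => ?_, fun t => ?_⟩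
    · obtain ⟨s, rfl⟩ := hπ q
      rw [hd] at hq
      obtain ⟨t, rfl⟩ := (hex O hO).2 s hq
      rw [map_sum]
      refine Finset.sum_eq_zero fun i _ => ?_
      have h0 : Formal.smulMod A M (a i) ≫ cokernel.π σ = 0 := by
        rw [← biproduct.ι_desc (f := fun _ : Fin n => M) (fun i => Formal.smulMod A M (a i)) i, Category.assoc,
          cokernel.condition, comp_zero]
      exact congr(($h0).app O (t i))
    · obtain ⟨s, rfl⟩ := (hex O hO).1 t
      exact ⟨_, hd s⟩
  haveI : IsIso d := by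
    refine RelTilde.isIso_of_bijective_near d fun x => ?_
    obtain ⟨U, hU, hxU, -⟩ := exists_isAffineOpen_mem_and_subset (Opens.mem_top x)
    haveI := QC.isIso_restrict_of_bijective hU hQ hN d (hbij U hU)
    refine ⟨U, hxU, fun V hV => ?_⟩
    have h1 : Function.Bijective (d.app (hU.fromSpec ''ᵁ (hU.fromSpec ⁻¹ᵁ V))) :=
      ConcreteCategory.bijective_of_isIso
        (((Scheme.Modules.restrictFunctor hU.fromSpec).map d).app (hU.fromSpec ⁻¹ᵁ V))
    rwa [Scheme.Hom.image_preimage_eq_opensRange_inf, hU.opensRange_fromSpec, inf_eq_right.mpr hV] at h1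
  refine ⟨hsm, ?_, fun {Z} k hk => ⟨inv d ≫ cokernel.desc σ k (biproduct.hom_ext' _ _ fun i => by
    rw [biproduct.ι_desc_assoc, comp_zero, hk i]), ?_⟩⟩
  · rw [show η = cokernel.π σ ≫ d from (cokernel.π_desc _ _ _).symm]
    infer_instance
  · conv_lhs => rw [show η = cokernel.π σ ≫ d from
      (cokernel.π_desc _ _ _).symm]
    rw [Category.assoc, IsIso.hom_inv_id_assoc, cokernel.π_desc]

end Fibre

end Groth.Agent.W7Hull
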