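import Groth.Agent.W7Hull.Sub

/-!
Injective hulls of modules on a scheme.
-/

set_option autoImplicit false
set_option backward.isDefEq.respectTransparency false
set_option linter.style.haveILetI false

universe u

open CategoryTheory CategoryTheory.Limits AlgebraicGeometry TopologicalSpace Opposite

noncomputable section

namespace Groth.Agent.W7Hull

variable {X : Scheme.{u}} {M N : X.Modules}

/-- The target contains no nonzero submodule meeting the source trivially on all stalks. -/
def Essential (j : N ⟶ M) : Prop :=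
  ∀ B : Subobject M, (∀ x z, z ∈ stImg B x → z ∈ LinearMap.range (st j x) → z = 0) → B = ⊥

variable {I : X.Modules}

lemma stImg_iSup_directed {s : Set (Subobject I)} (hs : DirectedOn (· ≤ ·) s) (hne : s.Nonempty)
    (x : X) {z : I.presheaf.stalk x} (hz : z ∈ stImg (sSup s) x) : ∃ A ∈ s, z ∈ stImg A x := by
  haveI : Nonempty s := hne.to_subtype
  let e : Shrink.{u} s ≃ s := (equivShrink s).symm
  haveI : Nonempty (Shrink.{u} s) := e.symm.nonempty_congr.1 inferInstance
  rw [show sSup s = ⨆ i : Shrink.{u} s, (e i : Subobject I) by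
    rw [sSup_eq_iSup', ← e.surjective.iSup_comp], stImg_iSup,
    Submodule.mem_iSup_of_directed] at hz
  · obtain ⟨i, hi⟩ := hz
    exact ⟨_, (e i).2, hi⟩
  · intro a b
    obtain ⟨C, hC, h₁, h₂⟩ := hs _ (e a).2 _ (e b).2
    exact ⟨e.symm ⟨C, hC⟩, stImg_mono (by simpa using h₁) x, stImg_mono (by simpa using h₂) x⟩

/-- Maximal element of a family of subobjects closed under unions of chains. -/
lemma exists_maximal (P : Subobject I → Prop) (h0 : ∃ A, P A)
    (h : ∀ s : Set (Subobject I), (∀ A ∈ s, P A) → IsChain (· ≤ ·) s → s.Nonempty → P (sSup s)) :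
    ∃ A, P A ∧ ∀ B, P B → A ≤ B → B = A := by
  obtain ⟨A₀, hA₀⟩ := h0
  obtain ⟨A, -, hA⟩ := zorn_le_nonempty₀ {A | P A}
    (fun c hc hchain y hy => ⟨sSup c, h c hc hchain ⟨y, hy⟩, fun z hz => le_sSup hz⟩) A₀ hA₀
  exact ⟨A, hA.prop, fun B hB hAB => le_antisymm (hA.le_of_ge hB hAB) hAB⟩

variable [Injective I]

theorem exists_hull_aux (j : N ⟶ I) [Mono j] :
    ∃ (A : Subobject I) (j' : N ⟶ A), j' ≫ A.arrow = j ∧ Injective (A : X.Modules) ∧
      ∀ B : Subobject I, B ≤ A → (∀ x z, z ∈ stImg B x → z ∈ LinearMap.range (st j x) → z = 0) →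
        B = ⊥ := by
  let Ess : Subobject I → Prop := fun A => Subobject.mk j ≤ A ∧
    ∀ B : Subobject I, B ≤ A → B ⊓ Subobject.mk j = ⊥ → B = ⊥
  obtain ⟨A, ⟨hjA, hA⟩, hmax⟩ := exists_maximal Ess
    ⟨Subobject.mk j, le_rfl, fun B hB h => by rwa [inf_eq_left.2 hB] at h⟩
    (fun s hs hc hne => ⟨(hs _ hne.some_mem).1.trans (le_sSup hne.some_mem), fun B hB hBj =>
      eq_bot_of_stImg fun x z hz => by
        obtain ⟨A, hA, hzA⟩ := stImg_iSup_directed hc.directedOn hne x (stImg_mono hB x hz)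
        have h0 : B ⊓ A = ⊥ := (hs A hA).2 _ inf_le_right
          (le_bot_iff.1 ((inf_le_inf_right _ inf_le_left).trans hBj.le))
        have hm : z ∈ stImg (B ⊓ A) x := (stImg_inf B A x).symm ▸ ⟨hz, hzA⟩
        rwa [h0, stImg_bot] at hm⟩)
  obtain ⟨B, hBA, hBmax⟩ := exists_maximal (fun B : Subobject I => B ⊓ A = ⊥) ⟨⊥, bot_inf_eq A⟩
    (fun s hs hc hne => eq_bot_of_stImg fun x z hz => by
      rw [stImg_inf] at hz
      obtain ⟨B, hB, hzB⟩ := stImg_iSup_directed hc.directedOn hne x hz.1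
      have hm : z ∈ stImg (B ⊓ A) x := (stImg_inf B A x).symm ▸ ⟨hzB, hz.2⟩
      rwa [hs B hB, stImg_bot] at hm)
  let q := cokernel.π B.arrow
  have hqB : ∀ x z, st q x z = 0 ↔ z ∈ stImg B x := fun x z =>
    ⟨st_exact_cokernel _ x z, fun ⟨w, hw⟩ => by
      rw [← hw, ← st_comp, cokernel.condition, st_zero]⟩
  let f := A.arrow ≫ q
  haveI hf : Mono f := mono_of_stalk fun x => (injective_iff_map_eq_zero _).2 fun z hz => by
    rw [st_comp, hqB] at hz
    have hm : st A.arrow x z ∈ stImg (B ⊓ A) x := (stImg_inf B A x).symm ▸ ⟨hz, ⟨z, rfl⟩⟩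
    rw [hBA, stImg_bot, Submodule.mem_bot] at hm
    exact st_injective A.arrow x (hm.trans (map_zero _).symm)
  let l := Injective.factorThru A.arrow f
  have hl : f ≫ l = A.arrow := Injective.comp_factorThru _ _
  have hqA : ∀ x (z : (A : X.Modules).presheaf.stalk x), st l x (st q x (st A.arrow x z)) = st A.arrow x z :=
    fun x z => by rw [← st_comp, ← st_comp, show A.arrow ≫ q ≫ l = f ≫ l from (Category.assoc _ _ _).symm, hl]
  haveI hlm : Mono l := mono_of_stalk fun x => (injective_iff_map_eq_zero _).2 fun z hz => by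
    let P := kernelSubobject (q ≫ l)
    have hP : ∀ x w, w ∈ stImg P x → st l x (st q x w) = 0 := by
      rintro x _ ⟨v, rfl⟩
      rw [← st_comp, ← st_comp, kernelSubobject_arrow_comp, st_zero]
    have hBP : B ≤ P := le_kernelSubobject _ _ (by rw [← Category.assoc, cokernel.condition, zero_comp])
    have hPB : P = B := hBmax P (eq_bot_of_stImg fun x w hw => by
      rw [stImg_inf] at hw
      obtain ⟨v, rfl⟩ := hw.2
      have := hP x _ hw.1
      rw [hqA] at this
      exact (Submodule.mem_bot _).2 this) hBP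
    obtain ⟨w, rfl⟩ := (ModuleCat.epi_iff_surjective _).1
      (Functor.map_epi (DerSch.stalkFunctor X x) q) z
    have hw : w ∈ stImg P x := by
      obtain ⟨v, hv⟩ := st_exact_kernel (q ≫ l) x w ((st_comp q l x w).trans hz)
      refine ⟨st (kernelSubobjectIso (q ≫ l)).inv x v, ?_⟩
      rw [← st_comp, ← hv]
      simp [P]
    rw [hPB] at hw
    exact (hqB x w).2 hw
  have hAl : A ≤ Subobject.mk l := Subobject.le_mk_of_comm f hl
  have hess : Ess (Subobject.mk l) := by
    refine ⟨hjA.trans hAl, fun C hC hCj => ?_⟩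
    have hCA : C ⊓ A = ⊥ := hA _ inf_le_right (le_bot_iff.1 ((inf_le_inf_right _ inf_le_left).trans hCj.le))
    obtain ⟨t, ht⟩ : ∃ t : (C : X.Modules) ⟶ cokernel B.arrow, t ≫ l = C.arrow :=
      ⟨Subobject.ofLEMk C l hC, Subobject.ofLEMk_comp hC⟩
    let g := q ≫ cokernel.π t
    let P := kernelSubobject g
    have hP : ∀ x w, w ∈ stImg P x → st q x w ∈ LinearMap.range (st t x) := by
      rintro x _ ⟨v, rfl⟩
      apply st_exact_cokernel
      rw [← st_comp, ← st_comp, show P.arrow ≫ q ≫ cokernel.π t = 0 from kernelSubobject_arrow_comp g,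
        st_zero]
    have hBP : B ≤ P := le_kernelSubobject _ _ (by
      simp only [g, q]; rw [← Category.assoc, cokernel.condition, zero_comp])
    have hPB : P = B := hBmax P (eq_bot_of_stImg fun x w hw => by
      rw [stImg_inf] at hw
      obtain ⟨v, rfl⟩ := hw.2
      obtain ⟨c, hc⟩ := hP x _ hw.1
      have hm : st A.arrow x v ∈ stImg (C ⊓ A) x := by
        rw [stImg_inf]
        refine ⟨⟨c, ?_⟩, ⟨v, rfl⟩⟩
        rw [← ht, st_comp, hc, hqA]
      rwa [hCA, stImg_bot] at hm) hBP
    refine eq_bot_of_stImg fun x w hw => ?_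
    obtain ⟨c, rfl⟩ := hw
    obtain ⟨y, hy⟩ := (ModuleCat.epi_iff_surjective _).1
      (Functor.map_epi (DerSch.stalkFunctor X x) q) (st t x c)
    have hy' : y ∈ stImg P x := by
      have h0 : st g x y = 0 := by
        rw [st_comp, show st q x y = st t x c from hy, ← st_comp, cokernel.condition, st_zero]
      obtain ⟨v, hv⟩ := st_exact_kernel g x y h0
      refine ⟨st (kernelSubobjectIso g).inv x v, ?_⟩
      rw [← st_comp, ← hv]
      simp [P]
    rw [hPB] at hy'
    have h0 := (hqB x y).2 hy'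
    rw [show st q x y = st t x c from hy] at h0
    rw [← ht, st_comp, h0, map_zero]
    exact Submodule.zero_mem _
  have heq : Subobject.mk l = A := hmax _ hess hAl
  haveI : IsIso f := by
    haveI : Epi f := epi_of_stalk fun x z => by
      have hz : st l x z ∈ stImg A x := heq ▸ ((stImg_mk l x).symm ▸ ⟨z, rfl⟩)
      obtain ⟨a, ha⟩ := hz
      refine ⟨a, st_injective l x ?_⟩
      rw [← st_comp, hl]
      exact ha
    exact isIso_of_mono_of_epi f
  have hinj : Injective (A : X.Modules) := Retract.injective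
    ⟨A.arrow, q ≫ inv f, by rw [← Category.assoc]; exact IsIso.hom_inv_id f⟩
  refine ⟨A, Subobject.ofMkLE j A hjA, Subobject.ofMkLE_arrow hjA, hinj, fun C hC hd =>
    hA C hC (eq_bot_of_stImg fun x z hz => ?_)⟩
  rw [stImg_inf, stImg_mk] at hz
  exact (Submodule.mem_bot _).2 (hd x z hz.1 hz.2)

omit [Injective I] in
/-- Every module on a scheme has an injective hull. -/
theorem exists_hull (N : X.Modules) :
    ∃ (A : X.Modules) (j : N ⟶ A), Injective A ∧ Mono j ∧ Essential j := by
  let ι := Injective.ι N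
  obtain ⟨A, j', hj', hA, hess⟩ := exists_hull_aux ι
  haveI : Mono j' := mono_of_mono_fac hj'
  refine ⟨A, j', hA, inferInstance, fun B hB => ?_⟩
  have h0 := hess (Subobject.mk (B.arrow ≫ A.arrow)) (Subobject.mk_le_of_comm B.arrow rfl) (fun x z hz hzj => by
    rw [stImg_mk] at hz
    obtain ⟨b, rfl⟩ := hz
    obtain ⟨n, hn⟩ := hzj
    rw [← hj', st_comp, st_comp] at hn
    have := hB x _ ⟨b, rfl⟩ ⟨n, st_injective A.arrow x hn⟩
    rw [st_comp, this, map_zero])
  refine eq_bot_of_stImg fun x z hz => ?_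
  obtain ⟨b, rfl⟩ := hz
  have hm : st A.arrow x (st B.arrow x b) ∈ stImg (⊥ : Subobject (Injective.under N)) x :=
    h0 ▸ ((stImg_mk (B.arrow ≫ A.arrow) x).symm ▸ ⟨b, st_comp _ _ x b⟩)
  rw [stImg_bot, Submodule.mem_bot] at hm
  exact (Submodule.mem_bot _).2 (st_injective A.arrow x (hm.trans (map_zero _).symm))

end Groth.Agent.W7Hull
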